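/-
Transvections x ↦ x + (φ ⬝ᵥ x) • v in GL(ι, F), and the fact that they generate the special linear group.
-/
import Mathlib
import Cfsg.Prelude.Def_GeometricClasses

set_option autoImplicit false

namespace CfsgLib.Transvec

open Matrix
open scoped MatrixGroups

variable {ι : Type} [Fintype ι] [DecidableEq ι] {F : Type*} [Field F]

/-- The transvection `x ↦ x + (φ ⬝ᵥ x) • v`; it is the identity unless `φ ⬝ᵥ v = 0`. -/
noncomputable def transv (v φ : ι → F) : GL ι F :=
  haveI := Classical.propDecidable (φ ⬝ᵥ v = 0)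
  if h : φ ⬝ᵥ v = 0 then
    { val := 1 + vecMulVec v φ
      inv := 1 + vecMulVec v (-φ)
      val_inv := by
        rw [Matrix.vecMulVec_neg, add_mul, mul_add, mul_add, one_mul, one_mul, mul_one, mul_neg,
          vecMulVec_mul_vecMulVec, h]
        simp
      inv_val := by
        rw [Matrix.vecMulVec_neg, add_mul, mul_add, mul_add, one_mul, one_mul, mul_one, neg_mul,
          vecMulVec_mul_vecMulVec, h]
        simp }
  else 1

lemma transv_val {v φ : ι → F} (h : φ ⬝ᵥ v = 0) :
    (transv v φ : Matrix ι ι F) = 1 + vecMulVec v φ := by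
  rw [transv, dif_pos h]

lemma gl_ext {g h : GL ι F} (H : ∀ x, (g : Matrix ι ι F) *ᵥ x = (h : Matrix ι ι F) *ᵥ x) : g = h :=
  Units.ext (Matrix.ext_of_mulVec_single fun i => H _)

lemma transv_mulVec {v φ : ι → F} (h : φ ⬝ᵥ v = 0) (x : ι → F) :
    (transv v φ : Matrix ι ι F) *ᵥ x = x + (φ ⬝ᵥ x) • v := by
  rw [transv_val h, add_mulVec, one_mulVec, vecMulVec_mulVec, op_smul_eq_smul]

lemma mul_mulVec (g h : GL ι F) (x : ι → F) :
    ((g * h : GL ι F) : Matrix ι ι F) *ᵥ x = (g : Matrix ι ι F) *ᵥ ((h : Matrix ι ι F) *ᵥ x) := by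
  rw [Units.val_mul, mulVec_mulVec]

lemma inv_mulVec_cancel (g : GL ι F) (x : ι → F) :
    ((g⁻¹ : GL ι F) : Matrix ι ι F) *ᵥ ((g : Matrix ι ι F) *ᵥ x) = x := by
  rw [mulVec_mulVec, ← Units.val_mul, inv_mul_cancel, Units.val_one, one_mulVec]

lemma mulVec_inv_cancel (g : GL ι F) (x : ι → F) :
    (g : Matrix ι ι F) *ᵥ (((g⁻¹ : GL ι F) : Matrix ι ι F) *ᵥ x) = x := by
  rw [mulVec_mulVec, ← Units.val_mul, mul_inv_cancel, Units.val_one, one_mulVec]

lemma mulVec_injective (g : GL ι F) : Function.Injective ((g : Matrix ι ι F) *ᵥ ·) :=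
  Function.LeftInverse.injective (inv_mulVec_cancel g)

lemma mulVec_ne_zero (g : GL ι F) {x : ι → F} (hx : x ≠ 0) : (g : Matrix ι ι F) *ᵥ x ≠ 0 :=
  fun h => hx (mulVec_injective g (by simpa using h))

@[simp] lemma transv_zero (v : ι → F) : transv v 0 = 1 :=
  gl_ext fun x => by rw [transv_mulVec (zero_dotProduct v)]; simp

lemma transv_mul {v φ ψ : ι → F} (h : φ ⬝ᵥ v = 0) (h' : ψ ⬝ᵥ v = 0) :
    transv v φ * transv v ψ = transv v (φ + ψ) := by
  refine gl_ext fun x => ?_
  rw [mul_mulVec, transv_mulVec h', transv_mulVec h, transv_mulVec (by rw [add_dotProduct, h, h', add_zero]),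
    dotProduct_add, dotProduct_smul, h, add_dotProduct, smul_zero, add_zero, add_smul]
  abel

lemma transv_inv {v φ : ι → F} (h : φ ⬝ᵥ v = 0) : (transv v φ)⁻¹ = transv v (-φ) := by
  rw [inv_eq_iff_mul_eq_one, transv_mul h (by rw [neg_dotProduct, h, neg_zero]), add_neg_cancel, transv_zero]

lemma transv_smul_left {v φ : ι → F} (a : F) (h : φ ⬝ᵥ v = 0) :
    transv (a • v) φ = transv v (a • φ) := by
  refine gl_ext fun x => ?_
  rw [transv_mulVec (by rw [dotProduct_smul, h, smul_zero]), transv_mulVec (by rw [smul_dotProduct, h, smul_zero]),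
    smul_dotProduct, smul_eq_mul, smul_smul, mul_comm]

lemma vecMul_inv_dotProduct (g : GL ι F) (φ v : ι → F) :
    (φ ᵥ* ((g⁻¹ : GL ι F) : Matrix ι ι F)) ⬝ᵥ ((g : Matrix ι ι F) *ᵥ v) = φ ⬝ᵥ v := by
  rw [← dotProduct_mulVec, inv_mulVec_cancel]

/-- Conjugates of transvections. -/
lemma conj_transv (g : GL ι F) {v φ : ι → F} (h : φ ⬝ᵥ v = 0) :
    g * transv v φ * g⁻¹ = transv ((g : Matrix ι ι F) *ᵥ v) (φ ᵥ* ((g⁻¹ : GL ι F) : Matrix ι ι F)) := by
  refine gl_ext fun x => ?_
  rw [mul_mulVec, mul_mulVec, transv_mulVec h, transv_mulVec (by rw [vecMul_inv_dotProduct, h]),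
    mulVec_add, mulVec_inv_cancel, mulVec_smul, ← dotProduct_mulVec]

lemma transv_mem_specialLinear (v φ : ι → F) : transv v φ ∈ Cfsg.Geo.specialLinear ι F := by
  rw [Cfsg.Geo.specialLinear, MonoidHom.mem_ker]
  by_cases h : φ ⬝ᵥ v = 0
  · refine Units.ext ?_
    rw [Matrix.GeneralLinearGroup.val_det_apply, transv_val h, vecMulVec_eq Unit,
      det_one_add_replicateCol_mul_replicateRow, h, add_zero, Units.val_one]
  · rw [transv, dif_neg h, map_one]

lemma mem_specialLinear_iff (g : GL ι F) :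
    g ∈ Cfsg.Geo.specialLinear ι F ↔ (g : Matrix ι ι F).det = 1 := by
  rw [Cfsg.Geo.specialLinear, MonoidHom.mem_ker, Units.ext_iff, Matrix.GeneralLinearGroup.val_det_apply,
    Units.val_one]

lemma single_dotProduct_single {i j : ι} (hij : i ≠ j) (a : F) :
    (Pi.single j a : ι → F) ⬝ᵥ Pi.single i (1 : F) = 0 := by
  simp [hij.symm]

lemma toGL_transvection {i j : ι} (hij : i ≠ j) (a : F) :
    Matrix.SpecialLinearGroup.toGL (Matrix.SpecialLinearGroup.transvection hij a) =
      transv (Pi.single i (1 : F)) (Pi.single j a) := by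
  refine Units.ext ?_
  rw [transv_val (single_dotProduct_single hij a)]
  simp [Matrix.SpecialLinearGroup.transvection_coe, Matrix.transvection]
  ext k l
  simp only [vecMulVec_apply, Matrix.single_apply, Pi.single_apply]
  grind

lemma diag2n_eq {i j : ι} (hij : i ≠ j) {a : F} (ha : a ≠ 0) :
    Matrix.SpecialLinearGroup.diag2n hij a ha =
      Matrix.SpecialLinearGroup.transvection hij a * Matrix.SpecialLinearGroup.transvection hij.symm (-a⁻¹) *
        Matrix.SpecialLinearGroup.transvection hij a * (Matrix.SpecialLinearGroup.transvection hij (-1) *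
        Matrix.SpecialLinearGroup.transvection hij.symm 1 * Matrix.SpecialLinearGroup.transvection hij (-1)) := by
  refine Subtype.ext ?_
  simp only [Matrix.SpecialLinearGroup.coe_mul, Matrix.SpecialLinearGroup.transvection_coe,
    Matrix.SpecialLinearGroup.diag2n_coe]
  ext k l
  simp only [Matrix.transvection, add_mul, mul_add, one_mul, mul_one, Matrix.add_apply, Matrix.single_mul_single_same,
    Matrix.single_mul_single_of_ne _ _ _ _ hij, Matrix.single_mul_single_of_ne _ _ _ _ hij.symm,
    Matrix.single_apply, Matrix.one_apply, Matrix.diagonal_apply, mul_zero, zero_mul, add_zero, zero_add]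
  by_cases hk : k = i <;> by_cases hl : l = i <;> by_cases hk' : k = j <;> by_cases hl' : l = j <;>
    simp_all [Ne.symm hij, eq_comm] <;> field_simp <;> ring

/-- A subgroup containing every transvection contains the special linear group. -/
theorem specialLinear_le {M : Subgroup (GL ι F)}
    (hM : ∀ v φ : ι → F, φ ⬝ᵥ v = 0 → transv v φ ∈ M) : Cfsg.Geo.specialLinear ι F ≤ M := by
  intro g hg
  rw [mem_specialLinear_iff] at hg
  rcases subsingleton_or_nontrivial ι with h | h
  · have : g = 1 := by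
      refine Units.ext (Matrix.ext fun i j => ?_)
      rw [Subsingleton.elim j i, Units.val_one, Matrix.one_apply_eq]
      letI := uniqueOfSubsingleton i
      rwa [det_unique, Subsingleton.elim (default : ι) i] at hg
    rw [this]; exact M.one_mem
  have key : ∀ s : Matrix.SpecialLinearGroup ι F, s ∈ M.comap Matrix.SpecialLinearGroup.toGL := by
    intro s
    have ht : ∀ (i j : ι) (hij : i ≠ j) (a : F),
        Matrix.SpecialLinearGroup.transvection hij a ∈ M.comap Matrix.SpecialLinearGroup.toGL := fun i j hij a => by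
      rw [Subgroup.mem_comap, toGL_transvection hij a]
      exact hM _ _ (single_dotProduct_single hij a)
    refine Matrix.SpecialLinearGroup.diagonal_transvection_induction'
      (fun s => s ∈ M.comap Matrix.SpecialLinearGroup.toGL) s (fun i j hij c hc => ?_) ht
      (fun A B => mul_mem)
    rw [diag2n_eq hij hc]
    exact mul_mem (mul_mem (mul_mem (ht _ _ hij _) (ht _ _ hij.symm _)) (ht _ _ hij _))
      (mul_mem (mul_mem (ht _ _ hij _) (ht _ _ hij.symm _)) (ht _ _ hij _))
  have e : Matrix.SpecialLinearGroup.toGL ⟨(g : Matrix ι ι F), hg⟩ = g := Units.ext rfl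
  exact e ▸ Subgroup.mem_comap.mp (key ⟨(g : Matrix ι ι F), hg⟩)

end CfsgLib.Transvec
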