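/-
Alternating forms on F^ι given as functions, their transvections, transitivity, a form of Witt's extension
theorem, and generation of the isometry group by transvections.
-/
import Cfsg.Agent.Lib.Transvec.Basic

set_option autoImplicit false

namespace CfsgLib.Transvec

open Matrix
open scoped MatrixGroups

variable {ι : Type} [Fintype ι] [DecidableEq ι] {F : Type*} [Field F]

/-- The vector representing the functional `x ↦ f x v`. -/
def fvec (f : (ι → F) → (ι → F) → F) (v : ι → F) : ι → F := fun j => f (Pi.single j 1) v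

/-- The form `f` as a bilinear map. -/
def toBilin {f : (ι → F) → (ι → F) → F} (hf : Cfsg.Geo.IsBilinearForm f) : LinearMap.BilinForm F (ι → F) :=
  LinearMap.mk₂ F f hf.add_left hf.smul_left (fun v x y => hf.add_right v x y) (fun c v x => hf.smul_right c v x)

@[simp] lemma toBilin_apply {f : (ι → F) → (ι → F) → F} (hf : Cfsg.Geo.IsBilinearForm f) (x y : ι → F) :
    toBilin hf x y = f x y := rfl

/-- `x ↦ x + c f(x, v) v`. -/
noncomputable def sT (f : (ι → F) → (ι → F) → F) (v : ι → F) (c : F) : GL ι F :=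
  transv v (c • fvec f v)

/-- `g` preserves `f`. -/
def Iso (f : (ι → F) → (ι → F) → F) (g : GL ι F) : Prop :=
  ∀ u v, f ((g : Matrix ι ι F) *ᵥ u) ((g : Matrix ι ι F) *ᵥ v) = f u v

/-- All transvections with centre `v` lie in `M`. -/
def Full (f : (ι → F) → (ι → F) → F) (M : Subgroup (GL ι F)) (v : ι → F) : Prop :=
  ∀ c : F, sT f v c ∈ M

lemma iso_one (f : (ι → F) → (ι → F) → F) : Iso f 1 := fun u v => by simp

lemma Iso.mul {f : (ι → F) → (ι → F) → F} {g h : GL ι F} (hg : Iso f g) (hh : Iso f h) : Iso f (g * h) :=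
  fun u v => by rw [mul_mulVec, mul_mulVec, hg, hh]

lemma Iso.inv {f : (ι → F) → (ι → F) → F} {g : GL ι F} (hg : Iso f g) : Iso f g⁻¹ := fun u v => by
  rw [← hg, mulVec_inv_cancel, mulVec_inv_cancel]

/-- Two functionals that are non-zero on `P` are simultaneously non-zero somewhere on `P`. -/
lemma exists_avoid {V : Type*} [AddCommGroup V] [Module F V] (P : Submodule F V) {φ ψ : V → F}
    (hφ : ∀ x y, φ (x + y) = φ x + φ y) (hψ : ∀ x y, ψ (x + y) = ψ x + ψ y)
    (h1 : ∃ x ∈ P, φ x ≠ 0) (h2 : ∃ x ∈ P, ψ x ≠ 0) : ∃ x ∈ P, φ x ≠ 0 ∧ ψ x ≠ 0 := by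
  obtain ⟨a, ha, ha'⟩ := h1
  obtain ⟨b, hb, hb'⟩ := h2
  by_cases h : ψ a = 0
  · by_cases h' : φ b = 0
    · exact ⟨a + b, P.add_mem ha hb, by rw [hφ, h', add_zero]; exact ha', by rw [hψ, h, zero_add]; exact hb'⟩
    · exact ⟨b, hb, h', hb'⟩
  · exact ⟨a, ha, ha', h⟩

section Form

variable {f : (ι → F) → (ι → F) → F} (hf : Cfsg.Geo.IsSymplecticForm f)

include hf

lemma add_left' (x y v : ι → F) : f (x + y) v = f x v + f y v := hf.bilinear.add_left x y v

lemma add_right' (v x y : ι → F) : f v (x + y) = f v x + f v y := hf.bilinear.add_right v x y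

lemma smul_left' (c : F) (x v : ι → F) : f (c • x) v = c * f x v := hf.bilinear.smul_left c x v

lemma smul_right' (c : F) (v x : ι → F) : f v (c • x) = c * f v x := hf.bilinear.smul_right c v x

lemma zero_left' (v : ι → F) : f 0 v = 0 := by
  exact LinearMap.map_zero₂ (toBilin hf.bilinear) v

lemma zero_right' (v : ι → F) : f v 0 = 0 := by
  simpa using (toBilin hf.bilinear v).map_zero

lemma neg_left' (x v : ι → F) : f (-x) v = -f x v := by
  exact LinearMap.map_neg₂ (toBilin hf.bilinear) x v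

lemma neg_right' (v x : ι → F) : f v (-x) = -f v x := by
  simpa using (toBilin hf.bilinear v).map_neg x

lemma sub_left' (x y v : ι → F) : f (x - y) v = f x v - f y v := by
  exact LinearMap.map_sub₂ (toBilin hf.bilinear) x y v

lemma sub_right' (v x y : ι → F) : f v (x - y) = f v x - f v y := by
  simpa using (toBilin hf.bilinear v).map_sub x y

lemma bilin_isRefl : (toBilin hf.bilinear).IsRefl := fun x y h => by
  rw [toBilin_apply] at h ⊢
  rw [hf.skew, h, neg_zero]

lemma bilin_nondegenerate : (toBilin hf.bilinear).Nondegenerate := by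
  constructor
  · intro x hx
    by_contra hne
    obtain ⟨y, hy⟩ := (hf.nondegenerate x hne).2
    exact hy (hx y)
  · intro x hx
    by_contra hne
    obtain ⟨y, hy⟩ := (hf.nondegenerate x hne).1
    exact hy (hx y)

lemma fvec_dot (v x : ι → F) : fvec f v ⬝ᵥ x = f x v := by
  have h : (toBilin hf.bilinear).flip v x = ∑ j, x j • (toBilin hf.bilinear).flip v (fun k => if j = k then 1 else 0) :=
    LinearMap.pi_apply_eq_sum_univ _ x
  simp only [LinearMap.BilinForm.flip_apply, LinearMap.flip_apply, toBilin_apply] at h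
  rw [h, dotProduct]
  refine Finset.sum_congr rfl fun j _ => ?_
  rw [smul_eq_mul, mul_comm, fvec]
  congr 2
  ext k
  simp [Pi.single_apply, eq_comm]

lemma sT_dot (v : ι → F) (c : F) : (c • fvec f v) ⬝ᵥ v = 0 := by
  rw [smul_dotProduct, fvec_dot hf, hf.alternating, smul_zero]

lemma sT_mulVec (v : ι → F) (c : F) (x : ι → F) :
    (sT f v c : Matrix ι ι F) *ᵥ x = x + (c * f x v) • v := by
  rw [sT, transv_mulVec (sT_dot hf v c), smul_dotProduct, fvec_dot hf, smul_eq_mul]

lemma sT_fix {v x : ι → F} (h : f x v = 0) (c : F) : (sT f v c : Matrix ι ι F) *ᵥ x = x := by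
  rw [sT_mulVec hf, h, mul_zero, zero_smul, add_zero]

lemma iso_sT (v : ι → F) (c : F) : Iso f (sT f v c) := fun x y => by
  rw [sT_mulVec hf, sT_mulVec hf, add_left' hf, add_right' hf, add_right' hf, smul_left' hf, smul_left' hf,
    smul_right' hf, smul_right' hf, hf.alternating, hf.skew v y]
  ring

lemma sT_inv (v : ι → F) (c : F) : (sT f v c)⁻¹ = sT f v (-c) := by
  rw [sT, sT, transv_inv (sT_dot hf v c), neg_smul]

lemma sT_mul (v : ι → F) (c d : F) : sT f v c * sT f v d = sT f v (c + d) := by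
  rw [sT, sT, sT, transv_mul (sT_dot hf v c) (sT_dot hf v d), add_smul]

lemma sT_zero (v : ι → F) : sT f v 0 = 1 := by rw [sT, zero_smul, transv_zero]

lemma sT_smul (v : ι → F) (a c : F) : sT f (a • v) c = sT f v (a ^ 2 * c) :=
  gl_ext fun x => by
    rw [sT_mulVec hf, sT_mulVec hf, smul_right' hf, smul_smul]
    congr 2
    ring

/-- Conjugates of form transvections by similarities. -/
lemma conj_sT {g : GL ι F} {μ : F} (hμ : μ ≠ 0)
    (hg : ∀ u v, f ((g : Matrix ι ι F) *ᵥ u) ((g : Matrix ι ι F) *ᵥ v) = μ * f u v) (v : ι → F) (c : F) :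
    g * sT f v c * g⁻¹ = sT f ((g : Matrix ι ι F) *ᵥ v) (c / μ) := by
  refine gl_ext fun x => ?_
  have h := hg (((g⁻¹ : GL ι F) : Matrix ι ι F) *ᵥ x) v
  rw [mulVec_inv_cancel] at h
  rw [mul_mulVec, mul_mulVec, sT_mulVec hf, sT_mulVec hf, mulVec_add, mulVec_inv_cancel, mulVec_smul, h]
  congr 2
  field_simp

lemma conj_sT_iso {g : GL ι F} (hg : Iso f g) (v : ι → F) (c : F) :
    g * sT f v c * g⁻¹ = sT f ((g : Matrix ι ι F) *ᵥ v) c := by
  rw [conj_sT hf one_ne_zero (fun u w => by rw [one_mul]; exact hg u w) v c, div_one]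

variable {M : Subgroup (GL ι F)}

lemma full_conj {g : GL ι F} (hgM : g ∈ M) (hg : Iso f g) {v : ι → F} (hv : Full f M v) :
    Full f M ((g : Matrix ι ι F) *ᵥ v) := fun c => by
  rw [← conj_sT_iso hf hg]
  exact M.mul_mem (M.mul_mem hgM (hv c)) (M.inv_mem hgM)

lemma full_zero : Full f M 0 := fun c => by
  have : sT f 0 c = 1 := gl_ext fun x => by rw [sT_mulVec hf]; simp
  rw [this]; exact M.one_mem

lemma full_smul {v : ι → F} (hv : Full f M v) (a : F) : Full f M (a • v) := fun c => by
  rw [sT_smul hf]; exact hv _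

/-- The basic closure property of the set of full centres. -/
lemma full_add {v w : ι → F} (hv : Full f M v) (hw : Full f M w) (c : F) :
    Full f M (v + (c * f v w) • w) := by
  rw [← sT_mulVec hf]
  exact full_conj hf (hw c) (iso_sT hf w c) hv

/-- Variant of `full_add`: if `f v w ≠ 0` every `v + d • w` is full. -/
lemma full_add_smul {v w : ι → F} (hv : Full f M v) (hw : Full f M w) (h : f v w ≠ 0) (d : F) :
    Full f M (v + d • w) := by
  have := full_add hf hv hw (d / f v w)
  rwa [div_mul_cancel₀ d h] at this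

/-- Moving `v` to `b` by one transvection. -/
lemma move_one {v b : ι → F} (h : f v b ≠ 0) (hfull : Full f M (b - v)) :
    ∃ g ∈ M, Iso f g ∧ (g : Matrix ι ι F) *ᵥ v = b ∧
      ∀ x, f x (b - v) = 0 → (g : Matrix ι ι F) *ᵥ x = x := by
  refine ⟨sT f (b - v) (1 / f v b), hfull _, iso_sT hf _ _, ?_, fun x hx => sT_fix hf hx _⟩
  rw [sT_mulVec hf, sub_right' hf, hf.alternating, sub_zero, one_div, inv_mul_cancel₀ h, one_smul,
    add_sub_cancel]

/-- Moving `v` to `b` through `z` by two transvections. -/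
lemma move_two {v b z : ι → F} (h1 : f v z ≠ 0) (h2 : f z b ≠ 0) (hf1 : Full f M (z - v))
    (hf2 : Full f M (b - z)) :
    ∃ g ∈ M, Iso f g ∧ (g : Matrix ι ι F) *ᵥ v = b ∧
      ∀ x, f x (z - v) = 0 → f x (b - z) = 0 → (g : Matrix ι ι F) *ᵥ x = x := by
  obtain ⟨g1, hg1, hi1, he1, hx1⟩ := move_one hf h1 hf1
  obtain ⟨g2, hg2, hi2, he2, hx2⟩ := move_one hf h2 hf2
  refine ⟨g2 * g1, M.mul_mem hg2 hg1, hi2.mul hi1, by rw [mul_mulVec, he1, he2], fun x ha hb => ?_⟩
  rw [mul_mulVec, hx1 x ha, hx2 x hb]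

/-- Transitivity on the non-zero vectors of a subspace all of whose vectors are full centres. -/
lemma exists_move_in {W : Submodule F (ι → F)} (hW : ∀ x ∈ W, Full f M x)
    (hnd : ∀ w ∈ W, w ≠ 0 → ∃ x ∈ W, f x w ≠ 0) {v b : ι → F} (hv : v ∈ W) (hb : b ∈ W) (hv0 : v ≠ 0)
    (hb0 : b ≠ 0) :
    ∃ g ∈ M, Iso f g ∧ (g : Matrix ι ι F) *ᵥ v = b ∧
      ∀ x, (∀ w ∈ W, f x w = 0) → (g : Matrix ι ι F) *ᵥ x = x := by
  by_cases h : f v b = 0
  · obtain ⟨z, hz, hz1, hz2⟩ := exists_avoid W (φ := fun x => f x v) (ψ := fun x => f x b)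
      (fun x y => add_left' hf x y v) (fun x y => add_left' hf x y b) (hnd v hv hv0) (hnd b hb hb0)
    obtain ⟨g, hg, hi, he, hx⟩ := move_two hf (v := v) (b := b) (z := z)
      (by rw [hf.skew]; exact neg_ne_zero.mpr hz1) hz2 (hW _ (W.sub_mem hz hv)) (hW _ (W.sub_mem hb hz))
    exact ⟨g, hg, hi, he, fun x hxW => hx x (hxW _ (W.sub_mem hz hv)) (hxW _ (W.sub_mem hb hz))⟩
  · obtain ⟨g, hg, hi, he, hx⟩ := move_one hf h (hW _ (W.sub_mem hb hv))
    exact ⟨g, hg, hi, he, fun x hxW => hx x (hxW _ (W.sub_mem hb hv))⟩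

/-- Transitivity on vectors outside `E` with the same pairings with `E`, fixing `E`. -/
lemma exists_move_fix (hall : ∀ x, Full f M x) (E : Submodule F (ι → F)) {v b : ι → F}
    (hv : v ∉ E) (hb : b ∉ E) (hvb : ∀ e ∈ E, f e v = f e b) :
    ∃ g ∈ M, Iso f g ∧ (g : Matrix ι ι F) *ᵥ v = b ∧ ∀ e ∈ E, (g : Matrix ι ι F) *ᵥ e = e := by
  by_cases h : f v b = 0
  · have hnd : ∀ w, w ∉ E → ∃ x ∈ (toBilin hf.bilinear).orthogonal E, f w x ≠ 0 := by
      intro w hw
      by_contra hcon
      simp only [not_exists, not_and, not_not] at hcon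
      refine hw ?_
      rw [← LinearMap.BilinForm.orthogonal_orthogonal (bilin_nondegenerate hf) (bilin_isRefl hf) E,
        LinearMap.BilinForm.mem_orthogonal_iff]
      intro x hx
      rw [toBilin_apply, hf.skew, hcon x hx, neg_zero]
    obtain ⟨u, hu, hu1, hu2⟩ := exists_avoid ((toBilin hf.bilinear).orthogonal E) (φ := fun x => f v x)
      (ψ := fun x => f b x) (fun x y => add_right' hf v x y) (fun x y => add_right' hf b x y)
      (hnd v hv) (hnd b hb)
    have hue : ∀ e ∈ E, f e u = 0 := fun e he => by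
      simpa using LinearMap.BilinForm.mem_orthogonal_iff.mp hu e he
    obtain ⟨g, hg, hi, he', hx⟩ := move_two hf (v := v) (b := b) (z := v + u)
      (by rw [add_right' hf, hf.alternating, zero_add]; exact hu1)
      (by rw [add_left' hf, h, zero_add, hf.skew]; exact neg_ne_zero.mpr hu2) (hall _) (hall _)
    refine ⟨g, hg, hi, he', fun e he => hx e ?_ ?_⟩
    · rw [add_sub_cancel_left]; exact hue e he
    · rw [sub_right' hf, add_right' hf, hue e he, hvb e he, add_zero, sub_self]
  · obtain ⟨g, hg, hi, he', hx⟩ := move_one hf h (hall _)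
    exact ⟨g, hg, hi, he', fun e he => hx e (by rw [sub_right' hf, hvb e he, sub_self])⟩

/-- Witt's extension theorem for spans of finite sets. -/
lemma exists_extend (hall : ∀ x, Full f M x) (τ : (ι → F) →ₗ[F] (ι → F)) (s : Finset (ι → F))
    (hτ : ∀ x ∈ Submodule.span F (s : Set (ι → F)), ∀ y ∈ Submodule.span F (s : Set (ι → F)),
      f (τ x) (τ y) = f x y)
    (hinj : ∀ x ∈ Submodule.span F (s : Set (ι → F)), τ x = 0 → x = 0) :
    ∃ g ∈ M, Iso f g ∧ ∀ x ∈ Submodule.span F (s : Set (ι → F)), (g : Matrix ι ι F) *ᵥ x = τ x := by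
  classical
  induction s using Finset.induction_on with
  | empty =>
    refine ⟨1, M.one_mem, iso_one f, fun x hx => ?_⟩
    rw [Finset.coe_empty, Submodule.span_empty, Submodule.mem_bot] at hx
    simp [hx]
  | @insert v s _ ih =>
    have hle : Submodule.span F (s : Set (ι → F)) ≤ Submodule.span F (insert v s : Finset (ι → F)) :=
      Submodule.span_mono (by simp)
    obtain ⟨g, hg, hi, he⟩ := ih (fun x hx y hy => hτ x (hle hx) y (hle hy)) (fun x hx => hinj x (hle hx))
    have hvmem : v ∈ Submodule.span F ((insert v s : Finset (ι → F)) : Set (ι → F)) :=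
      Submodule.subset_span (by simp)
    by_cases hv : v ∈ Submodule.span F (s : Set (ι → F))
    · refine ⟨g, hg, hi, fun x hx => he x ?_⟩
      rwa [Finset.coe_insert, Submodule.span_insert_eq_span hv] at hx
    set E' := (Submodule.span F (s : Set (ι → F))).map τ with hE'
    have ha : (g : Matrix ι ι F) *ᵥ v ∉ E' := by
      rintro ⟨x, hx, hxv⟩
      rw [← he x hx] at hxv
      exact hv (mulVec_injective g hxv ▸ hx)
    have hb : τ v ∉ E' := by
      rintro ⟨x, hx, hxv⟩
      have := hinj (x - v) (Submodule.sub_mem _ (hle hx) hvmem) (by rw [map_sub, hxv, sub_self])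
      exact hv (sub_eq_zero.mp this ▸ hx)
    have hpair : ∀ e ∈ E', f e ((g : Matrix ι ι F) *ᵥ v) = f e (τ v) := by
      rintro _ ⟨x, hx, rfl⟩
      rw [hτ x (hle hx) v hvmem, ← he x hx, hi]
    obtain ⟨h, hh, hih, hev, hfix⟩ := exists_move_fix hf hall E' ha hb hpair
    refine ⟨h * g, M.mul_mem hh hg, hih.mul hi, fun x hx => ?_⟩
    rw [Finset.coe_insert, Submodule.mem_span_insert] at hx
    obtain ⟨a, y, hy, rfl⟩ := hx
    rw [mul_mulVec, mulVec_add, mulVec_smul, mulVec_add, mulVec_smul, hev, he y hy,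
      hfix _ ⟨y, hy, rfl⟩, map_add, map_smul]

/-- A subgroup containing all transvections contains every isometry. -/
theorem iso_mem_of_full (hall : ∀ x, Full f M x) {g : GL ι F} (hg : Iso f g) : g ∈ M := by
  classical
  let τ : (ι → F) →ₗ[F] (ι → F) := Matrix.toLin' (g : Matrix ι ι F)
  obtain ⟨h, hh, -, he⟩ := exists_extend hf hall τ
    (Finset.univ.image fun i => (Pi.single i 1 : ι → F))
    (fun x _ y _ => by simpa [τ] using hg x y)
    (fun x _ hx => mulVec_injective g (by simpa [τ] using hx))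
  have : h = g := Units.ext (Matrix.ext_of_mulVec_single fun i => by
    simpa [τ] using he (Pi.single i 1) (Submodule.subset_span (by simp)))
  exact this ▸ hh

/-- The vector representing a functional. -/
lemma fvec_surjective : Function.Surjective (fvec f) := by
  let T : (ι → F) →ₗ[F] (ι → F) :=
    { toFun := fvec f
      map_add' := fun x y => funext fun j => add_right' hf _ x y
      map_smul' := fun c x => funext fun j => smul_right' hf c _ x }
  have hT : Function.Injective T := by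
    rw [← LinearMap.ker_eq_bot, LinearMap.ker_eq_bot']
    intro v hv
    by_contra hne
    obtain ⟨x, hx⟩ := (hf.nondegenerate v hne).1
    apply hx
    rw [← fvec_dot hf]
    exact (congrArg (· ⬝ᵥ x) hv).trans (zero_dotProduct x)
  exact LinearMap.surjective_of_injective hT

/-- Orthogonal vectors to `s` exist outside the zero set of any functional not in the span of `s`. -/
lemma exists_perp_ne {W : Submodule F (ι → F)} {v : ι → F} (hv : v ∉ W) :
    ∃ x, (∀ w ∈ W, f x w = 0) ∧ f x v ≠ 0 := by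
  by_contra hcon
  simp only [not_exists, not_and, not_not] at hcon
  refine hv ?_
  rw [← LinearMap.BilinForm.orthogonal_orthogonal (bilin_nondegenerate hf) (bilin_isRefl hf) W,
    LinearMap.BilinForm.mem_orthogonal_iff]
  intro x hx
  rw [toBilin_apply]
  refine hcon x fun w hw => ?_
  rw [hf.skew, show f w x = 0 from LinearMap.BilinForm.mem_orthogonal_iff.mp hx w hw, neg_zero]

end Form

/-- The standard alternating form is symplectic. -/
theorem isSymplecticForm_sympForm (m : ℕ) : Cfsg.Geo.IsSymplecticForm (Cfsg.sympForm m F) := by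
  have happ : ∀ u v : Fin m ⊕ Fin m → F, Cfsg.sympForm m F u v =
      ∑ i, (u (.inr i) * v (.inl i) - u (.inl i) * v (.inr i)) := by
    intro u v
    simp [Cfsg.sympForm, Matrix.J, Matrix.fromBlocks_mulVec, dotProduct, Fintype.sum_sum_type,
      Finset.sum_sub_distrib, Matrix.neg_mulVec, Finset.sum_neg_distrib]
    ring
  refine ⟨⟨fun x y v => ?_, fun c x v => ?_, fun v x y => ?_, fun c v x => ?_⟩, fun v w => ?_, fun v => ?_,
    fun v hv => ?_⟩
  · simp [Cfsg.sympForm, add_dotProduct]
  · simp [Cfsg.sympForm, smul_dotProduct]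
  · simp [Cfsg.sympForm, mulVec_add, dotProduct_add]
  · simp [Cfsg.sympForm, mulVec_smul, dotProduct_smul]
  · rw [happ, happ, ← Finset.sum_neg_distrib]
    exact Finset.sum_congr rfl fun i _ => by ring
  · rw [happ]
    exact Finset.sum_eq_zero fun i _ => by ring
  · obtain ⟨k, hk⟩ := Function.ne_iff.mp hv
    rcases k with i | i
    · exact ⟨⟨Pi.single (.inr i) 1, by simpa [happ, Pi.single_apply] using hk⟩,
        ⟨Pi.single (.inr i) 1, by simpa [happ, Pi.single_apply] using hk⟩⟩
    · exact ⟨⟨Pi.single (.inl i) 1, by simpa [happ, Pi.single_apply] using hk⟩,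
        ⟨Pi.single (.inl i) 1, by simpa [happ, Pi.single_apply] using hk⟩⟩

lemma mem_spGL_iff (m : ℕ) (g : GL (Fin m ⊕ Fin m) F) :
    g ∈ Cfsg.spGL m F ↔ Iso (Cfsg.sympForm m F) g := Iff.rfl

lemma spGL_le_of_full {m : ℕ} {M : Subgroup (GL (Fin m ⊕ Fin m) F)}
    (hall : ∀ x, Full (Cfsg.sympForm m F) M x) : Cfsg.spGL m F ≤ M :=
  fun _ hg => iso_mem_of_full (isSymplecticForm_sympForm m) hall hg

lemma sT_mem_spGL (m : ℕ) (v : Fin m ⊕ Fin m → F) (c : F) :
    sT (Cfsg.sympForm m F) v c ∈ Cfsg.spGL m F :=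
  iso_sT (isSymplecticForm_sympForm m) v c

end CfsgLib.Transvec
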