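/-
Isometries between non-degenerate subspaces of a symplectic space, components for an internal direct sum of
subspaces of F^ι, and isometries permuting the members of an orthogonal decomposition.
-/
import Cfsg.Agent.Lib.Transvec.Symplectic

set_option autoImplicit false

namespace CfsgLib.Transvec

open Matrix
open scoped MatrixGroups DirectSum

variable {ι : Type} [Fintype ι] [DecidableEq ι] {F : Type*} [Field F]

/-- The element of GL(ι, F) of an injective endomorphism of F^ι. -/
noncomputable def glOfInjective (σ : (ι → F) →ₗ[F] (ι → F)) (h : Function.Injective σ) : GL ι F where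
  val := LinearMap.toMatrix' σ
  inv := LinearMap.toMatrix' (LinearEquiv.ofInjectiveEndo σ h).symm.toLinearMap
  val_inv := by
    rw [← LinearMap.toMatrix'_comp, ← LinearMap.toMatrix'_id]
    refine congrArg _ (LinearMap.ext fun x => ?_)
    exact (LinearEquiv.ofInjectiveEndo σ h).apply_symm_apply x
  inv_val := by
    rw [← LinearMap.toMatrix'_comp, ← LinearMap.toMatrix'_id]
    refine congrArg _ (LinearMap.ext fun x => ?_)
    exact (LinearEquiv.ofInjectiveEndo σ h).symm_apply_apply x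

@[simp] lemma glOfInjective_mulVec (σ : (ι → F) →ₗ[F] (ι → F)) (h : Function.Injective σ) (x : ι → F) :
    (glOfInjective σ h : Matrix ι ι F) *ᵥ x = σ x := by
  simp [glOfInjective, LinearMap.toMatrix'_mulVec]

/-- The image of a subspace under an invertible matrix has the same dimension. -/
lemma finrank_map_gl (g : GL ι F) (W : Submodule F (ι → F)) :
    Module.finrank F (W.map (Matrix.toLin' (g : Matrix ι ι F))) = Module.finrank F W :=
  (Submodule.equivMapOfInjective _ (fun x y h => mulVec_injective g (by simpa using h)) W).finrank_eq.symm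

lemma map_gl_eq_of_le (g : GL ι F) {W W' : Submodule F (ι → F)} (hdim : Module.finrank F W = Module.finrank F W')
    (h : ∀ x ∈ W, (g : Matrix ι ι F) *ᵥ x ∈ W') : W.map (Matrix.toLin' (g : Matrix ι ι F)) = W' :=
  Submodule.eq_of_le_of_finrank_eq (by rintro _ ⟨x, hx, rfl⟩; simpa using h x hx) (by rw [finrank_map_gl, hdim])

section Components

variable {t : ℕ} {D : Fin t → Submodule F (ι → F)}

/-- The component in `D i` for an internal direct sum, as an endomorphism of F^ι. -/
noncomputable def dcomp (hint : DirectSum.IsInternal D) (i : Fin t) : (ι → F) →ₗ[F] (ι → F) :=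
  (D i).subtype ∘ₗ (DirectSum.component F (Fin t) (fun i => D i) i) ∘ₗ
    (LinearEquiv.ofBijective (DirectSum.coeLinearMap D) hint).symm.toLinearMap

lemma dcomp_mem (hint : DirectSum.IsInternal D) (i : Fin t) (x : ι → F) : dcomp hint i x ∈ D i :=
  SetLike.coe_mem _

lemma sum_dcomp (hint : DirectSum.IsInternal D) (x : ι → F) : ∑ i, dcomp hint i x = x := by
  obtain ⟨z, rfl⟩ := hint.2 x
  have h : (LinearEquiv.ofBijective (DirectSum.coeLinearMap D) hint).symm (DirectSum.coeLinearMap D z) = z :=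
    (LinearEquiv.ofBijective (DirectSum.coeLinearMap D) hint).symm_apply_apply z
  conv_rhs => rw [← DirectSum.sum_univ_of z, map_sum]
  refine Finset.sum_congr rfl fun i _ => ?_
  rw [DirectSum.coeAddMonoidHom_of]
  exact congrArg (fun w : DirectSum (Fin t) (fun i => D i) => ((w i : D i) : ι → F)) h

lemma dcomp_of_mem (hint : DirectSum.IsInternal D) {i : Fin t} {x : ι → F} (hx : x ∈ D i) (j : Fin t) :
    dcomp hint j x = if j = i then x else 0 := by
  have h : (LinearEquiv.ofBijective (DirectSum.coeLinearMap D) hint).symm x =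
      DirectSum.of (fun i => D i) i ⟨x, hx⟩ := by
    rw [LinearEquiv.symm_apply_eq]
    exact (DirectSum.coeLinearMap_of D i ⟨x, hx⟩).symm
  have happ : dcomp hint j x = ((DirectSum.of (fun i => D i) i ⟨x, hx⟩) j : ι → F) :=
    congrArg (fun w : DirectSum (Fin t) (fun i => D i) => ((w j : D j) : ι → F)) h
  rw [happ]
  by_cases hji : j = i
  · subst hji
    rw [DirectSum.of_eq_same, if_pos rfl]
  · rw [DirectSum.of_eq_of_ne _ _ _ hji, if_neg hji]
    rfl

lemma dcomp_sum_of_mem (hint : DirectSum.IsInternal D) (c : Fin t → (ι → F)) (hc : ∀ k, c k ∈ D k) (j : Fin t) :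
    dcomp hint j (∑ k, c k) = c j := by
  rw [map_sum, Finset.sum_eq_single j (fun k _ hk => by rw [dcomp_of_mem hint (hc k), if_neg hk.symm])
    (fun h => absurd (Finset.mem_univ j) h), dcomp_of_mem hint (hc j), if_pos rfl]

end Components

section Form

variable {f : (ι → F) → (ι → F) → F} (hf : Cfsg.Geo.IsSymplecticForm f)

include hf

lemma eq_zero_of_isometric_zero {W : Submodule F (ι → F)} (hnd : ∀ w ∈ W, w ≠ 0 → ∃ x ∈ W, f x w ≠ 0)
    {τ : (ι → F) →ₗ[F] (ι → F)} (hτ : ∀ x ∈ W, ∀ y ∈ W, f (τ x) (τ y) = f x y) {x : ι → F} (hx : x ∈ W)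
    (h0 : τ x = 0) : x = 0 := by
  by_contra hne
  obtain ⟨y, hy, hyx⟩ := hnd x hx hne
  exact hyx (by rw [← hτ y hy x hx, h0, zero_right' hf])

/-- An injectivity criterion. -/
lemma injective_of_isometric {σ : (ι → F) →ₗ[F] (ι → F)} (hσ : ∀ x y, f (σ x) (σ y) = f x y) :
    Function.Injective σ := by
  rw [injective_iff_map_eq_zero]
  intro x hx
  refine eq_zero_of_isometric_zero hf (W := ⊤) (fun w _ hw => ?_) (fun x _ y _ => hσ x y) trivial hx
  obtain ⟨z, hz⟩ := (hf.nondegenerate w hw).1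
  exact ⟨z, trivial, hz⟩

/-- A hyperbolic pair in a non-degenerate subspace. -/
lemma exists_pair {W : Submodule F (ι → F)} (hnd : ∀ w ∈ W, w ≠ 0 → ∃ x ∈ W, f x w ≠ 0) {v : ι → F}
    (hv : v ∈ W) (hv0 : v ≠ 0) : ∃ w ∈ W, f v w = 1 := by
  obtain ⟨x, hx, hxv⟩ := hnd v hv hv0
  refine ⟨(f v x)⁻¹ • x, W.smul_mem _ hx, ?_⟩
  rw [smul_right' hf, inv_mul_cancel₀]
  rw [hf.skew]; exact neg_ne_zero.mpr hxv

/-- Splitting off a hyperbolic pair. -/
lemma exists_split {W : Submodule F (ι → F)} (hnd : ∀ w ∈ W, w ≠ 0 → ∃ x ∈ W, f x w ≠ 0) {v w : ι → F}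
    (hv : v ∈ W) (hw : w ∈ W) (hvw : f v w = 1) :
    ∃ W₁ : Submodule F (ι → F), Module.finrank F W₁ + 2 = Module.finrank F W ∧
      (∀ x ∈ W₁, x ∈ W ∧ f x v = 0 ∧ f x w = 0) ∧ (∀ w₁ ∈ W₁, w₁ ≠ 0 → ∃ x ∈ W₁, f x w₁ ≠ 0) ∧
      (∀ x ∈ W, x - f x w • v + f x v • w ∈ W₁) := by
  let ψ : (ι → F) →ₗ[F] F × F :=
    ((toBilin hf.bilinear).flip v).prod ((toBilin hf.bilinear).flip w)
  have hψ : ∀ x, ψ x = (f x v, f x w) := fun x => rfl
  have hmem : ∀ x, x ∈ (LinearMap.ker (ψ.domRestrict W)).map W.subtype ↔ x ∈ W ∧ f x v = 0 ∧ f x w = 0 := by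
    intro x
    constructor
    · rintro ⟨⟨y, hy⟩, hy', rfl⟩
      have := LinearMap.mem_ker.mp hy'
      rw [LinearMap.domRestrict_apply, hψ, Prod.mk_eq_zero] at this
      exact ⟨hy, this.1, this.2⟩
    · rintro ⟨hx, h1, h2⟩
      refine ⟨⟨x, hx⟩, ?_, rfl⟩
      rw [SetLike.mem_coe, LinearMap.mem_ker, LinearMap.domRestrict_apply, hψ, h1, h2]
      rfl
  have hwv : f w v = -1 := by rw [hf.skew, hvw]
  have hproj : ∀ x ∈ W, x - f x w • v + f x v • w ∈ (LinearMap.ker (ψ.domRestrict W)).map W.subtype := by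
    intro x hx
    rw [hmem]
    refine ⟨W.add_mem (W.sub_mem hx (W.smul_mem _ hv)) (W.smul_mem _ hw), ?_, ?_⟩
    · rw [add_left' hf, sub_left' hf, smul_left' hf, smul_left' hf, hf.alternating, hwv]; ring
    · rw [add_left' hf, sub_left' hf, smul_left' hf, smul_left' hf, hf.alternating, hvw]; ring
  refine ⟨_, ?_, fun x hx => (hmem x).mp hx, ?_, hproj⟩
  · have hsurj : LinearMap.range (ψ.domRestrict W) = ⊤ := by
      rw [eq_top_iff]
      rintro ⟨a, b⟩ -
      refine ⟨⟨b • v - a • w, W.sub_mem (W.smul_mem _ hv) (W.smul_mem _ hw)⟩, ?_⟩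
      rw [LinearMap.domRestrict_apply, hψ, sub_left' hf, sub_left' hf, smul_left' hf, smul_left' hf,
        smul_left' hf, smul_left' hf, hf.alternating, hf.alternating, hvw, hwv]
      simp
    have h := LinearMap.finrank_range_add_finrank_ker (ψ.domRestrict W)
    rw [hsurj, finrank_top, Module.finrank_prod, Module.finrank_self] at h
    rw [Submodule.finrank_map_subtype_eq]
    omega
  · intro x hx hx0
    obtain ⟨hxW, h1, h2⟩ := (hmem x).mp hx
    obtain ⟨y, hy, hyx⟩ := hnd x hxW hx0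
    refine ⟨_, hproj y hy, ?_⟩
    rw [add_left' hf, sub_left' hf, smul_left' hf, smul_left' hf, hf.skew v x, hf.skew w x, h1, h2]
    simpa using hyx

/-- Non-degenerate subspaces of equal dimension are isometric. -/
theorem exists_isometric_map : ∀ (k : ℕ) (W W' : Submodule F (ι → F)),
    (∀ w ∈ W, w ≠ 0 → ∃ x ∈ W, f x w ≠ 0) → (∀ w ∈ W', w ≠ 0 → ∃ x ∈ W', f x w ≠ 0) →
    Module.finrank F W = k → Module.finrank F W' = k →
    ∃ τ : (ι → F) →ₗ[F] (ι → F), (∀ x ∈ W, τ x ∈ W') ∧ ∀ x ∈ W, ∀ y ∈ W, f (τ x) (τ y) = f x y := by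
  intro k
  induction k using Nat.strong_induction_on with
  | _ k ih =>
    intro W W' hW hW' hk hk'
    by_cases hk0 : k = 0
    · have hb : W = ⊥ := Submodule.finrank_eq_zero.mp (hk.trans hk0)
      refine ⟨0, fun x _ => W'.zero_mem, fun x hx y hy => ?_⟩
      rw [hb, Submodule.mem_bot] at hx
      simp [hx, zero_left' hf]
    obtain ⟨v, hv, hv0⟩ : ∃ v ∈ W, v ≠ 0 := by
      refine Submodule.exists_mem_ne_zero_of_ne_bot fun h => hk0 ?_
      rw [← hk, h, finrank_bot]
    obtain ⟨v', hv', hv0'⟩ : ∃ v ∈ W', v ≠ 0 := by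
      refine Submodule.exists_mem_ne_zero_of_ne_bot fun h => hk0 ?_
      rw [← hk', h, finrank_bot]
    obtain ⟨w, hw, hvw⟩ := exists_pair hf hW hv hv0
    obtain ⟨w', hw', hvw'⟩ := exists_pair hf hW' hv' hv0'
    obtain ⟨W₁, hd, hsub, hnd, hproj⟩ := exists_split hf hW hv hw hvw
    obtain ⟨W₁', hd', hsub', hnd', hproj'⟩ := exists_split hf hW' hv' hw' hvw'
    obtain ⟨τ₁, hm, hi⟩ := ih (Module.finrank F W₁) (by omega) W₁ W₁' hnd hnd' rfl (by omega)
    let a : (ι → F) →ₗ[F] F := (toBilin hf.bilinear).flip w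
    let b : (ι → F) →ₗ[F] F := (toBilin hf.bilinear).flip v
    let π : (ι → F) →ₗ[F] (ι → F) := LinearMap.id - a.smulRight v + b.smulRight w
    have hπ : ∀ x, π x = x - f x w • v + f x v • w := fun x => rfl
    refine ⟨a.smulRight v' - b.smulRight w' + τ₁ ∘ₗ π, fun x hx => ?_, fun x hx y hy => ?_⟩
    · have h1 := (hsub' _ (hm _ (hproj x hx))).1
      simp only [LinearMap.add_apply, LinearMap.sub_apply, LinearMap.smulRight_apply, LinearMap.comp_apply, hπ]
      exact W'.add_mem (W'.sub_mem (W'.smul_mem _ hv') (W'.smul_mem _ hw')) h1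
    · obtain ⟨-, hx1, hx2⟩ := hsub' _ (hm _ (hproj x hx))
      obtain ⟨-, hy1, hy2⟩ := hsub' _ (hm _ (hproj y hy))
      have hii := hi _ (hproj x hx) _ (hproj y hy)
      simp only [LinearMap.add_apply, LinearMap.sub_apply, LinearMap.smulRight_apply, LinearMap.comp_apply, hπ]
      show f (f x w • v' - f x v • w' + τ₁ (x - f x w • v + f x v • w))
        (f y w • v' - f y v • w' + τ₁ (y - f y w • v + f y v • w)) = f x y
      generalize τ₁ (x - f x w • v + f x v • w) = X at hx1 hx2 hii ⊢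
      generalize τ₁ (y - f y w • v + f y v • w) = Y at hy1 hy2 hii ⊢
      simp only [add_left' hf, add_right' hf, sub_left' hf, sub_right' hf, smul_left' hf, smul_right' hf,
        hf.alternating, hvw', hf.skew w' v', hf.skew v' Y, hf.skew w' Y, hx1, hx2, hy1, hy2] at hii ⊢
      rw [hvw, hf.skew w v, hvw, hf.skew v y, hf.skew w y] at hii
      rw [hii]
      ring

variable {t : ℕ} {D : Fin t → Submodule F (ι → F)}

/-- The form is the sum of its values on components of an orthogonal decomposition. -/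
lemma form_eq_sum (hint : DirectSum.IsInternal D)
    (horth : ∀ i j, i ≠ j → ∀ u ∈ D i, ∀ v ∈ D j, f u v = 0) (x y : ι → F) :
    f x y = ∑ i, f (dcomp hint i x) (dcomp hint i y) := by
  have key : toBilin hf.bilinear x y = ∑ i, ∑ j, toBilin hf.bilinear (dcomp hint i x) (dcomp hint j y) := by
    conv_lhs => rw [← sum_dcomp hint x, ← sum_dcomp hint y]
    simp [map_sum, LinearMap.sum_apply]
    exact Finset.sum_comm
  rw [← toBilin_apply hf.bilinear x y, key]
  refine Finset.sum_congr rfl fun i _ => Finset.sum_eq_single i ?_ (fun h => absurd (Finset.mem_univ i) h)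
  exact fun j _ hj => horth i j hj.symm _ (dcomp_mem hint i x) _ (dcomp_mem hint j y)

/-- Every permutation of the members is induced by an isometry. -/
theorem exists_iso_perm (hint : DirectSum.IsInternal D)
    (horth : ∀ i j, i ≠ j → ∀ u ∈ D i, ∀ v ∈ D j, f u v = 0)
    (hnd : ∀ i, ∀ w ∈ D i, w ≠ 0 → ∃ x ∈ D i, f x w ≠ 0)
    (hdim : ∀ i j, Module.finrank F (D i) = Module.finrank F (D j)) (s : Equiv.Perm (Fin t)) :
    ∃ g : GL ι F, Iso f g ∧ (∀ i, (D i).map (Matrix.toLin' (g : Matrix ι ι F)) = D (s i)) ∧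
      ∀ x i, dcomp hint (s i) ((g : Matrix ι ι F) *ᵥ x) = 0 → dcomp hint i x = 0 := by
  choose τ hτm hτi using fun k => exists_isometric_map hf (Module.finrank F (D k)) (D k) (D (s k)) (hnd k)
    (hnd (s k)) rfl (hdim (s k) k)
  let σ : (ι → F) →ₗ[F] (ι → F) := ∑ k, τ k ∘ₗ dcomp hint k
  have hmem : ∀ x k, τ k (dcomp hint k x) ∈ D (s k) := fun x k => hτm k _ (dcomp_mem hint k x)
  have hσ : ∀ x, σ x = ∑ k, τ k (dcomp hint k x) := fun x => by simp [σ]
  have hcomp : ∀ x k, dcomp hint (s k) (σ x) = τ k (dcomp hint k x) := by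
    intro x k
    rw [hσ, ← Equiv.sum_comp s.symm, dcomp_sum_of_mem hint
      (fun l => τ (s.symm l) (dcomp hint (s.symm l) x)) (fun l => by simpa using hmem x (s.symm l)),
      Equiv.symm_apply_apply]
  have hiso : ∀ x y, f (σ x) (σ y) = f x y := by
    intro x y
    rw [form_eq_sum hf hint horth (σ x), ← Equiv.sum_comp s, form_eq_sum hf hint horth x]
    refine Finset.sum_congr rfl fun k _ => ?_
    rw [hcomp, hcomp, hτi k _ (dcomp_mem hint k x) _ (dcomp_mem hint k y)]
  refine ⟨glOfInjective σ (injective_of_isometric hf hiso), fun u v => by simpa using hiso u v, fun i => ?_,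
    fun x i hx => ?_⟩
  · refine map_gl_eq_of_le _ (hdim i (s i)) fun x hx => ?_
    rw [glOfInjective_mulVec, hσ, Finset.sum_eq_single i (fun k _ hk => by
      rw [dcomp_of_mem hint hx, if_neg hk, map_zero]) (fun h => absurd (Finset.mem_univ i) h)]
    exact hmem x i
  · rw [glOfInjective_mulVec, hcomp] at hx
    exact eq_zero_of_isometric_zero hf (hnd i) (hτi i) (dcomp_mem hint i x) hx

end Form

end CfsgLib.Transvec
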