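/-
Stabilisers of subspaces of F^ι, and the transvections of a symplectic form lying in them.
-/
import Cfsg.Agent.Lib.Transvec.SympSpaces

set_option autoImplicit false

namespace CfsgLib.Transvec

open Matrix
open scoped MatrixGroups

variable {ι : Type} [Fintype ι] [DecidableEq ι] {F : Type*} [Field F]

lemma mem_subspaceStabilizer_of_maps {g : GL ι F} {W : Submodule F (ι → F)}
    (h : ∀ x ∈ W, (g : Matrix ι ι F) *ᵥ x ∈ W) : g ∈ Cfsg.Geo.subspaceStabilizer W := by
  intro v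
  refine ⟨h v, fun hv => ?_⟩
  have hv' : (g : Matrix ι ι F) *ᵥ v ∈ W := hv
  rw [← map_gl_eq_of_le g rfl h] at hv'
  obtain ⟨x, hx, hxv⟩ := hv'
  rw [Matrix.toLin'_apply] at hxv
  exact mulVec_injective g hxv ▸ hx

lemma mulVec_mem_of_mem_subspaceStabilizer {g : GL ι F} {W : Submodule F (ι → F)}
    (hg : g ∈ Cfsg.Geo.subspaceStabilizer W) {x : ι → F} (hx : x ∈ W) : (g : Matrix ι ι F) *ᵥ x ∈ W :=
  (hg x).mp hx

variable {f : (ι → F) → (ι → F) → F} (hf : Cfsg.Geo.IsSymplecticForm f)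

include hf

lemma sT_mem_stab_of_perp {W : Submodule F (ι → F)} {v : ι → F} (h : ∀ x ∈ W, f x v = 0) (c : F) :
    sT f v c ∈ Cfsg.Geo.subspaceStabilizer W :=
  mem_subspaceStabilizer_of_maps fun x hx => by rw [sT_fix hf (h x hx)]; exact hx

lemma sT_mem_stab_of_mem {W : Submodule F (ι → F)} {v : ι → F} (hv : v ∈ W) (c : F) :
    sT f v c ∈ Cfsg.Geo.subspaceStabilizer W :=
  mem_subspaceStabilizer_of_maps fun x hx => by rw [sT_mulVec hf]; exact W.add_mem hx (W.smul_mem _ hv)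

/-- The orthogonal of `W`. -/
def perp (W : Submodule F (ι → F)) : Submodule F (ι → F) := (toBilin hf.bilinear).orthogonal W

lemma mem_perp_iff {W : Submodule F (ι → F)} {x : ι → F} : x ∈ perp hf W ↔ ∀ w ∈ W, f x w = 0 := by
  rw [perp, LinearMap.BilinForm.mem_orthogonal_iff]
  refine forall₂_congr fun w _ => ?_
  change f w x = 0 ↔ _
  rw [hf.skew w x, neg_eq_zero]

lemma perp_perp (W : Submodule F (ι → F)) : perp hf (perp hf W) = W :=
  LinearMap.BilinForm.orthogonal_orthogonal (bilin_nondegenerate hf) (bilin_isRefl hf) W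

lemma finrank_perp (W : Submodule F (ι → F)) :
    Module.finrank F (perp hf W) = Fintype.card ι - Module.finrank F W := by
  rw [perp, LinearMap.BilinForm.finrank_orthogonal (bilin_nondegenerate hf),
    Module.finrank_fintype_fun_eq_card]

lemma maps_of_maps_perp {g : GL ι F} (hg : Iso f g) {W : Submodule F (ι → F)}
    (h : ∀ x ∈ perp hf W, (g : Matrix ι ι F) *ᵥ x ∈ perp hf W) :
    ∀ x ∈ W, (g : Matrix ι ι F) *ᵥ x ∈ W := by
  intro x hx
  rw [← perp_perp hf W, mem_perp_iff hf]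
  intro y hy
  rw [← map_gl_eq_of_le g rfl h] at hy
  obtain ⟨z, hz, rfl⟩ := hy
  rw [Matrix.toLin'_apply, hg, hf.skew, (mem_perp_iff hf).mp hz x hx, neg_zero]

/-- Decomposition along a non-degenerate subspace. -/
lemma exists_add_perp {W : Submodule F (ι → F)} (hnd : ∀ w ∈ W, w ≠ 0 → ∃ x ∈ W, f x w ≠ 0) (x : ι → F) :
    ∃ a ∈ W, ∃ b ∈ perp hf W, a + b = x := by
  have hdis : W ⊓ perp hf W = ⊥ := by
    rw [eq_bot_iff]
    rintro w ⟨hw, hw'⟩
    rw [Submodule.mem_bot]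
    by_contra h0
    obtain ⟨y, hy, hyw⟩ := hnd w hw h0
    exact hyw (by rw [hf.skew, (mem_perp_iff hf).mp hw' y hy, neg_zero])
  have htop : W ⊔ perp hf W = ⊤ := by
    refine Submodule.eq_top_of_finrank_eq ?_
    have h := Submodule.finrank_sup_add_finrank_inf_eq W (perp hf W)
    rw [hdis, finrank_bot, finrank_perp hf, add_zero] at h
    have := Submodule.finrank_le W
    rw [Module.finrank_fintype_fun_eq_card] at this ⊢
    omega
  exact Submodule.mem_sup.mp (htop ▸ Submodule.mem_top)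

lemma perp_nondegenerate {W : Submodule F (ι → F)} (hnd : ∀ w ∈ W, w ≠ 0 → ∃ x ∈ W, f x w ≠ 0) :
    ∀ w ∈ perp hf W, w ≠ 0 → ∃ x ∈ perp hf W, f x w ≠ 0 := by
  intro w hw hw0
  obtain ⟨y, hy⟩ := (hf.nondegenerate w hw0).1
  obtain ⟨a, ha, b, hb, rfl⟩ := exists_add_perp hf hnd y
  refine ⟨b, hb, fun h => hy ?_⟩
  rw [add_left' hf, h, hf.skew, (mem_perp_iff hf).mp hw a ha, neg_zero, add_zero]

end CfsgLib.Transvec
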