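/-
Pairs (v, φ) all of whose transvections lie in a given subgroup, and functionals as vectors.
-/
import Cfsg.Agent.Lib.Transvec.Stabilizer

set_option autoImplicit false

namespace CfsgLib.Transvec

open Matrix
open scoped MatrixGroups

variable {ι : Type} [Fintype ι] [DecidableEq ι] {F : Type*} [Field F]

/-- A functional vanishing on a subspace and not at a given vector outside it. -/
lemma exists_functional {E : Submodule F (ι → F)} {u : ι → F} (hu : u ∉ E) :
    ∃ φ : ι → F, (∀ x ∈ E, φ ⬝ᵥ x = 0) ∧ φ ⬝ᵥ u = 1 := by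
  obtain ⟨l, hl, hlE⟩ := E.exists_dual_map_eq_bot_of_notMem hu inferInstance
  obtain ⟨φ, rfl⟩ := (dotProductEquiv F ι).surjective l
  refine ⟨(φ ⬝ᵥ u)⁻¹ • φ, fun x hx => ?_, ?_⟩
  · have h : φ ⬝ᵥ x ∈ E.map (dotProductEquiv F ι φ) := ⟨x, hx, rfl⟩
    rw [hlE, Submodule.mem_bot] at h
    rw [smul_dotProduct, h, smul_zero]
  · rw [smul_dotProduct, smul_eq_mul, inv_mul_cancel₀]
    simpa using hl

/-- All transvections of the pair `(v, φ)` lie in `M`. -/
def FullPair (M : Subgroup (GL ι F)) (v φ : ι → F) : Prop := ∀ a : F, transv v (a • φ) ∈ M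

variable {M : Subgroup (GL ι F)}

lemma fullPair_smul_left {v φ : ι → F} (hd : φ ⬝ᵥ v = 0) (h : FullPair M v φ) (c : F) :
    FullPair M (c • v) φ := fun a => by
  rw [transv_smul_left c (by rw [smul_dotProduct, hd, smul_zero]), smul_smul]
  exact h _

lemma fullPair_conj {g : GL ι F} (hg : g ∈ M) {v φ : ι → F} (hd : φ ⬝ᵥ v = 0) (h : FullPair M v φ) :
    FullPair M ((g : Matrix ι ι F) *ᵥ v) (φ ᵥ* ((g⁻¹ : GL ι F) : Matrix ι ι F)) := fun a => by
  have := M.mul_mem (M.mul_mem hg (h a)) (M.inv_mem hg)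
  rwa [conj_transv g (by rw [smul_dotProduct, hd, smul_zero]), smul_vecMul] at this

/-- Moving the centre of a vector all of whose pairs are full. -/
lemma allPairs_conj {g : GL ι F} (hg : g ∈ M) {v : ι → F}
    (h : ∀ φ : ι → F, φ ⬝ᵥ v = 0 → FullPair M v φ) :
    ∀ φ : ι → F, φ ⬝ᵥ ((g : Matrix ι ι F) *ᵥ v) = 0 → FullPair M ((g : Matrix ι ι F) *ᵥ v) φ := by
  intro φ hφ
  have hd : (φ ᵥ* (g : Matrix ι ι F)) ⬝ᵥ v = 0 := by rw [← dotProduct_mulVec, hφ]
  have h1 := fullPair_conj hg hd (h _ hd)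
  rwa [vecMul_vecMul, ← Units.val_mul, mul_inv_cancel, Units.val_one, vecMul_one] at h1

lemma transv_add_left {v w φ : ι → F} (hv : φ ⬝ᵥ v = 0) (hw : φ ⬝ᵥ w = 0) :
    transv v φ * transv w φ = transv (v + w) φ := by
  refine gl_ext fun x => ?_
  rw [mul_mulVec, transv_mulVec hw, transv_mulVec hv, transv_mulVec (by rw [dotProduct_add, hv, hw, add_zero]),
    dotProduct_add, dotProduct_smul, hw, smul_zero, add_zero, smul_add]
  abel

/-- The commutator of two transvections. -/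
lemma fullPair_comm {v w φ ψ : ι → F} (hv : φ ⬝ᵥ v = 0) (hw : ψ ⬝ᵥ w = 0) (hψv : ψ ⬝ᵥ v = 0)
    (hφw : φ ⬝ᵥ w ≠ 0) (h1 : FullPair M v φ) (h2 : FullPair M w ψ) : FullPair M v ψ := by
  intro c
  obtain ⟨a, ha⟩ : ∃ a, a = c / φ ⬝ᵥ w := ⟨_, rfl⟩
  have hda : (a • φ) ⬝ᵥ v = 0 := by rw [smul_dotProduct, hv, smul_zero]
  have h3 := fullPair_conj (h1 a) hw h2 1
  have e1 : ψ ᵥ* (((transv v (a • φ))⁻¹ : GL ι F) : Matrix ι ι F) = ψ := by
    rw [transv_inv hda, transv_val (by rw [neg_dotProduct, hda, neg_zero]), vecMul_add, vecMul_one,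
      vecMul_vecMulVec, hψv, zero_smul, add_zero]
  rw [e1, transv_mulVec hda, smul_dotProduct, smul_eq_mul, ha, div_mul_cancel₀ c hφw, one_smul] at h3
  have h4 : (transv w ψ)⁻¹ * transv (w + c • v) ψ ∈ M := M.mul_mem (M.inv_mem (by simpa using h2 1)) h3
  rw [← transv_add_left hw (by rw [dotProduct_smul, hψv, smul_zero]), inv_mul_cancel_left,
    transv_smul_left c hψv] at h4
  exact h4

lemma transv_mem_stab_of_mem {W : Submodule F (ι → F)} {v φ : ι → F} (hd : φ ⬝ᵥ v = 0) (hv : v ∈ W) :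
    transv v φ ∈ Cfsg.Geo.subspaceStabilizer W :=
  mem_subspaceStabilizer_of_maps fun x hx => by
    rw [transv_mulVec hd]; exact W.add_mem hx (W.smul_mem _ hv)

lemma transv_mem_stab_of_ker {W : Submodule F (ι → F)} {v φ : ι → F} (hd : φ ⬝ᵥ v = 0)
    (hφ : ∀ x ∈ W, φ ⬝ᵥ x = 0) : transv v φ ∈ Cfsg.Geo.subspaceStabilizer W :=
  mem_subspaceStabilizer_of_maps fun x hx => by
    rw [transv_mulVec hd, hφ x hx, zero_smul, add_zero]; exact hx

/-- A transvection moving `u` to `x`, when possible. -/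
lemma transv_move {u x φ : ι → F} (hd : φ ⬝ᵥ (x - u) = 0) (h1 : φ ⬝ᵥ u = 1) :
    (transv (x - u) φ : Matrix ι ι F) *ᵥ u = x := by
  rw [transv_mulVec hd, h1, one_smul, add_sub_cancel]

/-- A transvection outside the stabiliser of a proper non-zero subspace. -/
lemma exists_transv_not_stab {W : Submodule F (ι → F)} (hW0 : W ≠ ⊥) (hW1 : W ≠ ⊤) :
    ∃ g, g ∈ Cfsg.Geo.specialLinear ι F ∧ g ∉ Cfsg.Geo.subspaceStabilizer W := by
  obtain ⟨w, hw, hw0⟩ := Submodule.exists_mem_ne_zero_of_ne_bot hW0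
  obtain ⟨v, -, hv⟩ := SetLike.exists_of_lt hW1.lt_top
  obtain ⟨φ, hφ, hφw⟩ := exists_functional (E := Submodule.span F {v}) (u := w) (fun h => by
    obtain ⟨a, ha⟩ := Submodule.mem_span_singleton.mp h
    by_cases ha0 : a = 0
    · exact hw0 (by rw [← ha, ha0, zero_smul])
    · exact hv ((Submodule.smul_mem_iff _ ha0).mp (ha ▸ hw)))
  have hd := hφ v (Submodule.mem_span_singleton_self v)
  refine ⟨transv v φ, transv_mem_specialLinear v φ, fun h => hv ?_⟩
  have := mulVec_mem_of_mem_subspaceStabilizer h hw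
  rwa [transv_mulVec hd, hφw, one_smul, W.add_mem_iff_right hw] at this

end CfsgLib.Transvec
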