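/-
The special unitary group is generated by unitary transvections.
-/
import Cfsg.Agent.Lib.Transvec.Unitary

set_option autoImplicit false

namespace CfsgLib.Transvec.Unitary

open Matrix CfsgLib.Transvec
open scoped MatrixGroups

variable {ι : Type} [Fintype ι] [DecidableEq ι] {F : Type*} [Field F]

/-- The map `x ↦ x + (φ ⬝ᵥ x) • v` for `1 + φ ⬝ᵥ v ≠ 0`. -/
noncomputable def pseudo (v φ : ι → F) : GL ι F :=
  haveI := Classical.propDecidable (1 + φ ⬝ᵥ v = 0)
  if h : 1 + φ ⬝ᵥ v = 0 then 1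
  else
    { val := 1 + vecMulVec v φ
      inv := 1 + vecMulVec v ((-(1 + φ ⬝ᵥ v)⁻¹) • φ)
      val_inv := by
        refine Matrix.ext_of_mulVec_single fun i => ?_
        simp only [← mulVec_mulVec, add_mulVec, one_mulVec, vecMulVec_mulVec, op_smul_eq_smul, dotProduct_add,
          smul_dotProduct, dotProduct_smul, smul_eq_mul]
        generalize φ ⬝ᵥ Pi.single i 1 = t
        rw [add_assoc, ← add_smul, add_eq_left, smul_eq_zero]
        left
        field_simp
        ring
      inv_val := by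
        refine Matrix.ext_of_mulVec_single fun i => ?_
        simp only [← mulVec_mulVec, add_mulVec, one_mulVec, vecMulVec_mulVec, op_smul_eq_smul, dotProduct_add,
          smul_dotProduct, dotProduct_smul, smul_eq_mul]
        generalize φ ⬝ᵥ Pi.single i 1 = t
        rw [add_assoc, ← add_smul, add_eq_left, smul_eq_zero]
        left
        field_simp
        ring }

lemma pseudo_val {v φ : ι → F} (h : 1 + φ ⬝ᵥ v ≠ 0) :
    (pseudo v φ : Matrix ι ι F) = 1 + vecMulVec v φ := by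
  rw [pseudo, dif_neg h]

lemma pseudo_mulVec {v φ : ι → F} (h : 1 + φ ⬝ᵥ v ≠ 0) (x : ι → F) :
    (pseudo v φ : Matrix ι ι F) *ᵥ x = x + (φ ⬝ᵥ x) • v := by
  rw [pseudo_val h, add_mulVec, one_mulVec, vecMulVec_mulVec, op_smul_eq_smul]

lemma det_pseudo {v φ : ι → F} (h : 1 + φ ⬝ᵥ v ≠ 0) : (pseudo v φ : Matrix ι ι F).det = 1 + φ ⬝ᵥ v := by
  rw [pseudo_val h, vecMulVec_eq Unit, det_one_add_replicateCol_mul_replicateRow]

/-- The quasi-reflection `y ↦ y + (l - 1) f(y, x) x`. -/
noncomputable def qR (f : (ι → F) → (ι → F) → F) (x : ι → F) (l : F) : GL ι F :=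
  pseudo x ((l - 1) • uvec f x)

variable {σ : F ≃+* F} {f : (ι → F) → (ι → F) → F} (hf : Cfsg.Geo.IsUnitaryForm σ f)

include hf

lemma qR_ne {x : ι → F} {l : F} (hx : f x x = 1) (hl : l * σ l = 1) : 1 + ((l - 1) • uvec f x) ⬝ᵥ x ≠ 0 := by
  rw [smul_dotProduct, uvec_dot hf, hx, smul_eq_mul, mul_one, add_sub_cancel]
  exact left_ne_zero_of_mul_eq_one hl

lemma qR_mulVec {x : ι → F} {l : F} (hx : f x x = 1) (hl : l * σ l = 1) (y : ι → F) :
    (qR f x l : Matrix ι ι F) *ᵥ y = y + ((l - 1) * f y x) • x := by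
  rw [qR, pseudo_mulVec (qR_ne hf hx hl), smul_dotProduct, uvec_dot hf, smul_eq_mul]

lemma det_qR {x : ι → F} {l : F} (hx : f x x = 1) (hl : l * σ l = 1) : (qR f x l : Matrix ι ι F).det = l := by
  rw [qR, det_pseudo (qR_ne hf hx hl), smul_dotProduct, uvec_dot hf, hx, smul_eq_mul, mul_one, add_sub_cancel]

lemma iso_qR {x : ι → F} {l : F} (hx : f x x = 1) (hl : l * σ l = 1) : Iso f (qR f x l) := fun y z => by
  rw [qR_mulVec hf hx hl, qR_mulVec hf hx hl, hf.add_left, add_right' hf, add_right' hf, hf.smul_left,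
    hf.smul_left, smul_right' hf, smul_right' hf, hx, map_mul, map_sub, map_one, ← hf.herm]
  linear_combination (f y x * f x z) * hl

lemma qR_mul {x : ι → F} {l l' : F} (hx : f x x = 1) (hl : l * σ l = 1) (hl' : l' * σ l' = 1) :
    qR f x l * qR f x l' = qR f x (l * l') := by
  refine gl_ext fun y => ?_
  rw [mul_mulVec, qR_mulVec hf hx hl', qR_mulVec hf hx hl,
    qR_mulVec hf hx (by rw [map_mul]; linear_combination (l' * σ l') * hl + hl'), hf.add_left, hf.smul_left, hx,
    add_assoc, ← add_smul]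
  congr 2
  ring

lemma qR_one {x : ι → F} (hx : f x x = 1) : qR f x 1 = 1 :=
  gl_ext fun y => by rw [qR_mulVec hf hx (by simp)]; simp

lemma conj_qR {g : GL ι F} (hg : Iso f g) {x : ι → F} {l : F} (hx : f x x = 1) (hl : l * σ l = 1) :
    g * qR f x l * g⁻¹ = qR f ((g : Matrix ι ι F) *ᵥ x) l := by
  refine gl_ext fun y => ?_
  have h := hg (((g⁻¹ : GL ι F) : Matrix ι ι F) *ᵥ y) x
  rw [mulVec_inv_cancel] at h
  rw [mul_mulVec, mul_mulVec, qR_mulVec hf hx hl, qR_mulVec hf (by rw [hg]; exact hx) hl, mulVec_add,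
    mulVec_inv_cancel, mulVec_smul, h]

lemma conj_uT {g : GL ι F} (hg : Iso f g) {v : ι → F} (hv : f v v = 0) (c : F) :
    g * uT f v c * g⁻¹ = uT f ((g : Matrix ι ι F) *ᵥ v) c := by
  refine gl_ext fun y => ?_
  have h := hg (((g⁻¹ : GL ι F) : Matrix ι ι F) *ᵥ y) v
  rw [mulVec_inv_cancel] at h
  rw [mul_mulVec, mul_mulVec, uT_mulVec hf hv, uT_mulVec hf (by rw [hg]; exact hv), mulVec_add,
    mulVec_inv_cancel, mulVec_smul, h]

omit hf in
/-- The group generated by the unitary transvections. -/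
noncomputable def transvGroup (σ : F ≃+* F) (f : (ι → F) → (ι → F) → F) : Subgroup (GL ι F) :=
  Subgroup.closure {g | ∃ v c, f v v = 0 ∧ c + σ c = 0 ∧ g = uT f v c}

lemma uT_mem {v : ι → F} {c : F} (hv : f v v = 0) (hc : c + σ c = 0) : uT f v c ∈ transvGroup σ f :=
  Subgroup.subset_closure ⟨v, c, hv, hc, rfl⟩

lemma transvGroup_conj {g : GL ι F} (hg : Iso f g) {m : GL ι F} (hm : m ∈ transvGroup σ f) :
    g * m * g⁻¹ ∈ transvGroup σ f := by
  induction hm using Subgroup.closure_induction with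
  | mem x hx =>
    obtain ⟨v, c, hv, hc, rfl⟩ := hx
    rw [conj_uT hf hg hv]
    exact uT_mem hf (by rw [hg]; exact hv) hc
  | one => rw [mul_one, mul_inv_cancel]; exact one_mem _
  | mul x y _ _ hx hy =>
    rw [show g * (x * y) * g⁻¹ = (g * x * g⁻¹) * (g * y * g⁻¹) by group]
    exact mul_mem hx hy
  | inv x _ hx =>
    rw [show g * x⁻¹ * g⁻¹ = (g * x * g⁻¹)⁻¹ by group]
    exact inv_mem hx

lemma transvGroup_le {g : GL ι F} (hm : g ∈ transvGroup σ f) :
    Iso f g ∧ (g : Matrix ι ι F).det = 1 := by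
  induction hm using Subgroup.closure_induction with
  | mem x hx =>
    obtain ⟨v, c, hv, hc, rfl⟩ := hx
    exact ⟨iso_uT hf hv hc, (mem_specialLinear_iff _).mp (transv_mem_specialLinear _ _)⟩
  | one => exact ⟨iso_one f, by simp⟩
  | mul x y _ _ hx hy => exact ⟨hx.1.mul hy.1, by rw [Units.val_mul, det_mul, hx.2, hy.2, one_mul]⟩
  | inv x hx' hx =>
    refine ⟨hx.1.inv, ?_⟩
    have h := congrArg Matrix.det (x.inv_mul)
    rwa [det_mul, hx.2, mul_one, det_one] at h

/-- One transvection moving `v` to `b`. -/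
lemma move_unit_one {v b : ι → F} (hvv : f b b = f v v) (h : f v b + f b v = f v v + f v v)
    (hne : f v b ≠ f v v) :
    ∃ m ∈ transvGroup σ f, (m : Matrix ι ι F) *ᵥ v = b ∧
      ∀ x, f x v = 0 → f x b = 0 → (m : Matrix ι ι F) *ᵥ x = x := by
  have hd : f (b - v) (b - v) = 0 := by
    rw [sub_left' hf, sub_right' hf, sub_right' hf]
    linear_combination hvv - h
  obtain ⟨β, hβ⟩ : ∃ β, β = f v (b - v) := ⟨_, rfl⟩
  have hβ0 : β ≠ 0 := by rw [hβ, sub_right' hf]; exact sub_ne_zero.mpr hne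
  have hskew : σ β = -β := by
    rw [hβ, sub_right' hf, map_sub, ← hf.herm, self_fixed hf]
    linear_combination h
  refine ⟨uT f (b - v) β⁻¹, uT_mem hf hd (by rw [map_inv₀, hskew, inv_neg, add_neg_cancel]), ?_, fun x hxv hxb => ?_⟩
  · rw [uT_mulVec hf hd, ← hβ, inv_mul_cancel₀ hβ0, one_smul, add_sub_cancel]
  · rw [uT_mulVec hf hd, sub_right' hf, hxv, hxb, sub_self, mul_zero, zero_smul, add_zero]

variable [Finite F]

/-- An anisotropic vector orthogonal to two given ones. -/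
lemma exists_aniso_perp (hdim : 5 ≤ Fintype.card ι) (a b : ι → F) :
    ∃ k, f k a = 0 ∧ f k b = 0 ∧ f k k ≠ 0 := by
  classical
  obtain ⟨y, hya, hyb, hy⟩ := exists_perp_two hf hdim a b (Submodule.span F ({a, b} : Set (ι → F))) (by
    refine le_trans (finrank_span_le_card _) ?_
    rw [Set.toFinset_insert, Set.toFinset_singleton]
    exact Finset.card_le_two)
  by_cases hyy : f y y = 0
  swap
  · exact ⟨y, hya, hyb, hyy⟩
  obtain ⟨φ, hφ, hφy⟩ := exists_functional hy
  obtain ⟨z, rfl⟩ := uvec_surjective hf φ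
  have hza : f z a = 0 := (eq_zero_comm hf).mp (by rw [← uvec_dot hf]; exact hφ a (Submodule.subset_span (by simp)))
  have hzb : f z b = 0 := (eq_zero_comm hf).mp (by rw [← uvec_dot hf]; exact hφ b (Submodule.subset_span (by simp)))
  rw [uvec_dot hf] at hφy
  by_cases hzz : f z z = 0
  swap
  · exact ⟨z, hza, hzb, hzz⟩
  obtain ⟨e, he⟩ := exists_trace_ne_zero hf.ne_refl
  refine ⟨z + e • y, by rw [hf.add_left, hf.smul_left, hza, hya, mul_zero, add_zero],
    by rw [hf.add_left, hf.smul_left, hzb, hyb, mul_zero, add_zero], fun h0 => he ?_⟩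
  rw [hf.add_left, add_right' hf, add_right' hf, hf.smul_left, hf.smul_left, smul_right' hf, smul_right' hf, hzz,
    hyy, hφy, show f z y = 1 by rw [hf.herm, hφy, map_one]] at h0
  linear_combination h0

/-- A vector with prescribed products with two independent vectors and with itself. -/
lemma exists_fiber (hdim : 5 ≤ Fintype.card ι) {v b : ι → F} (hv : v ∉ Submodule.span F {b})
    (hb : b ∉ Submodule.span F {v}) (α β γ : F) (hγ : σ γ = γ) :
    ∃ z, f z v = α ∧ f z b = β ∧ f z z = γ := by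
  obtain ⟨z1, h1b, h1v⟩ := exists_perp_pair hf hv
  obtain ⟨z2, h2v, h2b⟩ := exists_perp_pair hf hb
  obtain ⟨z0, hz0⟩ : ∃ z0, z0 = (α / f z1 v) • z1 + (β / f z2 b) • z2 := ⟨_, rfl⟩
  obtain ⟨k, hkv, hkb, hkk⟩ := exists_aniso_perp hf hdim v b
  obtain ⟨z', hz'⟩ : ∃ z', z' = z0 - (f z0 k / f k k) • k := ⟨_, rfl⟩
  have hz'k : f z' k = 0 := by rw [hz', sub_left' hf, hf.smul_left, div_mul_cancel₀ _ hkk, sub_self]
  have hz'v : f z' v = α := by
    rw [hz', hz0, sub_left' hf, hf.add_left, hf.smul_left, hf.smul_left, hf.smul_left, hkv, h2v,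
      div_mul_cancel₀ _ h1v]
    ring
  have hz'b : f z' b = β := by
    rw [hz', hz0, sub_left' hf, hf.add_left, hf.smul_left, hf.smul_left, hf.smul_left, hkb, h1b,
      div_mul_cancel₀ _ h2b]
    ring
  obtain ⟨a, ha⟩ := exists_norm_eq hf.ne_refl hf.involutive (b := (γ - f z' z') / f k k)
    (by rw [map_div₀, map_sub, self_fixed hf, self_fixed hf, hγ])
  refine ⟨z' + a • k, by rw [hf.add_left, hf.smul_left, hkv, hz'v]; ring,
    by rw [hf.add_left, hf.smul_left, hkb, hz'b]; ring, ?_⟩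
  rw [hf.add_left, add_right' hf, add_right' hf, hf.smul_left, hf.smul_left, smul_right' hf, smul_right' hf, hz'k,
    (eq_zero_comm hf).mp hz'k, mul_zero, add_zero, mul_zero, zero_add, ← mul_assoc, ha, div_mul_cancel₀ _ hkk,
    add_sub_cancel]

/-- Transitivity of the transvection group on unit vectors. -/
lemma move_unit (hdim : 5 ≤ Fintype.card ι) {v b : ι → F} (hv : f v v = 1) (hb : f b b = 1) :
    ∃ m ∈ transvGroup σ f, (m : Matrix ι ι F) *ᵥ v = b := by
  have hind : ∀ {v b : ι → F}, f v v = 1 → f b b = 1 → b ∉ Submodule.span F {v} → v ∉ Submodule.span F {b} →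
      ∃ m ∈ transvGroup σ f, (m : Matrix ι ι F) *ᵥ v = b := by
    intro v b hv hb hbv hvb
    obtain ⟨c, hc0, hc⟩ := exists_skew hf.ne_refl hf.involutive
    have hσc : σ c = -c := by linear_combination hc
    obtain ⟨z, hzv, hzb, hzz⟩ := exists_fiber hf hdim hvb hbv (1 + c) (1 + c) 1 (map_one σ)
    have hvz : f v z = 1 - c := by rw [hf.herm, hzv, map_add, map_one, hσc, sub_eq_add_neg]
    have hbz : f b z = 1 - c := by rw [hf.herm, hzb, map_add, map_one, hσc, sub_eq_add_neg]
    obtain ⟨m1, hm1, he1, -⟩ := move_unit_one hf (v := v) (b := z) (by rw [hzz, hv])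
      (by rw [hvz, hzv, hv]; ring) (by rw [hvz, hv]; intro h; exact hc0 (by linear_combination -h))
    obtain ⟨m2, hm2, he2, -⟩ := move_unit_one hf (v := z) (b := b) (by rw [hb, hzz])
      (by rw [hzb, hbz, hzz]; ring) (by rw [hzb, hzz]; intro h; exact hc0 (by linear_combination h))
    exact ⟨m2 * m1, mul_mem hm2 hm1, by rw [mul_mulVec, he1, he2]⟩
  have hne : ∀ {x : ι → F}, f x x = 1 → x ≠ 0 := fun h h0 => by
    rw [h0, zero_left' hf] at h; exact zero_ne_one h
  by_cases h : b ∈ Submodule.span F {v}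
  · obtain ⟨y, hy, hyv, hys⟩ := exists_iso_perp hf hdim v
    have hw : f (v + y) (v + y) = 1 := by
      rw [hf.add_left, add_right' hf, add_right' hf, hv, hy, hyv, (eq_zero_comm hf).mp hyv]; ring
    have hwv : v + y ∉ Submodule.span F {v} := fun hm => hys (by
      have := Submodule.sub_mem _ hm (Submodule.mem_span_singleton_self v)
      rwa [add_sub_cancel_left] at this)
    obtain ⟨k, hk⟩ := Submodule.mem_span_singleton.mp h
    have hk0 : k ≠ 0 := fun h0 => hne hb (by rw [← hk, h0, zero_smul])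
    have hspan : Submodule.span F ({b} : Set (ι → F)) = Submodule.span F {v} := by
      rw [← hk, Submodule.span_singleton_smul_eq (isUnit_iff_ne_zero.mpr hk0)]
    have hsymm : ∀ {x : ι → F}, v + y ∉ Submodule.span F {x} → x ≠ 0 → x ∉ Submodule.span F {v + y} :=
      fun hx hx0 hm => by
        obtain ⟨j, hj⟩ := Submodule.mem_span_singleton.mp hm
        have hj0 : j ≠ 0 := fun h0 => hx0 (by rw [← hj, h0, zero_smul])
        exact hx (Submodule.mem_span_singleton.mpr ⟨j⁻¹, by rw [← hj, inv_smul_smul₀ hj0]⟩)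
    obtain ⟨m1, hm1, he1⟩ := hind hv hw hwv (hsymm hwv (hne hv))
    have hwb : v + y ∉ Submodule.span F {b} := by rwa [hspan]
    obtain ⟨m2, hm2, he2⟩ := hind hw hb (hsymm hwb (hne hb)) hwb
    exact ⟨m2 * m1, mul_mem hm2 hm1, by rw [mul_mulVec, he1, he2]⟩
  · refine hind hv hb h fun hm => h ?_
    obtain ⟨k, hk⟩ := Submodule.mem_span_singleton.mp hm
    have hk0 : k ≠ 0 := fun h0 => hne hv (by rw [← hk, h0, zero_smul])
    exact Submodule.mem_span_singleton.mpr ⟨k⁻¹, by rw [← hk, inv_smul_smul₀ hk0]⟩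

/-- Isometries fixing part of an orthonormal basis move the next basis vector by quasi-reflections and
transvections fixing that part. -/
lemma exists_move_basis {v b : ι → F} (hv : f v v = 1) (hb : f b b = 1) {l₀ : F} (hl₀ : l₀ * σ l₀ = 1)
    (hl₀1 : l₀ ≠ 1) {S : Subgroup (GL ι F)} (hT : transvGroup σ f ≤ S)
    (hR : ∀ x l, f x x = 1 → l * σ l = 1 → qR f x l ∈ S) :
    ∃ g ∈ S, Iso f g ∧ (g : Matrix ι ι F) *ᵥ v = b ∧
      ∀ x, f x v = 0 → f x b = 0 → (g : Matrix ι ι F) *ᵥ x = x := by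
  have step : ∀ {w : ι → F}, f w w = 1 → f w b ≠ 1 ∨ w = b →
      ∃ g ∈ S, Iso f g ∧ (g : Matrix ι ι F) *ᵥ w = b ∧
        ∀ x, f x w = 0 → f x b = 0 → (g : Matrix ι ι F) *ᵥ x = x := by
    intro w hw hor
    rcases hor with hα | rfl
    swap
    · exact ⟨1, one_mem S, iso_one f, by simp, fun x _ _ => by simp⟩
    by_cases hd : f (b - w) (b - w) = 0
    · have hsum : f w b + f b w = f w w + f w w := by
        rw [sub_left' hf, sub_right' hf, sub_right' hf, hb, hw] at hd
        rw [hw]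
        linear_combination -hd
      obtain ⟨m, hm, he, hx⟩ := move_unit_one hf (v := w) (b := b) (by rw [hb, hw]) hsum (by rw [hw]; exact hα)
      exact ⟨m, hT hm, (transvGroup_le hf hm).1, he, hx⟩
    obtain ⟨a, ha⟩ := exists_norm_eq hf.ne_refl hf.involutive (b := (f (b - w) (b - w))⁻¹)
      (by rw [map_inv₀, self_fixed hf])
    obtain ⟨x, hx⟩ : ∃ x, x = a • (b - w) := ⟨_, rfl⟩
    have hxx : f x x = 1 := by rw [hx, hf.smul_left, smul_right' hf, ← mul_assoc, ha, inv_mul_cancel₀ hd]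
    obtain ⟨l, hl⟩ : ∃ l, l = 1 + f (b - w) (b - w) / f w (b - w) := ⟨_, rfl⟩
    have hwd : f w (b - w) = f w b - 1 := by rw [sub_right' hf, hw]
    have hwd0 : f w (b - w) ≠ 0 := by rw [hwd]; exact sub_ne_zero.mpr hα
    have hl' : l = -(σ (f w b) - 1) / (f w b - 1) := by
      rw [hl, hwd, ← hf.herm, sub_left' hf, sub_right' hf, sub_right' hf, hb, hw, eq_div_iff (sub_ne_zero.mpr hα),
        add_mul, div_mul_cancel₀ _ (sub_ne_zero.mpr hα)]
      ring
    have hσα : σ (f w b) - 1 ≠ 0 := by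
      rw [← map_one σ, ← map_sub, map_ne_zero_iff _ σ.injective]
      exact sub_ne_zero.mpr hα
    have hnorm : l * σ l = 1 := by
      rw [hl', map_div₀, map_neg, map_sub, map_sub, hf.involutive, map_one]
      field_simp [sub_ne_zero.mpr hα, hσα]
    refine ⟨qR f x l, hR x l hxx hnorm, iso_qR hf hxx hnorm, ?_, fun y hyw hyb => ?_⟩
    · rw [qR_mulVec hf hxx hnorm, hx, smul_right' hf, smul_smul]
      have : (l - 1) * (σ a * f w (b - w)) * a = 1 := by
        rw [hl, add_sub_cancel_left]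
        calc f (b - w) (b - w) / f w (b - w) * (σ a * f w (b - w)) * a
            = (a * σ a) * (f (b - w) (b - w) / f w (b - w) * f w (b - w)) := by ring
          _ = 1 := by rw [div_mul_cancel₀ _ hwd0, ha, inv_mul_cancel₀ hd]
      rw [this, one_smul, add_sub_cancel]
    · rw [qR_mulVec hf hxx hnorm, hx, smul_right' hf, sub_right' hf, hyw, hyb, sub_self, mul_zero, mul_zero,
        zero_smul, add_zero]
  by_cases hα : f v b = 1
  · obtain ⟨g, hg, hgi, he, hfix⟩ := step (w := l₀ • v) (by rw [hf.smul_left, smul_right' hf, hv, mul_one, hl₀])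
      (Or.inl (by rw [hf.smul_left, hα, mul_one]; exact hl₀1))
    refine ⟨g * qR f v l₀, mul_mem hg (hR v l₀ hv hl₀), hgi.mul (iso_qR hf hv hl₀), ?_, fun x hxv hxb => ?_⟩
    · rw [mul_mulVec, qR_mulVec hf hv hl₀, hv, mul_one, sub_smul, one_smul, add_sub_cancel, he]
    · rw [mul_mulVec, qR_mulVec hf hv hl₀, hxv, mul_zero, zero_smul, add_zero]
      exact hfix x (by rw [smul_right' hf, hxv, mul_zero]) hxb
  · exact step hv (Or.inl hα)

/-- The special unitary group is generated by its transvections. -/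
theorem mem_transvGroup (hdim : 5 ≤ Fintype.card ι)
    (hbasis : ∀ i j : ι, f (Pi.single i 1) (Pi.single j 1) = if i = j then 1 else 0) {g : GL ι F}
    (hg : Iso f g) (hdet : (g : Matrix ι ι F).det = 1) : g ∈ transvGroup σ f := by
  classical
  haveI := Fintype.ofFinite F
  obtain ⟨i₀⟩ : Nonempty ι := Fintype.card_pos_iff.mp (by omega)
  obtain ⟨x₀, hx₀⟩ : ∃ x₀ : ι → F, f x₀ x₀ = 1 := ⟨Pi.single i₀ 1, by rw [hbasis, if_pos rfl]⟩
  -- a non-trivial scalar of norm one
  obtain ⟨l₀, hl₀, hl₀1⟩ : ∃ l : F, l * σ l = 1 ∧ l ≠ 1 := by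
    obtain ⟨a, ha⟩ : ∃ a : F, σ a ≠ a := by
      by_contra h
      simp only [not_exists, not_not] at h
      exact hf.ne_refl (RingEquiv.ext h)
    have ha0 : a ≠ 0 := fun h => ha (by rw [h, map_zero])
    have hσa : σ a ≠ 0 := (map_ne_zero_iff _ σ.injective).mpr ha0
    exact ⟨σ a / a, by rw [map_div₀, hf.involutive]; field_simp, fun h => ha ((div_eq_one_iff_eq ha0).mp h)⟩
  have hnorm1 : ∀ {l l' : F}, l * σ l = 1 → l' * σ l' = 1 → (l * l') * σ (l * l') = 1 := fun {l l'} hl hl' => by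
    rw [map_mul]; linear_combination (l' * σ l') * hl + hl'
  let S : Subgroup (GL ι F) :=
    { carrier := {g | ∃ m ∈ transvGroup σ f, ∃ l : F, l * σ l = 1 ∧ g = m * qR f x₀ l}
      one_mem' := ⟨1, one_mem _, 1, by simp, by rw [qR_one hf hx₀, one_mul]⟩
      mul_mem' := by
        rintro _ _ ⟨m, hm, l, hl, rfl⟩ ⟨m', hm', l', hl', rfl⟩
        refine ⟨m * (qR f x₀ l * m' * (qR f x₀ l)⁻¹), mul_mem hm (transvGroup_conj hf (iso_qR hf hx₀ hl) hm'),
          l * l', hnorm1 hl hl', ?_⟩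
        rw [← qR_mul hf hx₀ hl hl']
        group
      inv_mem' := by
        rintro _ ⟨m, hm, l, hl, rfl⟩
        have hl' : l⁻¹ * σ l⁻¹ = 1 := by rw [map_inv₀, ← mul_inv, hl, inv_one]
        have hi : (qR f x₀ l)⁻¹ = qR f x₀ l⁻¹ := inv_eq_of_mul_eq_one_right (by
          rw [qR_mul hf hx₀ hl hl', mul_inv_cancel₀ (left_ne_zero_of_mul_eq_one hl), qR_one hf hx₀])
        refine ⟨(qR f x₀ l)⁻¹ * m⁻¹ * qR f x₀ l, ?_, l⁻¹, hl', ?_⟩
        · simpa using transvGroup_conj hf (iso_qR hf hx₀ hl).inv (inv_mem hm)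
        · rw [← hi]; group }
  have hT : transvGroup σ f ≤ S := fun m hm => ⟨m, hm, 1, by simp, by rw [qR_one hf hx₀, mul_one]⟩
  have hR : ∀ x l, f x x = 1 → l * σ l = 1 → qR f x l ∈ S := by
    intro x l hx hl
    obtain ⟨m, hm, hmx⟩ := move_unit hf hdim hx₀ hx
    refine ⟨m * (qR f x₀ l * m⁻¹ * (qR f x₀ l)⁻¹),
      mul_mem hm (transvGroup_conj hf (iso_qR hf hx₀ hl) (inv_mem hm)), l, hl, ?_⟩
    rw [← hmx, ← conj_qR hf (transvGroup_le hf hm).1 hx₀ hl]
    group
  have main : ∀ (s : Finset ι) (g : GL ι F), Iso f g →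
      (∀ i ∉ s, (g : Matrix ι ι F) *ᵥ Pi.single i 1 = Pi.single i 1) → g ∈ S := by
    intro s
    induction s using Finset.induction_on with
    | empty =>
      intro g _ h
      have : g = 1 := Units.ext (Matrix.ext_of_mulVec_single fun i => by
        rw [h i (Finset.notMem_empty i), Units.val_one, one_mulVec])
      rw [this]
      exact one_mem S
    | @insert i s hi ih =>
      intro g hg h
      obtain ⟨r, hr, hri, he, hfix⟩ := exists_move_basis hf (v := (g : Matrix ι ι F) *ᵥ Pi.single i 1)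
        (b := Pi.single i 1) (by rw [hg, hbasis, if_pos rfl]) (by rw [hbasis, if_pos rfl]) hl₀ hl₀1 hT hR
      have h1 : r * g ∈ S := ih (r * g) (hri.mul hg) fun j hj => by
        rw [mul_mulVec]
        by_cases hji : j = i
        · rw [hji, he]
        · have hgj := h j (fun hm => (Finset.mem_insert.mp hm).elim hji hj)
          rw [hgj]
          refine hfix _ ?_ (by rw [hbasis, if_neg hji])
          nth_rewrite 1 [← hgj]
          rw [hg, hbasis, if_neg hji]
      have := mul_mem (inv_mem hr) h1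
      rwa [inv_mul_cancel_left] at this
  obtain ⟨m, hm, l, hl, rfl⟩ := main Finset.univ g hg fun i hi => absurd (Finset.mem_univ i) hi
  rw [Units.val_mul, det_mul, (transvGroup_le hf hm).2, det_qR hf hx₀ hl, one_mul] at hdet
  rw [hdet, qR_one hf hx₀, mul_one]
  exact hm

omit [Finite F] in
/-- A group containing all unitary transvections contains the group they generate. -/
lemma transvGroup_le_of {M : Subgroup (GL ι F)} (hU : ∀ v, f v v = 0 → ∀ c, c + σ c = 0 → uT f v c ∈ M) :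
    transvGroup σ f ≤ M :=
  (Subgroup.closure_le M).mpr (by rintro _ ⟨v, c, hv, hc, rfl⟩; exact hU v hv c hc)

end CfsgLib.Transvec.Unitary
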