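/-
The standard unitary form hermForm n F q as an instance of IsUnitaryForm, and generation of GU ⊓ SL.
-/
import Cfsg.Agent.Lib.Transvec.UnitaryGen
import Cfsg.Prelude.Def_LieClassical

set_option autoImplicit false

namespace CfsgLib.Transvec.Unitary

open Matrix CfsgLib.Transvec
open scoped MatrixGroups

variable {F : Type*} [Field F]

/-- The q-power automorphism of the field with q² elements. -/
theorem exists_frob [Fintype F] {q : ℕ} (hF : Fintype.card F = q ^ 2) :
    ∃ σ : F ≃+* F, (∀ x, σ x = x ^ q) ∧ (∀ x, σ (σ x) = x) ∧ σ ≠ RingEquiv.refl F := by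
  obtain ⟨p, hchar⟩ := CharP.exists F
  obtain ⟨n, hp, hn⟩ := FiniteField.card F p
  haveI : Fact p.Prime := ⟨hp⟩
  haveI : ExpChar F p := ExpChar.prime hp
  obtain ⟨j, -, rfl⟩ := (Nat.dvd_prime_pow hp).1
    (show q ∣ p ^ (n : ℕ) by rw [← hn, hF]; exact dvd_pow_self q two_ne_zero)
  have hq1 : 1 < p ^ j := by
    have h1 : 1 < (p ^ j) ^ 2 := hF ▸ Fintype.one_lt_card
    by_contra h
    have h2 : (p ^ j) ^ 2 ≤ 1 ^ 2 := Nat.pow_le_pow_left (not_lt.mp h) 2
    omega
  have hbij : Function.Bijective (iterateFrobenius F p j) :=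
    Finite.injective_iff_bijective.mp (RingHom.injective _)
  have happ : ∀ x, RingEquiv.ofBijective (iterateFrobenius F p j) hbij x = x ^ (p ^ j) := fun x =>
    iterateFrobenius_def p j x
  refine ⟨RingEquiv.ofBijective (iterateFrobenius F p j) hbij, happ, fun x => ?_, fun h => ?_⟩
  · rw [happ, happ, ← pow_mul, ← pow_two, ← hF, FiniteField.pow_card]
  · classical
    have hroot : ∀ x : F, (Polynomial.X ^ (p ^ j) - Polynomial.X : Polynomial F).IsRoot x := fun x => by
      have := happ x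
      rw [h, RingEquiv.refl_apply] at this
      simp [← this]
    have h1 : Fintype.card F ≤ (Polynomial.X ^ (p ^ j) - Polynomial.X : Polynomial F).natDegree := by
      refine le_trans ?_ (Polynomial.card_roots' _)
      refine le_trans (le_of_eq Finset.card_univ.symm) ((Finset.card_le_card fun x _ => ?_).trans
        (Multiset.toFinset_card_le _))
      rw [Multiset.mem_toFinset, Polynomial.mem_roots (FiniteField.X_pow_card_sub_X_ne_zero F hq1)]
      exact hroot x
    rw [FiniteField.X_pow_card_sub_X_natDegree_eq F hq1, hF] at h1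
    nlinarith

variable {n q : ℕ} {σ : F ≃+* F}

lemma hermForm_eq (hσ : ∀ x, σ x = x ^ q) (u v : Fin n → F) :
    Cfsg.hermForm n F q u v = ∑ i, u i * σ (v i) := by
  simp [Cfsg.hermForm, hσ]

lemma hermForm_single (hσ : ∀ x, σ x = x ^ q) (i : Fin n) (v : Fin n → F) :
    Cfsg.hermForm n F q (Pi.single i 1) v = σ (v i) := by
  rw [hermForm_eq hσ, Finset.sum_eq_single i (fun k _ hk => by simp [hk])
    (fun h => absurd (Finset.mem_univ i) h)]
  simp

theorem isUnitaryForm_hermForm (hσ : ∀ x, σ x = x ^ q) (hinv : ∀ x, σ (σ x) = x) (hne : σ ≠ RingEquiv.refl F) :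
    Cfsg.Geo.IsUnitaryForm σ (Cfsg.hermForm n F q) := by
  have herm : ∀ v w : Fin n → F, Cfsg.hermForm n F q v w = σ (Cfsg.hermForm n F q w v) := fun v w => by
    rw [hermForm_eq hσ, hermForm_eq hσ, map_sum]
    exact Finset.sum_congr rfl fun i _ => by rw [map_mul, hinv, mul_comm]
  refine ⟨hne, hinv, fun x y v => ?_, fun c x v => ?_, herm, fun v hv => ?_⟩
  · simp [Cfsg.hermForm, add_mul, Finset.sum_add_distrib]
  · simp [Cfsg.hermForm, Finset.mul_sum, mul_assoc]
  · obtain ⟨k, hk⟩ := Function.ne_iff.mp hv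
    have h : Cfsg.hermForm n F q (Pi.single k 1) v ≠ 0 := by
      rw [hermForm_single hσ]
      exact (map_ne_zero_iff _ σ.injective).mpr hk
    exact ⟨⟨_, h⟩, ⟨Pi.single k 1, fun h0 => h (by rw [herm, h0, map_zero])⟩⟩

lemma hermForm_basis (hσ : ∀ x, σ x = x ^ q) (i j : Fin n) :
    Cfsg.hermForm n F q (Pi.single i 1) (Pi.single j 1) = if i = j then 1 else 0 := by
  rw [hermForm_single hσ]
  by_cases h : i = j
  · simp [h]
  · simp [h]

lemma mem_GU_iff (g : GL (Fin n) F) : g ∈ Cfsg.GU n F q ↔ Iso (Cfsg.hermForm n F q) g := Iff.rfl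

/-- GU ⊓ SL lies in every group containing all unitary transvections. -/
theorem SU_le_of_transv [Finite F] (hσ : ∀ x, σ x = x ^ q) (hinv : ∀ x, σ (σ x) = x) (hne : σ ≠ RingEquiv.refl F)
    (hn : 5 ≤ n) {M : Subgroup (GL (Fin n) F)}
    (hU : ∀ v, Cfsg.hermForm n F q v v = 0 → ∀ c, c + σ c = 0 → uT (Cfsg.hermForm n F q) v c ∈ M) :
    Cfsg.GU n F q ⊓ Cfsg.Geo.specialLinear (Fin n) F ≤ M := fun g hg =>
  transvGroup_le_of (isUnitaryForm_hermForm hσ hinv hne) hU
    (mem_transvGroup (isUnitaryForm_hermForm hσ hinv hne) (by rw [Fintype.card_fin]; exact hn)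
      (hermForm_basis hσ) hg.1 ((mem_specialLinear_iff g).mp hg.2))

lemma uT_mem_SU (hσ : ∀ x, σ x = x ^ q) (hinv : ∀ x, σ (σ x) = x) (hne : σ ≠ RingEquiv.refl F)
    {v : Fin n → F} (hv : Cfsg.hermForm n F q v v = 0) {c : F} (hc : c + σ c = 0) :
    uT (Cfsg.hermForm n F q) v c ∈ Cfsg.GU n F q ⊓ Cfsg.Geo.specialLinear (Fin n) F :=
  ⟨iso_uT (isUnitaryForm_hermForm hσ hinv hne) hv hc, transv_mem_specialLinear _ _⟩

end CfsgLib.Transvec.Unitary
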