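/-
Subspaces of unitary spaces: orthogonals, isotropic vectors and moves inside a non-degenerate subspace, and
isotropic vectors all of whose transvections lie in a given group.
-/
import Cfsg.Agent.Lib.Transvec.UnitaryGen

set_option autoImplicit false

namespace CfsgLib.Transvec.Unitary

open Matrix CfsgLib.Transvec
open scoped MatrixGroups

variable {ι : Type} [Fintype ι] [DecidableEq ι] {F : Type*} [Field F] {σ : F ≃+* F}
  {f : (ι → F) → (ι → F) → F}

/-- An isotropic vector all of whose unitary transvections lie in `M`. -/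
def UFull (σ : F ≃+* F) (f : (ι → F) → (ι → F) → F) (M : Subgroup (GL ι F)) (v : ι → F) : Prop :=
  f v v = 0 ∧ ∀ c, c + σ c = 0 → uT f v c ∈ M

variable (hf : Cfsg.Geo.IsUnitaryForm σ f)

/-- The orthogonal of a subspace. -/
def perpU (W : Submodule F (ι → F)) : Submodule F (ι → F) where
  carrier := {x | ∀ w ∈ W, f x w = 0}
  zero_mem' _ _ := zero_left' hf _
  add_mem' ha hb w hw := by rw [hf.add_left, ha w hw, hb w hw, add_zero]
  smul_mem' c x hx w hw := by rw [hf.smul_left, hx w hw, mul_zero]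

include hf

lemma mem_perpU {W : Submodule F (ι → F)} {x : ι → F} : x ∈ perpU hf W ↔ ∀ w ∈ W, f x w = 0 := Iff.rfl

lemma perp_left {W : Submodule F (ι → F)} {x w : ι → F} (hx : x ∈ perpU hf W) (hw : w ∈ W) : f w x = 0 :=
  (eq_zero_comm hf).mp (hx w hw)

lemma uT_add_smul {u v : ι → F} {M : Subgroup (GL ι F)} (hu : UFull σ f M u) {c : F} (hv : f v v = 0)
    (hc : c + σ c = 0) (hm : uT f v c ∈ M) : UFull σ f M (u + (c * f u v) • v) := by
  refine ⟨?_, fun d hd => ?_⟩
  · rw [← uT_mulVec hf hv, iso_uT hf hv hc]; exact hu.1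
  · have h := M.mul_mem (M.mul_mem hm (hu.2 d hd)) (M.inv_mem hm)
    rwa [conj_uT hf (iso_uT hf hv hc) hu.1, uT_mulVec hf hv] at h

lemma ufull_conj {M : Subgroup (GL ι F)} {g : GL ι F} (hg : g ∈ M) (hi : Iso f g) {v : ι → F}
    (hv : UFull σ f M v) : UFull σ f M ((g : Matrix ι ι F) *ᵥ v) := by
  refine ⟨by rw [hi]; exact hv.1, fun d hd => ?_⟩
  rw [← conj_uT hf hi hv.1]
  exact M.mul_mem (M.mul_mem hg (hv.2 d hd)) (M.inv_mem hg)

lemma ufull_smul {M : Subgroup (GL ι F)} {v : ι → F} (hv : UFull σ f M v) (a : F) :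
    UFull σ f M (a • v) := by
  have hi : f (a • v) (a • v) = 0 := by rw [hf.smul_left, smul_right' hf, hv.1]; ring
  refine ⟨hi, fun c hc => ?_⟩
  have e : uT f (a • v) c = uT f v (a * σ a * c) := gl_ext fun x => by
    rw [uT_mulVec hf hi, uT_mulVec hf hv.1, smul_right' hf, smul_smul]
    congr 2
    ring
  rw [e]
  exact hv.2 _ (by rw [map_mul, map_mul, hf.involutive]; linear_combination (a * σ a) * hc)

lemma uT_mem_stab_of_perp {W : Submodule F (ι → F)} {v : ι → F} (hv : f v v = 0) (h : v ∈ perpU hf W) (c : F) :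
    uT f v c ∈ Cfsg.Geo.subspaceStabilizer W :=
  mem_subspaceStabilizer_of_maps fun x hx => by
    rw [uT_mulVec hf hv, perp_left hf h hx, mul_zero, zero_smul, add_zero]; exact hx

lemma uT_mem_stab_of_mem {W : Submodule F (ι → F)} {v : ι → F} (hv : f v v = 0) (h : v ∈ W) (c : F) :
    uT f v c ∈ Cfsg.Geo.subspaceStabilizer W :=
  mem_subspaceStabilizer_of_maps fun x hx => by
    rw [uT_mulVec hf hv]; exact W.add_mem hx (W.smul_mem _ h)

lemma finrank_perpU_ge (W : Submodule F (ι → F)) :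
    Fintype.card ι ≤ Module.finrank F (perpU hf W) + Module.finrank F W := by
  let b := Module.finBasis F W
  let T : (ι → F) →ₗ[F] (Fin (Module.finrank F W) → F) := LinearMap.pi fun i => linL hf (b i : ι → F)
  have hker : LinearMap.ker T ≤ perpU hf W := by
    intro x hx w hw
    have h0 : ∀ i, f x (b i : ι → F) = 0 := fun i => congrFun (LinearMap.mem_ker.mp hx) i
    have hspan : (⟨w, hw⟩ : W) ∈ Submodule.span F (Set.range b) := by rw [b.span_eq]; trivial
    refine Submodule.span_induction (p := fun (y : W) _ => f x (y : ι → F) = 0) ?_ ?_ ?_ ?_ hspan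
    · rintro _ ⟨i, rfl⟩; exact h0 i
    · exact zero_right' hf x
    · intro y z _ _ hy hz; rw [Submodule.coe_add, add_right' hf, hy, hz, add_zero]
    · intro a y _ hy; rw [Submodule.coe_smul, smul_right' hf, hy, mul_zero]
  have h1 := LinearMap.finrank_range_add_finrank_ker T
  have h2 := Submodule.finrank_le (LinearMap.range T)
  have h3 := Submodule.finrank_mono hker
  rw [Module.finrank_fin_fun] at h2
  rw [Module.finrank_fintype_fun_eq_card] at h1
  omega

lemma exists_add_perpU {W : Submodule F (ι → F)} (hnd : ∀ w ∈ W, w ≠ 0 → ∃ x ∈ W, f x w ≠ 0) (x : ι → F) :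
    ∃ a ∈ W, ∃ b ∈ perpU hf W, a + b = x := by
  have hdis : W ⊓ perpU hf W = ⊥ := by
    rw [eq_bot_iff]
    rintro w ⟨hw, hw'⟩
    rw [Submodule.mem_bot]
    by_contra h0
    obtain ⟨y, hy, hyw⟩ := hnd w hw h0
    exact hyw (perp_left hf hw' hy)
  have htop : W ⊔ perpU hf W = ⊤ := by
    refine Submodule.eq_top_of_finrank_eq ?_
    have h := Submodule.finrank_sup_add_finrank_inf_eq W (perpU hf W)
    rw [hdis, finrank_bot, add_zero] at h
    have h4 := Submodule.finrank_le (W ⊔ perpU hf W)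
    have h5 := finrank_perpU_ge hf W
    rw [Module.finrank_fintype_fun_eq_card] at h4 ⊢
    omega
  exact Submodule.mem_sup.mp (htop ▸ Submodule.mem_top)

lemma perpU_nondegenerate {W : Submodule F (ι → F)} (hnd : ∀ w ∈ W, w ≠ 0 → ∃ x ∈ W, f x w ≠ 0) :
    ∀ w ∈ perpU hf W, w ≠ 0 → ∃ x ∈ perpU hf W, f x w ≠ 0 := by
  intro w hw hw0
  obtain ⟨y, hy⟩ := (hf.nondegenerate w hw0).1
  obtain ⟨a, ha, b, hb, rfl⟩ := exists_add_perpU hf hnd y
  exact ⟨b, hb, fun h => hy (by rw [hf.add_left, h, perp_left hf hw ha, add_zero])⟩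

variable [Finite F]

lemma perpU_perpU (W : Submodule F (ι → F)) : perpU hf (perpU hf W) = W := by
  refine le_antisymm (fun y hy => ?_) (fun w hw z hz => perp_left hf hz hw)
  by_contra hyW
  obtain ⟨φ, hφ, hφy⟩ := exists_functional hyW
  obtain ⟨z, rfl⟩ := uvec_surjective hf φ
  rw [uvec_dot hf, hy z fun w hw => (eq_zero_comm hf).mp (by rw [← uvec_dot hf]; exact hφ w hw)] at hφy
  exact zero_ne_one hφy

section Nondeg

variable {U : Submodule F (ι → F)} (hnd : ∀ w ∈ U, w ≠ 0 → ∃ x ∈ U, f x w ≠ 0)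

include hnd

lemma exists_perp_pair_in {p v : ι → F} (hpU : p ∈ U) (hvU : v ∈ U) (h : v ∉ Submodule.span F {p}) :
    ∃ z ∈ U, f z p = 0 ∧ f z v ≠ 0 := by
  obtain ⟨z, hzp, hzv⟩ := exists_perp_pair hf h
  obtain ⟨a, ha, b, hb, rfl⟩ := exists_add_perpU hf hnd z
  rw [hf.add_left, hb p hpU, add_zero] at hzp
  rw [hf.add_left, hb v hvU, add_zero] at hzv
  exact ⟨a, ha, hzp, hzv⟩

/-- Inside `U` there is an anisotropic vector orthogonal to two given ones. -/
lemma exists_aniso_perp_in (hdim : 4 ≤ Module.finrank F U) {a b : ι → F} (ha : a ∈ U) (hb : b ∈ U)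
    (hts : ¬ (f a a = 0 ∧ f a b = 0 ∧ f b b = 0) ∨ b ∈ Submodule.span F {a}) :
    ∃ k ∈ U, f k a = 0 ∧ f k b = 0 ∧ f k k ≠ 0 := by
  classical
  let T : U →ₗ[F] F × F := ((linL hf a).prod (linL hf b)).domRestrict U
  have h1 := LinearMap.finrank_range_add_finrank_ker T
  have h2 := Submodule.finrank_le (LinearMap.range T)
  rw [Module.finrank_prod, Module.finrank_self] at h2
  have hab : Submodule.span F ({a, b} : Set (ι → F)) ≤ U := Submodule.span_le.mpr (by
    rintro z (rfl | rfl)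
    · exact ha
    · exact hb)
  have hne : ∃ y ∈ U, f y a = 0 ∧ f y b = 0 ∧ y ∉ Submodule.span F ({a, b} : Set (ι → F)) := by
    by_contra hcon
    simp only [not_exists, not_and, not_not] at hcon
    have hle : (LinearMap.ker T).map U.subtype ≤ Submodule.span F ({a, b} : Set (ι → F)) := by
      rintro _ ⟨y, hy, rfl⟩
      have hy' : (f (y : ι → F) a, f (y : ι → F) b) = 0 := LinearMap.mem_ker.mp hy
      rw [Prod.mk_eq_zero] at hy'
      exact hcon y y.2 hy'.1 hy'.2
    have h3 := Submodule.finrank_mono hle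
    rw [Submodule.finrank_map_subtype_eq] at h3
    have h4 : Module.finrank F (Submodule.span F ({a, b} : Set (ι → F))) ≤ 2 := by
      refine le_trans (finrank_span_le_card _) ?_
      rw [Set.toFinset_insert, Set.toFinset_singleton]
      exact Finset.card_le_two
    rcases hts with hts | hts
    · have h5 : (LinearMap.ker T).map U.subtype = Submodule.span F ({a, b} : Set (ι → F)) :=
        Submodule.eq_of_le_of_finrank_le hle (by rw [Submodule.finrank_map_subtype_eq]; omega)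
      have hperp : ∀ x ∈ Submodule.span F ({a, b} : Set (ι → F)), f x a = 0 ∧ f x b = 0 := by
        intro x hx
        rw [← h5] at hx
        obtain ⟨y, hy, rfl⟩ := hx
        have hy' : (f (y : ι → F) a, f (y : ι → F) b) = 0 := LinearMap.mem_ker.mp hy
        rwa [Prod.mk_eq_zero] at hy'
      obtain ⟨haa, hab'⟩ := hperp a (Submodule.subset_span (by simp))
      exact hts ⟨haa, hab', (hperp b (Submodule.subset_span (by simp))).2⟩
    · have h5 : Submodule.span F ({a, b} : Set (ι → F)) ≤ Submodule.span F {a} :=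
        Submodule.span_le.mpr (by
          rintro z (rfl | rfl)
          · exact Submodule.mem_span_singleton_self _
          · exact hts)
      have h6 := (Submodule.finrank_mono (hle.trans h5)).trans (finrank_span_le_card _)
      rw [Submodule.finrank_map_subtype_eq, Set.toFinset_singleton, Finset.card_singleton] at h6
      omega
  obtain ⟨y, hyU, hya, hyb, hy⟩ := hne
  by_cases hyy : f y y = 0
  swap
  · exact ⟨y, hyU, hya, hyb, hyy⟩
  obtain ⟨φ, hφ, hφy⟩ := exists_functional hy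
  obtain ⟨w, rfl⟩ := uvec_surjective hf φ
  obtain ⟨z, hz, r, hr, rfl⟩ := exists_add_perpU hf hnd w
  have hdot : ∀ x ∈ U, uvec f (z + r) ⬝ᵥ x = f x z := fun x hx => by
    rw [uvec_dot hf, add_right' hf, perp_left hf hr hx, add_zero]
  rw [hdot y hyU] at hφy
  have hza : f z a = 0 := (eq_zero_comm hf).mp (by rw [← hdot a ha]; exact hφ a (Submodule.subset_span (by simp)))
  have hzb : f z b = 0 := (eq_zero_comm hf).mp (by rw [← hdot b hb]; exact hφ b (Submodule.subset_span (by simp)))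
  by_cases hzz : f z z = 0
  swap
  · exact ⟨z, hz, hza, hzb, hzz⟩
  obtain ⟨e, he⟩ := exists_trace_ne_zero hf.ne_refl
  refine ⟨z + e • y, U.add_mem hz (U.smul_mem _ hyU), by rw [hf.add_left, hf.smul_left, hza, hya]; ring,
    by rw [hf.add_left, hf.smul_left, hzb, hyb]; ring, fun h0 => he ?_⟩
  rw [hf.add_left, add_right' hf, add_right' hf, hf.smul_left, hf.smul_left, smul_right' hf, smul_right' hf, hzz,
    hyy, hφy, show f z y = 1 by rw [hf.herm, hφy, map_one]] at h0
  linear_combination h0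

/-- Prescribed products with two independent vectors of `U` and prescribed norm. -/
lemma exists_fiber_in (hdim : 4 ≤ Module.finrank F U) {v b : ι → F} (hvU : v ∈ U) (hbU : b ∈ U)
    (hv : v ∉ Submodule.span F {b}) (hb : b ∉ Submodule.span F {v}) (α β γ : F) (hγ : σ γ = γ)
    (hcond : α ≠ 0 ∨ β ≠ 0 ∨ ¬ (f v v = 0 ∧ f v b = 0 ∧ f b b = 0)) :
    ∃ z ∈ U, f z v = α ∧ f z b = β ∧ f z z = γ := by
  obtain ⟨z1, hz1, h1b, h1v⟩ := exists_perp_pair_in hf hnd hbU hvU hv
  obtain ⟨z2, hz2, h2v, h2b⟩ := exists_perp_pair_in hf hnd hvU hbU hb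
  obtain ⟨z0, hz0⟩ : ∃ z0, z0 = (α / f z1 v) • z1 + (β / f z2 b) • z2 := ⟨_, rfl⟩
  by_cases hts : f v v = 0 ∧ f v b = 0 ∧ f b b = 0
  · -- shift along the totally isotropic plane
    have h0v : f z0 v = α := by
      rw [hz0, hf.add_left, hf.smul_left, hf.smul_left, h2v, div_mul_cancel₀ _ h1v]; ring
    have h0b : f z0 b = β := by
      rw [hz0, hf.add_left, hf.smul_left, hf.smul_left, h1b, div_mul_cancel₀ _ h2b]; ring
    have hz0U : z0 ∈ U := hz0 ▸ U.add_mem (U.smul_mem _ hz1) (U.smul_mem _ hz2)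
    have shift : ∀ w ∈ U, f w w = 0 → f w v = 0 → f w b = 0 → f z0 w ≠ 0 →
        ∃ z ∈ U, f z v = α ∧ f z b = β ∧ f z z = γ := by
      intro w hw hww hwv hwb h0w
      obtain ⟨e, he⟩ := exists_trace_eq hf.ne_refl hf.involutive (b := γ - f z0 z0)
        (by rw [map_sub, self_fixed hf, hγ])
      refine ⟨z0 + (e / f w z0) • w, U.add_mem hz0U (U.smul_mem _ hw),
        by rw [hf.add_left, hf.smul_left, hwv, h0v]; ring, by rw [hf.add_left, hf.smul_left, hwb, h0b]; ring, ?_⟩
      have hw0 : f w z0 ≠ 0 := fun h => h0w ((eq_zero_comm hf).mp h)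
      have hsw : σ (f w z0) = f z0 w := (hf.herm z0 w).symm
      rw [hf.add_left, add_right' hf, add_right' hf, hf.smul_left, hf.smul_left, smul_right' hf, smul_right' hf,
        hww, mul_zero, mul_zero, add_zero, map_div₀, hsw, div_mul_cancel₀ _ h0w, div_mul_cancel₀ _ hw0]
      linear_combination he
    rcases hcond with hc | hc | hc
    · exact shift v hvU hts.1 hts.1 hts.2.1 (by rwa [h0v])
    · exact shift b hbU hts.2.2 ((eq_zero_comm hf).mp hts.2.1) hts.2.2 (by rwa [h0b])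
    · exact absurd hts hc
  obtain ⟨k, hkU, hkv, hkb, hkk⟩ := exists_aniso_perp_in hf hnd hdim hvU hbU (Or.inl hts)
  obtain ⟨z', hz'⟩ : ∃ z', z' = z0 - (f z0 k / f k k) • k := ⟨_, rfl⟩
  have hz'U : z' ∈ U := hz' ▸ U.sub_mem (hz0 ▸ U.add_mem (U.smul_mem _ hz1) (U.smul_mem _ hz2)) (U.smul_mem _ hkU)
  have hz'k : f z' k = 0 := by rw [hz', sub_left' hf, hf.smul_left, div_mul_cancel₀ _ hkk, sub_self]
  have hz'v : f z' v = α := by
    rw [hz', hz0, sub_left' hf, hf.add_left, hf.smul_left, hf.smul_left, hf.smul_left, hkv, h2v,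
      div_mul_cancel₀ _ h1v]
    ring
  have hz'b : f z' b = β := by
    rw [hz', hz0, sub_left' hf, hf.add_left, hf.smul_left, hf.smul_left, hf.smul_left, hkb, h1b,
      div_mul_cancel₀ _ h2b]
    ring
  obtain ⟨a, ha⟩ := exists_norm_eq hf.ne_refl hf.involutive (b := (γ - f z' z') / f k k)
    (by rw [map_div₀, map_sub, self_fixed hf, self_fixed hf, hγ])
  refine ⟨z' + a • k, U.add_mem hz'U (U.smul_mem _ hkU), by rw [hf.add_left, hf.smul_left, hkv, hz'v]; ring,
    by rw [hf.add_left, hf.smul_left, hkb, hz'b]; ring, ?_⟩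
  rw [hf.add_left, add_right' hf, add_right' hf, hf.smul_left, hf.smul_left, smul_right' hf, smul_right' hf, hz'k,
    (eq_zero_comm hf).mp hz'k, mul_zero, add_zero, mul_zero, zero_add, ← mul_assoc, ha, div_mul_cancel₀ _ hkk,
    add_sub_cancel]

lemma exists_indep_in (hdim : 4 ≤ Module.finrank F U) {v : ι → F} (hv : v ∈ U) (hv0 : v ≠ 0) :
    ∃ y ∈ U, f v y = 0 ∧ y ∉ Submodule.span F {v} ∧ v ∉ Submodule.span F {y} := by
  obtain ⟨k, hk, hkv, -, hkk⟩ := exists_aniso_perp_in hf hnd hdim hv hv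
    (Or.inr (Submodule.mem_span_singleton_self _))
  refine ⟨k, hk, (eq_zero_comm hf).mp hkv, fun h => ?_, fun h => ?_⟩ <;>
    obtain ⟨j, hj⟩ := Submodule.mem_span_singleton.mp h
  · exact hkk (by nth_rewrite 2 [← hj]; rw [smul_right' hf, hkv, mul_zero])
  · rw [← hj, smul_right' hf, mul_eq_zero, or_iff_left hkk, map_eq_zero_iff _ σ.injective] at hkv
    exact hv0 (by rw [← hj, hkv, zero_smul])

/-- A vector with prescribed product with one vector, prescribed norm, and off the line through that vector. -/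
lemma exists_fiber_one_in (hdim : 4 ≤ Module.finrank F U) {v : ι → F} (hvU : v ∈ U) (hv0 : v ≠ 0) (α γ : F)
    (hγ : σ γ = γ) : ∃ z ∈ U, f z v = α ∧ f z z = γ ∧ z ∉ Submodule.span F {v} := by
  obtain ⟨y, hy, hvy0, hyv, hvy⟩ := exists_indep_in hf hnd hdim hvU hv0
  obtain ⟨z, hz, h1, h2, h3⟩ := exists_fiber_in hf hnd hdim hvU hy hvy hyv α 1 γ hγ (Or.inr (Or.inl one_ne_zero))
  refine ⟨z, hz, h1, h3, fun hm => ?_⟩
  obtain ⟨j, hj⟩ := Submodule.mem_span_singleton.mp hm
  rw [← hj, hf.smul_left, hvy0, mul_zero] at h2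
  exact zero_ne_one h2

/-- The isotropic vectors of `U` span it. -/
lemma mem_span_iso_in (hdim : 4 ≤ Module.finrank F U) {x : ι → F} (hx : x ∈ U) :
    x ∈ Submodule.span F {v | v ∈ U ∧ f v v = 0} := by
  by_cases hx0 : x = 0
  · rw [hx0]; exact Submodule.zero_mem _
  obtain ⟨z, hz, hzx, hzz, -⟩ := exists_fiber_one_in hf hnd hdim hx hx0 1 0 (map_zero σ)
  obtain ⟨a, ha⟩ := exists_trace_eq hf.ne_refl hf.involutive (b := -f x x) (by rw [map_neg, self_fixed hf])
  have hi : f (x + a • z) (x + a • z) = 0 := by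
    rw [hf.add_left, add_right' hf, add_right' hf, hf.smul_left, hf.smul_left, smul_right' hf, smul_right' hf, hzz,
      hzx, show f x z = 1 by rw [hf.herm, hzx, map_one]]
    linear_combination ha
  have := Submodule.sub_mem _ (Submodule.subset_span (show x + a • z ∈ {v | v ∈ U ∧ f v v = 0} from
    ⟨U.add_mem hx (U.smul_mem _ hz), hi⟩))
    (Submodule.smul_mem _ a (Submodule.subset_span (show z ∈ {v | v ∈ U ∧ f v v = 0} from ⟨hz, hzz⟩)))
  rwa [add_sub_cancel_right] at this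

/-- Two non-zero vectors of `U` pair non-trivially with a common isotropic vector of `U`. -/
lemma exists_iso_avoid_in (hdim : 4 ≤ Module.finrank F U) {a b : ι → F} (ha : a ∈ U) (hb : b ∈ U) (ha0 : a ≠ 0)
    (hb0 : b ≠ 0) : ∃ z ∈ U, f z z = 0 ∧ f z a ≠ 0 ∧ f z b ≠ 0 := by
  by_cases h : b ∈ Submodule.span F {a}
  · obtain ⟨j, rfl⟩ := Submodule.mem_span_singleton.mp h
    obtain ⟨z, hz, hza, hzz, -⟩ := exists_fiber_one_in hf hnd hdim ha ha0 1 0 (map_zero σ)
    have hj : j ≠ 0 := fun h0 => hb0 (by rw [h0, zero_smul])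
    exact ⟨z, hz, hzz, by rw [hza]; exact one_ne_zero, by
      rw [smul_right' hf, hza, mul_one]; exact (map_ne_zero_iff _ σ.injective).mpr hj⟩
  · have h' : a ∉ Submodule.span F {b} := fun hm => h (by
      obtain ⟨j, hj⟩ := Submodule.mem_span_singleton.mp hm
      have hj0 : j ≠ 0 := fun h0 => ha0 (by rw [← hj, h0, zero_smul])
      exact Submodule.mem_span_singleton.mpr ⟨j⁻¹, by rw [← hj, inv_smul_smul₀ hj0]⟩)
    obtain ⟨z, hz, hza, hzb, hzz⟩ := exists_fiber_in hf hnd hdim ha hb h' h 1 1 0 (map_zero σ)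
      (Or.inl one_ne_zero)
    exact ⟨z, hz, hzz, by rw [hza]; exact one_ne_zero, by rw [hzb]; exact one_ne_zero⟩

variable {M : Subgroup (GL ι F)} (hUM : ∀ v ∈ U, f v v = 0 → ∀ c, c + σ c = 0 → uT f v c ∈ M)

include hUM

omit hnd in
/-- One transvection centred in `U` moving `v` to `b`. -/
lemma move_one_in {v b : ι → F} (hvU : v ∈ U) (hbU : b ∈ U) (hvv : f b b = f v v)
    (h : f v b + f b v = f v v + f v v) (hne : f v b ≠ f v v) :
    ∃ m ∈ M, Iso f m ∧ (m : Matrix ι ι F) *ᵥ v = b ∧ ∀ x ∈ perpU hf U, (m : Matrix ι ι F) *ᵥ x = x := by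
  have hd : f (b - v) (b - v) = 0 := by
    rw [sub_left' hf, sub_right' hf, sub_right' hf]
    linear_combination hvv - h
  obtain ⟨β, hβ⟩ : ∃ β, β = f v (b - v) := ⟨_, rfl⟩
  have hβ0 : β ≠ 0 := by rw [hβ, sub_right' hf]; exact sub_ne_zero.mpr hne
  have hskew : σ β = -β := by
    rw [hβ, sub_right' hf, map_sub, ← hf.herm, self_fixed hf]
    linear_combination h
  have hc : β⁻¹ + σ β⁻¹ = 0 := by rw [map_inv₀, hskew, inv_neg, add_neg_cancel]
  refine ⟨uT f (b - v) β⁻¹, hUM _ (U.sub_mem hbU hvU) hd _ hc, iso_uT hf hd hc, ?_, fun x hx => ?_⟩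
  · rw [uT_mulVec hf hd, ← hβ, inv_mul_cancel₀ hβ0, one_smul, add_sub_cancel]
  · rw [uT_mulVec hf hd, hx _ (U.sub_mem hbU hvU), mul_zero, zero_smul, add_zero]

/-- Transitivity on the non-zero vectors of `U` of a given norm. -/
lemma move_in (hdim : 4 ≤ Module.finrank F U) {v b : ι → F} (hvU : v ∈ U) (hbU : b ∈ U) (hv0 : v ≠ 0)
    (hb0 : b ≠ 0) (hvv : f b b = f v v) :
    ∃ m ∈ M, Iso f m ∧ (m : Matrix ι ι F) *ᵥ v = b ∧ ∀ x ∈ perpU hf U, (m : Matrix ι ι F) *ᵥ x = x := by
  have hind : ∀ {v b : ι → F}, v ∈ U → b ∈ U → f b b = f v v → b ∉ Submodule.span F {v} →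
      v ∉ Submodule.span F {b} →
      ∃ m ∈ M, Iso f m ∧ (m : Matrix ι ι F) *ᵥ v = b ∧ ∀ x ∈ perpU hf U, (m : Matrix ι ι F) *ᵥ x = x := by
    intro v b hvU hbU hvv hbv hvb
    obtain ⟨c, hc0, hc⟩ := exists_skew hf.ne_refl hf.involutive
    have hσc : σ c = -c := by linear_combination hc
    have hcond : f v v + c ≠ 0 ∨ f v v + c ≠ 0 ∨ ¬ (f v v = 0 ∧ f v b = 0 ∧ f b b = 0) := by
      by_cases h : f v v = 0
      · exact Or.inl (by rwa [h, zero_add])
      · exact Or.inr (Or.inr fun h' => h h'.1)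
    obtain ⟨z, hzU, hzv, hzb, hzz⟩ := exists_fiber_in hf hnd hdim hvU hbU hvb hbv (f v v + c) (f v v + c) (f v v)
      (self_fixed hf v) hcond
    have hvz : f v z = f v v - c := by rw [hf.herm, hzv, map_add, self_fixed hf, hσc, sub_eq_add_neg]
    have hbz : f b z = f v v - c := by rw [hf.herm, hzb, map_add, self_fixed hf, hσc, sub_eq_add_neg]
    obtain ⟨m1, hm1, hi1, he1, hx1⟩ := move_one_in hf hUM (v := v) (b := z) hvU hzU hzz
      (by rw [hvz, hzv]; ring) (by rw [hvz]; intro h; exact hc0 (by linear_combination -h))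
    obtain ⟨m2, hm2, hi2, he2, hx2⟩ := move_one_in hf hUM (v := z) (b := b) hzU hbU (by rw [hvv, hzz])
      (by rw [hzb, hbz, hzz]; ring) (by rw [hzb, hzz]; intro h; exact hc0 (by linear_combination h))
    exact ⟨m2 * m1, M.mul_mem hm2 hm1, hi2.mul hi1, by rw [mul_mulVec, he1, he2],
      fun x hx => by rw [mul_mulVec, hx1 x hx, hx2 x hx]⟩
  have hsymm : ∀ {a x : ι → F}, a ∉ Submodule.span F {x} → x ≠ 0 → x ∉ Submodule.span F {a} :=
    fun {a x} hx hx0 hm => by
      obtain ⟨j, hj⟩ := Submodule.mem_span_singleton.mp hm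
      have hj0 : j ≠ 0 := fun h0 => hx0 (by rw [← hj, h0, zero_smul])
      exact hx (Submodule.mem_span_singleton.mpr ⟨j⁻¹, by rw [← hj, inv_smul_smul₀ hj0]⟩)
  by_cases h : b ∈ Submodule.span F {v}
  · obtain ⟨w, hwU, -, hww, hwv⟩ := exists_fiber_one_in hf hnd hdim hvU hv0 0 (f v v) (self_fixed hf v)
    have hwb : w ∉ Submodule.span F {b} := fun hm =>
      hwv ((Submodule.span_singleton_le_iff_mem _ _).mpr h hm)
    obtain ⟨m1, hm1, hi1, he1, hx1⟩ := hind hvU hwU hww hwv (hsymm hwv hv0)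
    obtain ⟨m2, hm2, hi2, he2, hx2⟩ := hind hwU hbU (by rw [hvv, hww]) (hsymm hwb hb0) hwb
    exact ⟨m2 * m1, M.mul_mem hm2 hm1, hi2.mul hi1, by rw [mul_mulVec, he1, he2],
      fun x hx => by rw [mul_mulVec, hx1 x hx, hx2 x hx]⟩
  · exact hind hvU hbU hvv h fun hm => h (by
      by_contra hb'
      exact hsymm hb' hv0 hm)

end Nondeg

end CfsgLib.Transvec.Unitary
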