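/-
Elements of a subfield subgroup: membership criteria and the embedding of GL(ι, F₀).
-/
import Cfsg.Agent.Lib.Transvec.Basic

set_option autoImplicit false

namespace CfsgLib.Transvec

open Matrix
open scoped MatrixGroups

variable {ι : Type} [Fintype ι] [DecidableEq ι] {F : Type*} [Field F] (F₀ : Subfield F) (P : GL ι F)

/-- A rational vector as a vector over `F`. -/
def coeVec (u : ι → F₀) : ι → F := fun i => (u i : F)

/-- The copy of GL(ι, F₀) attached to `P`. -/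
noncomputable def subfieldHom : GL ι F₀ →* GL ι F :=
  (MulAut.conj P).toMonoidHom.comp (Matrix.GeneralLinearGroup.map (F₀.subtype : F₀ →+* F))

variable {F₀} {P}

lemma coeVec_injective : Function.Injective (coeVec F₀ : (ι → F₀) → ι → F) := fun _ _ h =>
  funext fun i => Subtype.ext (congrFun h i)

lemma coeVec_add (u v : ι → F₀) : coeVec F₀ (u + v) = coeVec F₀ u + coeVec F₀ v := rfl

lemma coeVec_smul (c : F₀) (v : ι → F₀) : coeVec F₀ (c • v) = (c : F) • coeVec F₀ v := rfl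

lemma coeVec_zero : coeVec F₀ (0 : ι → F₀) = 0 := rfl

lemma coeVec_single (i : ι) : coeVec F₀ (Pi.single i 1 : ι → F₀) = Pi.single i 1 := by
  funext j
  by_cases h : j = i
  · subst h; simp [coeVec]
  · simp [coeVec, h]

lemma coeVec_mulVec (g : Matrix ι ι F₀) (u : ι → F₀) :
    coeVec F₀ (g *ᵥ u) = g.map (fun x => (x : F)) *ᵥ coeVec F₀ u := by
  funext i
  exact (F₀.subtype).map_mulVec g u i

lemma subfieldHom_mulVec (g : GL ι F₀) (u : ι → F₀) :
    ((subfieldHom F₀ P g : GL ι F) : Matrix ι ι F) *ᵥ ((P : Matrix ι ι F) *ᵥ coeVec F₀ u) =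
      (P : Matrix ι ι F) *ᵥ coeVec F₀ ((g : Matrix ι ι F₀) *ᵥ u) := by
  rw [coeVec_mulVec]
  show ((P * Matrix.GeneralLinearGroup.map (F₀.subtype : F₀ →+* F) g * P⁻¹ : GL ι F) : Matrix ι ι F) *ᵥ
      ((P : Matrix ι ι F) *ᵥ coeVec F₀ u) = _
  rw [mul_mulVec, mul_mulVec, inv_mulVec_cancel]
  rfl

lemma subfieldHom_mem (g : GL ι F₀) : subfieldHom F₀ P g ∈ Cfsg.Geo.subfieldSubgroup F₀ P :=
  Subgroup.mem_map_of_mem _ (Subgroup.mem_sup_left ⟨g, rfl⟩)

/-- The rational vectors span. -/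
lemma mem_span_rational (x : ι → F) :
    x ∈ Submodule.span F (Set.range fun u : ι → F₀ => (P : Matrix ι ι F) *ᵥ coeVec F₀ u) := by
  obtain ⟨y, rfl⟩ : ∃ y, (P : Matrix ι ι F) *ᵥ y = x := ⟨_, mulVec_inv_cancel P x⟩
  rw [pi_eq_sum_univ y, mulVec_sum]
  refine Submodule.sum_mem _ fun i _ => ?_
  rw [mulVec_smul]
  refine Submodule.smul_mem _ _ (Submodule.subset_span ⟨Pi.single i 1, ?_⟩)
  dsimp only
  rw [coeVec_single]
  congr 1
  funext j
  simp [Pi.single_apply, eq_comm]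

/-- An element mapping every rational vector into a line through a rational vector lies in the subfield group. -/
theorem mem_subfieldSubgroup_of_lines (g : GL ι F)
    (h : ∀ u : ι → F₀, ∃ (l : F) (r : ι → F₀),
      (g : Matrix ι ι F) *ᵥ ((P : Matrix ι ι F) *ᵥ coeVec F₀ u) = l • ((P : Matrix ι ι F) *ᵥ coeVec F₀ r)) :
    g ∈ Cfsg.Geo.subfieldSubgroup F₀ P := by
  classical
  rcases isEmpty_or_nonempty ι with he | ⟨⟨i₀⟩⟩
  · have : g = 1 := Units.ext (Matrix.ext fun i => (IsEmpty.false i).elim)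
    rw [this]; exact one_mem _
  obtain ⟨C, hC⟩ : ∃ C : GL ι F, C = P⁻¹ * g * P := ⟨_, rfl⟩
  have hCmul : ∀ u : ι → F₀, ∃ (l : F) (r : ι → F₀), (C : Matrix ι ι F) *ᵥ coeVec F₀ u = l • coeVec F₀ r := by
    intro u
    obtain ⟨l, r, hlr⟩ := h u
    exact ⟨l, r, by rw [hC, mul_mulVec, mul_mulVec, hlr, mulVec_smul, inv_mulVec_cancel]⟩
  choose l r hlr using fun i => hCmul (Pi.single i 1)
  simp only [coeVec_single] at hlr
  have hl0 : ∀ i, l i ≠ 0 := fun i h0 => by
    have := hlr i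
    rw [h0, zero_smul] at this
    exact mulVec_ne_zero C (by simp) this
  have hr0 : ∀ i, r i ≠ 0 := fun i h0 => by
    have := hlr i
    rw [h0, coeVec_zero, smul_zero] at this
    exact mulVec_ne_zero C (by simp) this
  -- all scalars agree up to F₀
  have hratio : ∀ i, l i / l i₀ ∈ F₀ := by
    intro i
    by_cases hi : i = i₀
    · rw [hi, div_self (hl0 i₀)]; exact one_mem F₀
    obtain ⟨k, s, hks⟩ := hCmul (Pi.single i₀ 1 + Pi.single i 1)
    rw [coeVec_add, coeVec_single, coeVec_single, mulVec_add, hlr, hlr] at hks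
    have hind : ∀ a b : F, a • coeVec F₀ (r i₀) + b • coeVec F₀ (r i) = 0 → a = 0 ∧ b = 0 := by
      intro a b hab
      have h1 : (C : Matrix ι ι F) *ᵥ ((a / l i₀) • Pi.single i₀ 1 + (b / l i) • Pi.single i 1) = 0 := by
        rw [mulVec_add, mulVec_smul, mulVec_smul, hlr, hlr, smul_smul, smul_smul, div_mul_cancel₀ a (hl0 i₀),
          div_mul_cancel₀ b (hl0 i), hab]
      have h2 : (a / l i₀) • (Pi.single i₀ 1 : ι → F) + (b / l i) • Pi.single i 1 = 0 := by
        refine mulVec_injective C ?_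
        simpa using h1
      have h3 := congrFun h2 i₀
      have h4 := congrFun h2 i
      simp [hi, Ne.symm hi, hl0] at h3 h4
      exact ⟨h3, h4⟩
    have hk : k ≠ 0 := fun h0 => hl0 i₀ (hind _ _ (by rw [hks, h0, zero_smul])).1
    -- a non-vanishing minor
    obtain ⟨a, b, hdet⟩ : ∃ a b, r i₀ a * r i b - r i₀ b * r i a ≠ 0 := by
      by_contra hcon
      simp only [not_exists, not_not] at hcon
      obtain ⟨b, hb⟩ := Function.ne_iff.mp (hr0 i)
      have hb' : (r i b : F) ≠ 0 := fun h0 => hb (by ext; exact h0)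
      refine hb' (hind (r i b) (-(r i₀ b : F)) ?_).1
      funext a
      have := congrArg (fun x : F₀ => (x : F)) (hcon a b)
      simp [coeVec] at this ⊢
      linear_combination this
    have ha' := congrFun hks a
    have hb' := congrFun hks b
    simp only [Pi.add_apply, Pi.smul_apply, smul_eq_mul, coeVec] at ha' hb'
    have hd : ((r i₀ a : F) * r i b - r i₀ b * r i a) ≠ 0 := fun h0 => hdet (Subtype.ext (by simpa using h0))
    have e1 : l i₀ = k * (((s a : F) * r i b - s b * r i a) / ((r i₀ a : F) * r i b - r i₀ b * r i a)) := by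
      rw [mul_div_assoc', eq_div_iff hd]
      linear_combination (r i b : F) * ha' - (r i a : F) * hb'
    have e2 : l i = k * (((r i₀ a : F) * s b - r i₀ b * s a) / ((r i₀ a : F) * r i b - r i₀ b * r i a)) := by
      rw [mul_div_assoc', eq_div_iff hd]
      linear_combination (r i₀ a : F) * hb' - (r i₀ b : F) * ha'
    rw [e2, e1, mul_div_mul_left _ _ hk]
    exact div_mem (div_mem (sub_mem (mul_mem (r i₀ a).2 (s b).2) (mul_mem (r i₀ b).2 (s a).2))
      (sub_mem (mul_mem (r i₀ a).2 (r i b).2) (mul_mem (r i₀ b).2 (r i a).2)))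
      (div_mem (sub_mem (mul_mem (s a).2 (r i b).2) (mul_mem (s b).2 (r i a).2))
      (sub_mem (mul_mem (r i₀ a).2 (r i b).2) (mul_mem (r i₀ b).2 (r i a).2)))
  -- the rational matrix
  obtain ⟨R, hR⟩ : ∃ R : Matrix ι ι F₀, ∀ j i, (R j i : F) = (C : Matrix ι ι F) j i / l i₀ := by
    refine ⟨Matrix.of fun j i => ⟨(C : Matrix ι ι F) j i / l i₀, ?_⟩, fun j i => rfl⟩
    have h1 : (C : Matrix ι ι F) j i = l i * r i j := by
      have := congrFun (hlr i) j
      simpa [coeVec] using this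
    rw [h1, mul_div_right_comm]
    exact mul_mem (hratio i) (r i j).2
  have hRC : R.map (F₀.subtype : F₀ →+* F) = (l i₀)⁻¹ • (C : Matrix ι ι F) := by
    ext j i
    simp [hR, div_eq_inv_mul]
  have hdetR : R.det ≠ 0 := by
    intro h0
    have h1 := RingHom.map_det (F₀.subtype : F₀ →+* F) R
    rw [h0, map_zero, RingHom.mapMatrix_apply, hRC, det_smul] at h1
    exact mul_ne_zero (pow_ne_zero _ (inv_ne_zero (hl0 i₀)))
      ((Matrix.isUnit_iff_isUnit_det _).mp C.isUnit).ne_zero h1.symm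
  obtain ⟨G, hG⟩ : ∃ G : GL ι F₀, (G : Matrix ι ι F₀) = R :=
    ⟨Matrix.GeneralLinearGroup.mkOfDetNeZero R hdetR, rfl⟩
  obtain ⟨c, hc⟩ : ∃ c : Fˣ, (c : F) = l i₀ := ⟨Units.mk0 _ (hl0 i₀), rfl⟩
  refine ⟨Matrix.GeneralLinearGroup.map (F₀.subtype : F₀ →+* F) G *
    Units.map (Matrix.scalar ι : F →+* Matrix ι ι F).toMonoidHom c,
    Subgroup.mul_mem_sup ⟨G, rfl⟩ ⟨c, rfl⟩, ?_⟩
  have e : Matrix.GeneralLinearGroup.map (F₀.subtype : F₀ →+* F) G *
      Units.map (Matrix.scalar ι : F →+* Matrix ι ι F).toMonoidHom c = C := by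
    refine Units.ext ?_
    rw [Units.val_mul]
    show (G : Matrix ι ι F₀).map (F₀.subtype : F₀ →+* F) * Matrix.scalar ι (c : F) = _
    rw [hG, hRC, hc, Matrix.scalar_apply, ← smul_one_eq_diagonal, Matrix.mul_smul, mul_one, smul_smul,
      mul_inv_cancel₀ (hl0 i₀), one_smul]
  rw [e, hC]
  show P * (P⁻¹ * g * P) * P⁻¹ = g
  group

/-- An element of the subfield group maps rational vectors into lines through rational vectors. -/
theorem lines_of_mem_subfieldSubgroup {g : GL ι F} (hg : g ∈ Cfsg.Geo.subfieldSubgroup F₀ P) :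
    ∀ u : ι → F₀, ∃ (l : F) (r : ι → F₀),
      (g : Matrix ι ι F) *ᵥ ((P : Matrix ι ι F) *ᵥ coeVec F₀ u) = l • ((P : Matrix ι ι F) *ᵥ coeVec F₀ r) := by
  obtain ⟨C, hC, rfl⟩ := hg
  have key : ∀ u : ι → F₀, ∃ (l : F) (r : ι → F₀), (C : Matrix ι ι F) *ᵥ coeVec F₀ u = l • coeVec F₀ r := by
    intro u
    let K : Subgroup (GL ι F) :=
      { carrier := {C | (∀ u : ι → F₀, ∃ (l : F) (r : ι → F₀), (C : Matrix ι ι F) *ᵥ coeVec F₀ u = l • coeVec F₀ r) ∧
          ∀ u : ι → F₀, ∃ (l : F) (r : ι → F₀),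
            ((C⁻¹ : GL ι F) : Matrix ι ι F) *ᵥ coeVec F₀ u = l • coeVec F₀ r}
        one_mem' := ⟨fun u => ⟨1, u, by simp⟩, fun u => ⟨1, u, by simp⟩⟩
        mul_mem' := by
          rintro a b ⟨ha, ha'⟩ ⟨hb, hb'⟩
          refine ⟨fun u => ?_, fun u => ?_⟩
          · obtain ⟨l, r, h1⟩ := hb u
            obtain ⟨l', r', h2⟩ := ha r
            exact ⟨l * l', r', by rw [mul_mulVec, h1, mulVec_smul, h2, smul_smul]⟩
          · obtain ⟨l, r, h1⟩ := ha' u
            obtain ⟨l', r', h2⟩ := hb' r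
            exact ⟨l * l', r', by rw [_root_.mul_inv_rev, mul_mulVec, h1, mulVec_smul, h2, smul_smul]⟩
        inv_mem' := by
          rintro a ⟨ha, ha'⟩
          exact ⟨ha', by rwa [inv_inv]⟩ }
    have hle : (Matrix.GeneralLinearGroup.map (F₀.subtype : F₀ →+* F)).range ⊔ Cfsg.Geo.scalars ι F ≤ K := by
      refine sup_le ?_ ?_
      · rintro _ ⟨G, rfl⟩
        exact ⟨fun u => ⟨1, _, by rw [one_smul, coeVec_mulVec (G : Matrix ι ι F₀) u]; rfl⟩,
          fun u => ⟨1, _, by rw [one_smul, ← map_inv, coeVec_mulVec ((G⁻¹ : GL ι F₀) : Matrix ι ι F₀) u]; rfl⟩⟩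
      · rintro _ ⟨c, rfl⟩
        refine ⟨fun u => ⟨c, u, ?_⟩, fun u => ⟨((c⁻¹ : Fˣ) : F), u, ?_⟩⟩
        · show Matrix.scalar ι (c : F) *ᵥ _ = _
          rw [Matrix.scalar_apply, ← smul_one_eq_diagonal, smul_mulVec, one_mulVec]
        · rw [← map_inv]
          show Matrix.scalar ι ((c⁻¹ : Fˣ) : F) *ᵥ _ = _
          rw [Matrix.scalar_apply, ← smul_one_eq_diagonal, smul_mulVec, one_mulVec]
    exact (hle hC).1 u
  intro u
  obtain ⟨l, r, hlr⟩ := key u
  refine ⟨l, r, ?_⟩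
  show ((P * C * P⁻¹ : GL ι F) : Matrix ι ι F) *ᵥ _ = _
  rw [mul_mulVec, mul_mulVec, inv_mulVec_cancel, hlr, mulVec_smul]

end CfsgLib.Transvec
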