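/-
Overgroups of SL(ι, F₀) inside GL(ι, F) that contain a further transvection.
-/
import Cfsg.Agent.Lib.Transvec.Linear
import Cfsg.Agent.Lib.Transvec.Subfield
import Cfsg.Agent.Lib.Classical.SLBasic
import Cfsg.Agent.Lib.Classical22.DicksonPlane

set_option autoImplicit false

namespace CfsgLib.Transvec.LinSubfield

open Matrix
open scoped MatrixGroups

variable {ι : Type} [Fintype ι] [DecidableEq ι] {F : Type*} [Field F] {F₀ : Subfield F}
variable {M : Subgroup (GL ι F)}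

local notation "cv" => coeVec F₀

/-- `M` contains all rational transvections. -/
def Rational (F₀ : Subfield F) (M : Subgroup (GL ι F)) : Prop :=
  ∀ v φ : ι → F₀, φ ⬝ᵥ v = 0 → transv (coeVec F₀ v) (coeVec F₀ φ) ∈ M

lemma cv_dot (φ v : ι → F₀) : cv φ ⬝ᵥ cv v = ((φ ⬝ᵥ v : F₀) : F) :=
  ((F₀.subtype).map_dotProduct φ v).symm

lemma cv_ne_zero {v : ι → F₀} (hv : v ≠ 0) : cv v ≠ 0 := fun h =>
  hv (coeVec_injective (h.trans (coeVec_zero (F₀ := F₀)).symm))

lemma cv_pi_single (i : ι) (a : F₀) : cv (Pi.single i a) = Pi.single i (a : F) := by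
  funext j
  by_cases h : j = i
  · subst h; simp [coeVec]
  · simp [coeVec, h]

/-- The conjugate of a transvection, moving the centre only. -/
lemma mem_center_shift {x η v φ : ι → F} (hη : η ⬝ᵥ x = 0) (hφv : φ ⬝ᵥ v = 0) (hφx : φ ⬝ᵥ x = 0)
    (hT : transv x η ∈ M) (ht : transv v φ ∈ M) : transv x ((η ⬝ᵥ v) • φ) ∈ M := by
  have h1 := M.mul_mem (M.mul_mem hT ht) (M.inv_mem hT)
  have e1 : φ ᵥ* (((transv x η)⁻¹ : GL ι F) : Matrix ι ι F) = φ := by
    rw [transv_inv hη, transv_val (by rw [neg_dotProduct, hη, neg_zero]), vecMul_add, vecMul_one,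
      vecMul_vecMulVec, hφx, zero_smul, add_zero]
  rw [conj_transv _ hφv, e1, transv_mulVec hη] at h1
  have h2 := M.mul_mem (M.inv_mem ht) h1
  rw [← transv_add_left hφv (by rw [dotProduct_smul, hφx, smul_zero]), inv_mul_cancel_left,
    transv_smul_left _ hφx] at h2
  exact h2

/-- The dual conjugation, moving the axis only. -/
lemma mem_axis_shift {x η v φ : ι → F} (hη : η ⬝ᵥ x = 0) (hφv : φ ⬝ᵥ v = 0) (hηv : η ⬝ᵥ v = 0)
    (hT : transv x η ∈ M) (ht : transv v φ ∈ M) : transv v ((φ ⬝ᵥ x) • η) ∈ M := by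
  have h1 := M.mul_mem (M.mul_mem hT ht) (M.inv_mem hT)
  have e0 : (transv x η : Matrix ι ι F) *ᵥ v = v := by
    rw [transv_mulVec hη, hηv, zero_smul, add_zero]
  have e1 : φ ᵥ* (((transv x η)⁻¹ : GL ι F) : Matrix ι ι F) = φ + -((φ ⬝ᵥ x) • η) := by
    rw [transv_inv hη, transv_val (by rw [neg_dotProduct, hη, neg_zero]), vecMul_add, vecMul_one,
      vecMul_vecMulVec, smul_neg]
  rw [conj_transv _ hφv, e1, e0, ← transv_mul hφv (by rw [neg_dotProduct, smul_dotProduct, hηv, smul_zero, neg_zero])] at h1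
  have h2 := M.mul_mem (M.inv_mem ht) h1
  rw [inv_mul_cancel_left, ← transv_inv (by rw [smul_dotProduct, hηv, smul_zero])] at h2
  simpa using M.inv_mem h2

section Rat

variable (hrat : Rational F₀ M)
include hrat

lemma rat_smul {v φ : ι → F₀} (h : φ ⬝ᵥ v = 0) (c : F₀) :
    transv (cv v) ((c : F) • cv φ) ∈ M := by
  rw [← coeVec_smul]
  exact hrat v _ (by rw [smul_dotProduct, h, smul_zero])

/-- The subgroup of scalars `a` for which the pair `(w, χ)` with scalar `a` lies in `M` for all rational pairs. -/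
def Scal (F₀ : Subfield F) (M : Subgroup (GL ι F)) : Set F :=
  {a | ∀ w χ : ι → F₀, χ ⬝ᵥ w = 0 → transv (coeVec F₀ w) (a • coeVec F₀ χ) ∈ M}

lemma exists_dual {χ : ι → F₀} (hχ : χ ≠ 0) : ∃ x : ι → F₀, χ ⬝ᵥ x = 1 := by
  obtain ⟨i, hi⟩ := Function.ne_iff.mp hχ
  exact ⟨Pi.single i (χ i)⁻¹, by rw [dotProduct_single, mul_inv_cancel₀ hi]⟩

omit hrat in
lemma exists_perp_pair (h3 : 3 ≤ Fintype.card ι) (φ ψ : ι → F₀) :
    ∃ x : ι → F₀, x ≠ 0 ∧ φ ⬝ᵥ x = 0 ∧ ψ ⬝ᵥ x = 0 := by
  let T : (ι → F₀) →ₗ[F₀] F₀ × F₀ := (dotProductEquiv F₀ ι φ).prod (dotProductEquiv F₀ ι ψ)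
  have h1 := LinearMap.finrank_range_add_finrank_ker T
  have h2 := Submodule.finrank_le (LinearMap.range T)
  rw [Module.finrank_prod, Module.finrank_self] at h2
  rw [Module.finrank_fintype_fun_eq_card] at h1
  obtain ⟨x, hx, hx0⟩ := Submodule.exists_mem_ne_zero_of_ne_bot (p := LinearMap.ker T) fun h => by
    rw [h, finrank_bot] at h1; omega
  have hx' : (φ ⬝ᵥ x, ψ ⬝ᵥ x) = ((0 : F₀), (0 : F₀)) := LinearMap.mem_ker.mp hx
  rw [Prod.mk.injEq] at hx'
  exact ⟨x, hx0, hx'.1, hx'.2⟩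

/-- Changing the axis. -/
lemma spread_axis (h3 : 3 ≤ Fintype.card ι) {w χ η : ι → F₀} (hχ0 : χ ≠ 0) (hχ : χ ⬝ᵥ w = 0)
    (hη : η ⬝ᵥ w = 0) {a : F} (h : transv (cv w) (a • cv χ) ∈ M) : transv (cv w) (a • cv η) ∈ M := by
  classical
  -- choose `x` with `χ x = 1` and `η x = 0`, when possible
  by_cases hdep : ∃ x : ι → F₀, χ ⬝ᵥ x = 1 ∧ η ⬝ᵥ x = 0
  · obtain ⟨x, hx1, hx0⟩ := hdep
    have h1 := mem_center_shift (M := M) (x := cv w) (η := a • cv χ) (v := cv x) (φ := cv η)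
      (by rw [smul_dotProduct, cv_dot, hχ, ZeroMemClass.coe_zero, smul_zero])
      (by rw [cv_dot, hx0]; rfl) (by rw [cv_dot, hη]; rfl) h (hrat x η hx0)
    rwa [smul_dotProduct, cv_dot, hx1, OneMemClass.coe_one, smul_eq_mul, mul_one] at h1
  · obtain ⟨x, hx⟩ := exists_dual (hrat := hrat) hχ0
    have hprop : η = (η ⬝ᵥ x) • χ := by
      refine (dotProductEquiv F₀ ι).injective (LinearMap.ext fun y => ?_)
      change η ⬝ᵥ y = ((η ⬝ᵥ x) • χ) ⬝ᵥ y
      rw [smul_dotProduct, smul_eq_mul]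
      by_contra hy
      -- a combination killed by `χ` but not by `η` lets us adjust `x`
      obtain ⟨k, hk⟩ : ∃ k, k = y - (χ ⬝ᵥ y) • x := ⟨_, rfl⟩
      have hk1 : χ ⬝ᵥ k = 0 := by rw [hk, dotProduct_sub, dotProduct_smul, hx, smul_eq_mul, mul_one, sub_self]
      have hk2 : η ⬝ᵥ k ≠ 0 := by
        rw [hk, dotProduct_sub, dotProduct_smul, smul_eq_mul, sub_ne_zero, mul_comm]
        exact fun h => hy (by rw [h, mul_comm])
      exact hdep ⟨x - (η ⬝ᵥ x / η ⬝ᵥ k) • k,
        by rw [dotProduct_sub, dotProduct_smul, hk1, hx, smul_zero, sub_zero],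
        by rw [dotProduct_sub, dotProduct_smul, smul_eq_mul, div_mul_cancel₀ _ hk2, sub_self]⟩
    have hd : ((a : F) • cv χ) ⬝ᵥ cv w = 0 := by
      rw [smul_dotProduct, cv_dot, hχ, ZeroMemClass.coe_zero, smul_zero]
    rw [hprop, coeVec_smul, smul_comm]
    by_cases hc : η ⬝ᵥ x = 0
    · rw [hc, ZeroMemClass.coe_zero, zero_smul, transv_zero]; exact M.one_mem
    obtain ⟨e, he, hew⟩ : ∃ e : ι → F₀, e ≠ 0 ∧ e ⬝ᵥ w = 0 ∧ e ⬝ᵥ x = 0 := by
      obtain ⟨e, he, h1, h2⟩ := exists_perp_pair (F₀ := F₀) h3 w x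
      exact ⟨e, he, by rw [dotProduct_comm]; exact h1, by rw [dotProduct_comm]; exact h2⟩
    obtain ⟨hew, hex⟩ := hew
    -- go through the independent axis `e`
    obtain ⟨x', hx'⟩ := exists_dual (hrat := hrat) he
    obtain ⟨y, hy⟩ : ∃ y, y = x' - (χ ⬝ᵥ x') • x := ⟨_, rfl⟩
    have h1 := mem_center_shift (M := M) (x := cv w) (η := a • cv χ) (v := cv x) (φ := cv e) hd
      (by rw [cv_dot, hex]; rfl) (by rw [cv_dot, hew]; rfl) h (hrat x e hex)
    rw [smul_dotProduct, cv_dot, hx, OneMemClass.coe_one, smul_eq_mul, mul_one] at h1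
    have hy1 : ((η ⬝ᵥ x) • χ) ⬝ᵥ y = 0 := by
      rw [hy, smul_dotProduct, dotProduct_sub, dotProduct_smul, hx]; simp
    have hy2 : e ⬝ᵥ y = 1 := by rw [hy, dotProduct_sub, dotProduct_smul, hex, smul_zero, sub_zero, hx']
    have h2 := mem_center_shift (M := M) (x := cv w) (η := a • cv e) (v := cv y) (φ := cv ((η ⬝ᵥ x) • χ))
      (by rw [smul_dotProduct, cv_dot, hew, ZeroMemClass.coe_zero, smul_zero])
      (by rw [cv_dot, hy1]; rfl) (by rw [cv_dot, smul_dotProduct, hχ, smul_zero]; rfl) h1 (hrat y _ hy1)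
    rw [smul_dotProduct, cv_dot, hy2, OneMemClass.coe_one, smul_eq_mul, mul_one, coeVec_smul, smul_comm] at h2
    exact h2

/-- Changing the centre. -/
lemma spread_center {w v η : ι → F₀} (hw : w ≠ 0) (hηw : η ⬝ᵥ w = 0) (hηv : η ⬝ᵥ v = 0)
    {φ : ι → F₀} (hφw : φ ⬝ᵥ w = 1) (hφv : φ ⬝ᵥ v = 0) {a : F}
    (h : transv (cv w) (a • cv η) ∈ M) : transv (cv v) (a • cv η) ∈ M := by
  have h1 := mem_axis_shift (M := M) (x := cv w) (η := a • cv η) (v := cv v) (φ := cv φ)
    (by rw [smul_dotProduct, cv_dot, hηw, ZeroMemClass.coe_zero, smul_zero])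
    (by rw [cv_dot, hφv]; rfl) (by rw [smul_dotProduct, cv_dot, hηv, ZeroMemClass.coe_zero, smul_zero])
    h (hrat v φ hφv)
  rwa [cv_dot, hφw, OneMemClass.coe_one, one_smul] at h1

lemma scal_of_pair (h4 : 4 ≤ Fintype.card ι) {w χ : ι → F₀} (hw : w ≠ 0) (hχ : χ ≠ 0)
    (hd : χ ⬝ᵥ w = 0) {a : F} (h : transv (cv w) (a • cv χ) ∈ M) : a ∈ Scal F₀ M := by
  classical
  have h3 : 3 ≤ Fintype.card ι := by omega
  intro v φ hφv
  by_cases hv : v = 0
  · have hz : ∀ ψ : ι → F, transv (0 : ι → F) ψ = 1 := fun ψ => gl_ext fun x => by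
      rw [transv_mulVec (dotProduct_zero ψ)]; simp
    rw [hv, coeVec_zero, hz]; exact M.one_mem
  by_cases hφ : φ = 0
  · rw [hφ, coeVec_zero, smul_zero, transv_zero]; exact M.one_mem
  -- an auxiliary centre independent of both
  obtain ⟨η, hη0, hηw, hηv⟩ : ∃ η : ι → F₀, η ≠ 0 ∧ η ⬝ᵥ w = 0 ∧ η ⬝ᵥ v = 0 := by
    obtain ⟨η, h0, h1, h2⟩ := exists_perp_pair (F₀ := F₀) h3 w v
    exact ⟨η, h0, by rw [dotProduct_comm]; exact h1, by rw [dotProduct_comm]; exact h2⟩
  refine spread_axis hrat h3 hη0 hηv hφv ?_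
  have hwη := spread_axis hrat h3 hχ hd hηw h
  by_cases hind : ∃ φ' : ι → F₀, φ' ⬝ᵥ w = 1 ∧ φ' ⬝ᵥ v = 0
  · obtain ⟨φ', h1, h2⟩ := hind
    exact spread_center hrat hw hηw hηv h1 h2 hwη
  -- `v` is a multiple of `w`
  have hvw : v ∈ Submodule.span F₀ {w} := by
    by_contra hvw
    have hwv : w ∉ Submodule.span F₀ {v} := fun hm => hvw (by
      obtain ⟨j, hj⟩ := Submodule.mem_span_singleton.mp hm
      have hj0 : j ≠ 0 := fun h0 => hw (by rw [← hj, h0, zero_smul])
      exact Submodule.mem_span_singleton.mpr ⟨j⁻¹, by rw [← hj, inv_smul_smul₀ hj0]⟩)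
    obtain ⟨φ', hE, h1⟩ := exists_functional hwv
    exact hind ⟨φ', h1, hE v (Submodule.mem_span_singleton_self v)⟩
  obtain ⟨c, rfl⟩ := Submodule.mem_span_singleton.mp hvw
  -- pass through a third point
  obtain ⟨z, hz⟩ : ∃ z : ι → F₀, η ⬝ᵥ z = 0 ∧ z ∉ Submodule.span F₀ {w} := by
    by_contra hcon
    push_neg at hcon
    have hle : LinearMap.ker (dotProductEquiv F₀ ι η) ≤ Submodule.span F₀ {w} := fun z hz => hcon z hz
    have := Submodule.finrank_mono hle
    rw [finrank_span_singleton hw] at this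
    have h5 := LinearMap.finrank_range_add_finrank_ker (dotProductEquiv F₀ ι η : (ι → F₀) →ₗ[F₀] F₀)
    have h6 := Submodule.finrank_le (LinearMap.range (dotProductEquiv F₀ ι η : (ι → F₀) →ₗ[F₀] F₀))
    rw [Module.finrank_self] at h6
    rw [Module.finrank_fintype_fun_eq_card] at h5
    omega
  obtain ⟨hηz, hzw⟩ := hz
  have hz0 : z ≠ 0 := fun h => hzw (h ▸ Submodule.zero_mem _)
  have hwz : w ∉ Submodule.span F₀ {z} := fun hm => hzw (by
    obtain ⟨j, hj⟩ := Submodule.mem_span_singleton.mp hm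
    have hj0 : j ≠ 0 := fun h0 => hw (by rw [← hj, h0, zero_smul])
    exact Submodule.mem_span_singleton.mpr ⟨j⁻¹, by rw [← hj, inv_smul_smul₀ hj0]⟩)
  obtain ⟨φ₁, hE₁, h1⟩ := exists_functional hwz
  have hzη := spread_center hrat hw hηw hηz h1 (hE₁ z (Submodule.mem_span_singleton_self z)) hwη
  obtain ⟨φ₂, hE₂, h2⟩ := exists_functional hzw
  exact spread_center hrat hz0 hηz hηv h2 (hE₂ _ (Submodule.smul_mem _ c (Submodule.mem_span_singleton_self w))) hzη

omit hrat in
lemma scal_add {a b : F} (ha : a ∈ Scal F₀ M) (hb : b ∈ Scal F₀ M) : a + b ∈ Scal F₀ M := by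
  intro w χ hd
  have hd' : ∀ c : F, (c • cv χ) ⬝ᵥ cv w = 0 := fun c => by
    rw [smul_dotProduct, cv_dot, hd, ZeroMemClass.coe_zero, smul_zero]
  rw [add_smul, ← transv_mul (hd' a) (hd' b)]
  exact M.mul_mem (ha w χ hd) (hb w χ hd)

lemma scal_mul (h4 : 4 ≤ Fintype.card ι) {a b : F} (ha : a ∈ Scal F₀ M) (hb : b ∈ Scal F₀ M) :
    a * b ∈ Scal F₀ M := by
  classical
  haveI : Nonempty ι := Fintype.card_pos_iff.mp (by omega)
  obtain ⟨i, j, k, hij, hik, hjk⟩ := Fintype.two_lt_card_iff.mp (show 2 < Fintype.card ι by omega)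
  refine scal_of_pair hrat h4 (w := Pi.single i 1) (χ := Pi.single k 1) (by simp) (by simp) (by simp [hik.symm]) ?_
  have h1 := mem_center_shift (M := M) (x := cv (Pi.single i 1)) (η := a • cv (Pi.single j 1))
    (v := cv (Pi.single j 1)) (φ := b • cv (Pi.single k 1))
    (by rw [smul_dotProduct, cv_dot]; simp [hij.symm]) (by rw [smul_dotProduct, cv_dot]; simp [hjk.symm])
    (by rw [smul_dotProduct, cv_dot]; simp [hik.symm]) (ha _ _ (by simp [hij.symm])) (hb _ _ (by simp [hjk.symm]))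
  rw [smul_dotProduct, cv_dot, smul_smul] at h1
  simpa using h1

lemma coe_mem_scal (c : F₀) : (c : F) ∈ Scal F₀ M := fun _ _ h => rat_smul hrat h c

/-- A non-rational scalar gives the special linear group. -/
theorem le_of_scal [Finite F] (h4 : 4 ≤ Fintype.card ι) (hgen : ∀ R : Subfield F, F₀ < R → R = ⊤)
    {a : F} (ha : a ∈ Scal F₀ M) (ha' : a ∉ F₀) : Cfsg.Geo.specialLinear ι F ≤ M := by
  classical
  have hneg : ∀ {x}, x ∈ Scal F₀ M → -x ∈ Scal F₀ M := fun {x} hx => by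
    have := scal_mul hrat h4 hx (coe_mem_scal hrat (-1))
    simpa using this
  let R : Subring F :=
    { carrier := Scal F₀ M
      one_mem' := by simpa using coe_mem_scal hrat (1 : F₀)
      zero_mem' := by simpa using coe_mem_scal hrat (0 : F₀)
      add_mem' := scal_add
      mul_mem' := scal_mul hrat h4
      neg_mem' := hneg }
  let L : Subfield F :=
    { R with
      inv_mem' := fun x hx => by
        rcases eq_or_ne x 0 with rfl | hx0
        · simpa using R.zero_mem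
        haveI := Fintype.ofFinite F
        have h1 : x⁻¹ = x ^ (Fintype.card F - 2) := by
          refine inv_eq_of_mul_eq_one_right ?_
          have h2 : 2 ≤ Fintype.card F := Fintype.one_lt_card
          rw [← pow_succ', show Fintype.card F - 2 + 1 = Fintype.card F - 1 by omega,
            FiniteField.pow_card_sub_one_eq_one x hx0]
        rw [h1]
        exact R.pow_mem hx _ }
  have hL : L = ⊤ := hgen L (lt_of_le_not_ge (fun x hx => coe_mem_scal hrat (⟨x, hx⟩ : F₀)) fun h => ha' (h ha))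
  have hel : ∀ (i j : ι), i ≠ j → ∀ c : F, transv (Pi.single i (1 : F)) (Pi.single j c) ∈ M := by
    intro i j hij c
    have h := (hL ▸ Subfield.mem_top c : c ∈ L) (Pi.single i 1) (Pi.single j 1) (by simp [hij.symm])
    rw [cv_pi_single, cv_pi_single, OneMemClass.coe_one, ← Pi.single_smul, smul_eq_mul, mul_one] at h
    exact h
  intro g hg
  rw [mem_specialLinear_iff] at hg
  have htop := CfsgLib.Classical.SL_le_of_transvections (M.comap Matrix.SpecialLinearGroup.toGL)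
    fun i j hij c => by
      rw [Subgroup.mem_comap, toGL_transvection hij c]
      exact hel i j hij c
  have key : ∀ x : Matrix.SpecialLinearGroup ι F, x ∈ M.comap Matrix.SpecialLinearGroup.toGL := fun x => by
    rw [htop]; exact Subgroup.mem_top x
  have e : Matrix.SpecialLinearGroup.toGL (⟨(g : Matrix ι ι F), hg⟩ : Matrix.SpecialLinearGroup ι F) = g :=
    Units.ext rfl
  rw [← e]
  exact Subgroup.mem_comap.mp (key _)

/-- A transvection with a rational axis and a non-rational centre. -/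
theorem exists_scal_of_axis (h4 : 4 ≤ Fintype.card ι) {u : ι → F} {χ : ι → F₀} (hχ : χ ≠ 0)
    (hu : ∀ (l : F) (r : ι → F₀), u ≠ l • cv r) (hd : cv χ ⬝ᵥ u = 0) {s : F} (hs : s ≠ 0)
    (h : transv u (s • cv χ) ∈ M) : ∃ a ∈ Scal F₀ M, a ∉ F₀ := by
  classical
  by_contra hcon
  push_neg at hcon
  have key : ∀ j, s * u j ∈ F₀ := by
    intro j
    obtain ⟨w, hw, hw1, hw2⟩ := exists_perp_pair (F₀ := F₀) (show 3 ≤ Fintype.card ι by omega) χ (Pi.single j 1)
    have hw2' : ((Pi.single j 1 : ι → F₀)) ⬝ᵥ w = 0 := hw2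
    have h2 := mem_center_shift (M := M) (x := cv w) (η := cv (Pi.single j 1)) (v := u) (φ := s • cv χ)
      (by rw [cv_dot, hw2']; rfl) (by rw [smul_dotProduct, hd, smul_zero])
      (by rw [smul_dotProduct, cv_dot, hw1, ZeroMemClass.coe_zero, smul_zero]) (hrat w _ hw2') h
    rw [cv_pi_single, OneMemClass.coe_one, single_dotProduct, one_mul, smul_smul] at h2
    have := hcon _ (scal_of_pair hrat h4 hw hχ hw1 h2)
    rwa [mul_comm]
  refine hu s⁻¹ (fun j => ⟨s * u j, key j⟩) (funext fun j => ?_)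
  simp [coeVec, hs]

/-- A transvection whose centre is killed by a rational functional. -/
theorem exists_scal_of_annihilator (h4 : 4 ≤ Fintype.card ι) {u ψ : ι → F}
    (hu : ∀ (l : F) (r : ι → F₀), u ≠ l • cv r) (hψ : ψ ≠ 0) (hd : ψ ⬝ᵥ u = 0) {χ : ι → F₀}
    (hχ : χ ≠ 0) (hχu : cv χ ⬝ᵥ u = 0) (h : transv u ψ ∈ M) : ∃ a ∈ Scal F₀ M, a ∉ F₀ := by
  classical
  by_cases hex : ∃ w : ι → F₀, χ ⬝ᵥ w = 0 ∧ ψ ⬝ᵥ cv w ≠ 0
  · obtain ⟨w, hw, hq⟩ := hex
    have h1 := mem_center_shift (M := M) (x := u) (η := ψ) (v := cv w) (φ := cv χ) hd (by rw [cv_dot, hw]; rfl)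
      hχu h (hrat w χ hw)
    exact exists_scal_of_axis hrat h4 hχ hu hχu hq h1
  push_neg at hex
  obtain ⟨x, hx⟩ := exists_dual (hrat := hrat) hχ
  have hprop : ψ = (ψ ⬝ᵥ cv x) • cv χ := by
    funext j
    have h1 := hex (Pi.single j 1 - (χ j) • x) (by
      rw [dotProduct_sub, dotProduct_smul, hx, dotProduct_single, mul_one, smul_eq_mul, mul_one, sub_self])
    have h2 : cv (Pi.single j 1 - (χ j) • x) = Pi.single j (1 : F) - (χ j : F) • cv x := by
      funext k
      by_cases hk : k = j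
      · subst hk; simp [coeVec]
      · simp [coeVec, hk]
    rw [h2, dotProduct_sub, dotProduct_smul, dotProduct_single, mul_one, sub_eq_zero] at h1
    rw [h1, Pi.smul_apply, smul_eq_mul, smul_eq_mul, mul_comm]
    rfl
  refine exists_scal_of_axis hrat h4 hχ hu hχu (s := ψ ⬝ᵥ cv x) (fun h0 => hψ ?_) (hprop ▸ h)
  rw [hprop, h0, zero_smul]

open CfsgLib.Classical22.DicksonPlane in
/-- Any non-rational transvection (with all its rational multiples) gives a non-rational scalar. -/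
theorem exists_scal [Finite F] (h4 : 4 ≤ Fintype.card ι) (hgen : ∀ R : Subfield F, F₀ < R → R = ⊤)
    {u ψ : ι → F} (hu : ∀ (l : F) (r : ι → F₀), u ≠ l • cv r) (hψ : ψ ≠ 0) (hd : ψ ⬝ᵥ u = 0)
    (hT : ∀ c : F₀, transv u ((c : F) • ψ) ∈ M) : ∃ a ∈ Scal F₀ M, a ∉ F₀ := by
  classical
  have hT1 : transv u ψ ∈ M := by simpa using hT 1
  by_cases hann : ∃ χ : ι → F₀, χ ≠ 0 ∧ cv χ ⬝ᵥ u = 0
  · obtain ⟨χ, hχ, hχu⟩ := hann
    exact exists_scal_of_annihilator hrat h4 hu hψ hd hχ hχu hT1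
  push_neg at hann
  obtain ⟨i, hi⟩ := Function.ne_iff.mp hψ
  -- the plane of `e i` and `u`
  let e : ι → F := Pi.single i 1
  have he : e = cv (Pi.single i 1) := by rw [cv_pi_single]; simp [e]
  obtain ⟨j₀, hj₀⟩ := Fintype.exists_ne_of_one_lt_card (show 1 < Fintype.card ι by omega) i
  have huj : ∀ j, u j ≠ 0 := fun j h0 => hann (Pi.single j 1) (by simp) (by
    rw [cv_pi_single, single_dotProduct, h0, mul_zero])
  have hindep : ∀ a b : F, a • e + b • u = 0 → a = 0 ∧ b = 0 := by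
    intro a b h
    have h1 := congrFun h j₀
    simp [e, hj₀, huj j₀] at h1
    subst h1
    have h2 := congrFun h i
    simp [e] at h2
    exact ⟨h2, rfl⟩
  let comb : (Fin 2 → F) → (ι → F) := fun c => c 0 • e + c 1 • u
  have hcomb : Function.Injective comb := by
    intro c c' h
    obtain ⟨h0, h1⟩ := hindep (c 0 - c' 0) (c 1 - c' 1) (by
      have h' : c 0 • e + c 1 • u - (c' 0 • e + c' 1 • u) = 0 := sub_eq_zero.mpr h
      rw [← h']; module)
    funext k
    fin_cases k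
    · exact sub_eq_zero.mp h0
    · exact sub_eq_zero.mp h1
  -- the induced group on the plane
  let S : Subgroup (GL (Fin 2) F) :=
    { carrier := {G2 | ∃ x ∈ M, ∀ c, (x : Matrix ι ι F) *ᵥ comb c = comb ((G2 : Matrix (Fin 2) (Fin 2) F) *ᵥ c)}
      one_mem' := ⟨1, M.one_mem, fun c => by simp⟩
      mul_mem' := by
        rintro a b ⟨x, hx, hxc⟩ ⟨y, hy, hyc⟩
        exact ⟨x * y, M.mul_mem hx hy, fun c => by rw [mul_mulVec, hyc, hxc, mul_mulVec]⟩
      inv_mem' := by
        rintro a ⟨x, hx, hxc⟩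
        refine ⟨x⁻¹, M.inv_mem hx, fun c => ?_⟩
        have := hxc (((a⁻¹ : GL (Fin 2) F) : Matrix (Fin 2) (Fin 2) F) *ᵥ c)
        rw [mulVec_inv_cancel] at this
        rw [← this, inv_mulVec_cancel] }
  let A : Set F := {a | ∃ η : ι → F₀, η i = 0 ∧ cv η ⬝ᵥ u = a}
  let UA : F → GL (Fin 2) F := fun a => Matrix.GeneralLinearGroup.mkOfDetNeZero !![1, a; 0, 1] (by simp [Matrix.det_fin_two])
  let LB : F → GL (Fin 2) F := fun b => Matrix.GeneralLinearGroup.mkOfDetNeZero !![1, 0; b, 1] (by simp [Matrix.det_fin_two])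
  let G : Subgroup (GL (Fin 2) F) :=
    Subgroup.closure (UA '' A ∪ LB '' (Set.range fun c : F₀ => (c : F) * ψ i))
  have hGS : G ≤ S := by
    rw [Subgroup.closure_le]
    rintro _ (⟨a, ⟨η, hη, rfl⟩, rfl⟩ | ⟨_, ⟨c, rfl⟩, rfl⟩)
    · have hd0 : η ⬝ᵥ (Pi.single i 1 : ι → F₀) = 0 := by rw [dotProduct_single, hη, zero_mul]
      have hd1 : cv η ⬝ᵥ e = 0 := by rw [he, cv_dot, hd0]; rfl
      refine ⟨transv e (cv η), he ▸ hrat _ η hd0, fun c => ?_⟩
      show (transv e (cv η) : Matrix ι ι F) *ᵥ comb c = comb (!![1, cv η ⬝ᵥ u; 0, 1] *ᵥ c)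
      rw [transv_mulVec hd1, show !![1, cv η ⬝ᵥ u; 0, 1] *ᵥ c = ![c 0 + (cv η ⬝ᵥ u) * c 1, c 1] by
        ext k; fin_cases k <;> simp [Matrix.mulVec, dotProduct, Fin.sum_univ_two]]
      simp only [comb, dotProduct_add, dotProduct_smul, hd1, Matrix.cons_val_zero, Matrix.cons_val_one]
      simp
      module
    · refine ⟨transv u ((c : F) • ψ), hT c, fun d => ?_⟩
      show (transv u ((c : F) • ψ) : Matrix ι ι F) *ᵥ comb d = comb (!![1, 0; (c : F) * ψ i, 1] *ᵥ d)
      have hde : ψ ⬝ᵥ e = ψ i := by simp [e]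
      rw [transv_mulVec (by rw [smul_dotProduct, hd, smul_zero]),
        show !![1, 0; (c : F) * ψ i, 1] *ᵥ d = ![d 0, (c : F) * ψ i * d 0 + d 1] by
          ext k; fin_cases k <;> simp [Matrix.mulVec, dotProduct, Fin.sum_univ_two]]
      simp only [comb, dotProduct_add, dotProduct_smul, smul_dotProduct, hd, hde, Matrix.cons_val_zero,
        Matrix.cons_val_one]
      simp
      module
  -- scaling
  have hscale : ∀ l : F₀, ∀ hl' : (l : F) ≠ 0, ∀ g ∈ G,
      Matrix.GeneralLinearGroup.mkOfDetNeZero !![(l : F), 0; 0, 1] (by simp [Matrix.det_fin_two, *]) * g *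
      (Matrix.GeneralLinearGroup.mkOfDetNeZero !![(l : F), 0; 0, 1] (by simp [Matrix.det_fin_two, *]))⁻¹ ∈ G := by
    intro l hl' g hg
    set D : GL (Fin 2) F := Matrix.GeneralLinearGroup.mkOfDetNeZero !![(l : F), 0; 0, 1] (by simp [Matrix.det_fin_two, *])
    induction hg using Subgroup.closure_induction with
    | one => rw [mul_one, mul_inv_cancel]; exact G.one_mem
    | mul x y _ _ hx hy => simpa [mul_assoc] using G.mul_mem hx hy
    | inv x _ hx => simpa [mul_assoc] using G.inv_mem hx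
    | mem x hx =>
      rcases hx with ⟨a, ⟨η, hη, rfl⟩, rfl⟩ | ⟨_, ⟨c, rfl⟩, rfl⟩
      · have h1 : D * UA (cv η ⬝ᵥ u) = UA ((l : F) * cv η ⬝ᵥ u) * D := by
          apply Units.ext
          show !![(l : F), 0; 0, 1] * !![1, cv η ⬝ᵥ u; 0, 1] = !![1, (l : F) * cv η ⬝ᵥ u; 0, 1] * !![(l : F), 0; 0, 1]
          simp
        rw [h1, mul_inv_cancel_right]
        exact Subgroup.subset_closure (Or.inl ⟨_, ⟨l • η, by simp [hη], by rw [coeVec_smul, smul_dotProduct, smul_eq_mul]⟩, rfl⟩)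
      · have h1 : D * LB ((c : F) * ψ i) = LB (((l⁻¹ * c : F₀) : F) * ψ i) * D := by
          apply Units.ext
          show !![(l : F), 0; 0, 1] * !![1, 0; (c : F) * ψ i, 1] =
            !![1, 0; ((l⁻¹ * c : F₀) : F) * ψ i, 1] * !![(l : F), 0; 0, 1]
          simp
          field_simp
        rw [h1, mul_inv_cancel_right]
        exact Subgroup.subset_closure (Or.inr ⟨_, ⟨_, rfl⟩, rfl⟩)
  -- the translation group
  let Tr : Set F := transl G
  have hA : A ⊆ Tr := fun a ha => ⟨UA a, Subgroup.subset_closure (Or.inl ⟨a, ha, rfl⟩), by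
    show (!![1, a; 0, 1] : Matrix (Fin 2) (Fin 2) F) 1 0 = 0; simp, by
    show (!![1, a; 0, 1] : Matrix (Fin 2) (Fin 2) F) 0 0 = (!![1, a; 0, 1] : Matrix (Fin 2) (Fin 2) F) 1 1; simp, by
    show (!![1, a; 0, 1] : Matrix (Fin 2) (Fin 2) F) 0 1 = a * (!![1, a; 0, 1] : Matrix (Fin 2) (Fin 2) F) 0 0; simp⟩
  have hmul : ∀ l : F₀, (l : F) ∈ multipliers Tr := by
    rintro l a ⟨g, hg, h1, h2, h3⟩
    by_cases hl : l = 0
    · refine ⟨1, G.one_mem, ?_, ?_, ?_⟩ <;> simp [hl]
    set D : GL (Fin 2) F := Matrix.GeneralLinearGroup.mkOfDetNeZero !![(l : F), 0; 0, 1] (by simp [Matrix.det_fin_two, hl]) with hD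
    have hl' : (l : F) ≠ 0 := fun h => hl (Subtype.ext h)
    refine ⟨D * g * D⁻¹, hscale l hl' g hg, ?_⟩
    have hg' : (g : Matrix (Fin 2) (Fin 2) F) = !![g.val 0 0, a * g.val 0 0; 0, g.val 0 0] := by
      ext p q; fin_cases p <;> fin_cases q <;> simp [h1, ← h2, h3]
    have e1 : ((D * g * D⁻¹ : GL (Fin 2) F) : Matrix (Fin 2) (Fin 2) F) =
        !![g.val 0 0, (l : F) * a * g.val 0 0; 0, g.val 0 0] := by
      have h4 : (D : Matrix (Fin 2) (Fin 2) F) * g = !![g.val 0 0, (l : F) * a * g.val 0 0; 0, g.val 0 0] * D := by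
        show !![(l : F), 0; 0, 1] * (g : Matrix (Fin 2) (Fin 2) F) = _ * !![(l : F), 0; 0, 1]
        conv_lhs => rw [hg']
        simp [mul_comm, mul_left_comm, mul_assoc]
      rw [Units.val_mul, Units.val_mul, h4, mul_assoc, Units.mul_inv, mul_one]
    have e2 := fun p q => congrFun (congrFun e1 p) q
    refine ⟨(e2 1 0).trans (by simp), (e2 0 0).trans (.trans (by simp) (e2 1 1).symm), ?_⟩
    refine (e2 0 1).trans ?_
    show _ = (l : F) * a * (D * g * D⁻¹).val 0 0
    rw [(e2 0 0).trans (show _ = g.val 0 0 by simp)]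
    simp
  have hTadd : ∀ a ∈ Tr, ∀ b ∈ Tr, a + b ∈ Tr := by
    rintro a ⟨g, hg, g1, g2, g3⟩ b ⟨h, hh, k1, k2, k3⟩
    refine ⟨g * h, G.mul_mem hg hh, ?_, ?_, ?_⟩ <;> simp only [mul_apply_two, g1, g3, k1, k3, ← g2, ← k2] <;> ring
  have hT0 : (0 : F) ∈ Tr := ⟨1, G.one_mem, by simp, by simp, by simp⟩
  haveI := Fintype.ofFinite F
  -- the multipliers form a subfield
  let R : Subring F :=
    { carrier := multipliers Tr
      one_mem' := fun a ha => by rwa [one_mul]
      zero_mem' := fun a _ => by rw [zero_mul]; exact hT0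
      add_mem' := fun hx hy a ha => by rw [add_mul]; exact hTadd _ (hx a ha) _ (hy a ha)
      mul_mem' := fun hx hy a ha => by rw [mul_assoc]; exact hx _ (hy a ha)
      neg_mem' := fun {x} hx a ha => by
        have := hmul (-1) _ (hx a ha)
        simpa using this }
  let L : Subfield F :=
    { R with
      inv_mem' := fun x hx => by
        rcases eq_or_ne x 0 with rfl | hx0
        · simpa using R.zero_mem
        have h1 : x⁻¹ = x ^ (Fintype.card F - 2) := by
          refine inv_eq_of_mul_eq_one_right ?_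
          have h2 : 2 ≤ Fintype.card F := Fintype.one_lt_card
          rw [← pow_succ', show Fintype.card F - 2 + 1 = Fintype.card F - 1 by omega,
            FiniteField.pow_card_sub_one_eq_one x hx0]
        rw [h1]
        exact R.pow_mem hx _ }
  -- the size of `A`
  let θ : ({j : ι // j ≠ i} → F₀) → F := fun η => cv (fun j => if h : j = i then 0 else η ⟨j, h⟩) ⬝ᵥ u
  have hθ : Function.Injective θ := by
    intro η η' h
    by_contra hne
    refine hann ((fun j => if h : j = i then 0 else η ⟨j, h⟩) - fun j => if h : j = i then 0 else η' ⟨j, h⟩)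
      (fun h0 => hne (funext fun j => ?_)) ?_
    · have := congrFun h0 j.1
      simpa [j.2, sub_eq_zero] using this
    · rw [show cv ((fun j => if h : j = i then (0 : F₀) else η ⟨j, h⟩) - fun j => if h : j = i then 0 else η' ⟨j, h⟩) =
        cv (fun j => if h : j = i then 0 else η ⟨j, h⟩) - cv (fun j => if h : j = i then 0 else η' ⟨j, h⟩) from
        funext fun k => by simp [coeVec], sub_dotProduct, sub_eq_zero]
      exact h
  have hAcard : Nat.card F₀ ^ (Fintype.card ι - 1) ≤ Tr.ncard := by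
    have h1 : Nat.card ({j : ι // j ≠ i} → F₀) = Nat.card F₀ ^ (Fintype.card ι - 1) := by
      rw [Nat.card_fun, Nat.card_eq_fintype_card (α := {j : ι // j ≠ i}), Fintype.card_subtype_compl]
      simp
    rw [← h1]
    refine (Nat.card_le_card_of_injective (fun η => (⟨θ η, hA ⟨_, by simp, rfl⟩⟩ : Tr)) fun a b h =>
      hθ (congrArg Subtype.val h)).trans ?_
    rw [Nat.card_coe_set_eq]
  -- Dickson
  have ha₀ : ∃ a ∈ A, a ≠ 0 := ⟨_, ⟨Pi.single j₀ 1, by simp [hj₀], rfl⟩, by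
    rw [cv_pi_single, single_dotProduct]; simpa using huj j₀⟩
  obtain ⟨a₀, ha₀A, ha₀⟩ := ha₀
  have hbound := card_transl_lt G ha₀ (u₀ := UA a₀) (Subgroup.subset_closure (Or.inl ⟨_, ha₀A, rfl⟩)) rfl
    (g₀ := LB (ψ i)) (Subgroup.subset_closure (Or.inr ⟨_, ⟨1, by simp⟩, rfl⟩)) (by
      show (!![1, 0; ψ i, 1] : Matrix (Fin 2) (Fin 2) F) 1 0 ≠ 0
      simpa using hi)
  have hLtop : L = ⊤ := by
    by_contra hne
    have hle : F₀ ≤ L := fun x hx => hmul ⟨x, hx⟩
    have hLF : L = F₀ := by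
      rcases hle.lt_or_eq with h | h
      · exact absurd (hgen L h) hne
      · exact h.symm
    have h1 : (multipliers Tr).ncard = Nat.card F₀ := by
      rw [← hLF, ← Nat.card_coe_set_eq]
      rfl
    have h2 : 2 ≤ Nat.card F₀ := Finite.one_lt_card
    have h3 : Nat.card F₀ ^ 3 ≤ Nat.card F₀ ^ (Fintype.card ι - 1) := Nat.pow_le_pow_right (by omega) (by omega)
    have h4 : 2 * Nat.card F₀ ≤ Nat.card F₀ ^ 3 := by
      rw [pow_succ]
      exact Nat.mul_le_mul_right _ (le_trans h2 (Nat.le_self_pow (by omega) _))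
    change Tr.ncard < 2 * (multipliers Tr).ncard at hbound
    omega
  -- a translation moving the centre onto a vector with a vanishing coordinate
  have hall : -u i ∈ Tr := by
    have h1 : (-u i) / a₀ ∈ L := hLtop ▸ Subfield.mem_top _
    have h2 := h1 a₀ (hA ha₀A)
    rwa [div_mul_cancel₀ _ ha₀] at h2
  obtain ⟨g, hg, g1, g2, g3⟩ := hall
  obtain ⟨x, hx, hxc⟩ := hGS hg
  have hxu : (x : Matrix ι ι F) *ᵥ u = g.val 0 0 • (u - u i • e) := by
    have := hxc ![0, 1]
    simp only [comb, Matrix.mulVec, dotProduct, Fin.sum_univ_two] at this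
    simp [g3, ← g2] at this
    rw [this]
    module
  have hg0 := (diag_ne_zero g1).1
  have hT' := M.mul_mem (M.mul_mem hx hT1) (M.inv_mem hx)
  rw [conj_transv _ hd, hxu, transv_smul_left _ (by
    have := vecMul_inv_dotProduct x ψ u
    rw [hxu, dotProduct_smul, hd, smul_eq_mul, mul_eq_zero] at this
    exact this.resolve_left hg0)] at hT'
  refine exists_scal_of_annihilator hrat h4 (u := u - u i • e) ?_ ?_ ?_ (χ := Pi.single i 1) (by simp) ?_ hT'
  · intro l r hlr
    obtain ⟨a, b, hai, hbi, hab⟩ : ∃ a b, a ≠ i ∧ b ≠ i ∧ a ≠ b := by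
      obtain ⟨p, q, r', hpq, hpr, hqr⟩ := Fintype.two_lt_card_iff.mp (show 2 < Fintype.card ι by omega)
      by_cases h1 : p = i
      · exact ⟨q, r', fun h => hpq (h1.trans h.symm), fun h => hpr (h1.trans h.symm), hqr⟩
      by_cases h2 : q = i
      · exact ⟨p, r', h1, fun h => hqr (h2.trans h.symm), hpr⟩
      exact ⟨p, q, h1, h2, hpq⟩
    have h1 := congrFun hlr a
    have h2 := congrFun hlr b
    simp [e, hai, hbi, coeVec] at h1 h2
    refine hann (r b • Pi.single a (1 : F₀) - r a • Pi.single b 1) (fun h0 => ?_) ?_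
    · have h3 := congrFun h0 a
      simp [hab] at h3
      exact huj b (by rw [h2, h3]; simp)
    · rw [show cv (r b • Pi.single a (1 : F₀) - r a • Pi.single b 1) =
        (r b : F) • Pi.single a (1 : F) - (r a : F) • Pi.single b 1 from funext fun k => by
          by_cases hka : k = a
          · subst hka; simp [coeVec, hab]
          · by_cases hkb : k = b
            · subst hkb; simp [coeVec, hka]
            · simp [coeVec, hka, hkb], sub_dotProduct, smul_dotProduct, smul_dotProduct, single_dotProduct,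
        single_dotProduct, one_mul, one_mul, h1, h2, smul_eq_mul, smul_eq_mul]
      ring
  · intro h0
    apply hψ
    have h1 := (smul_eq_zero.mp h0).resolve_left hg0
    calc ψ = ψ ᵥ* ((x⁻¹ : GL ι F) : Matrix ι ι F) ᵥ* (x : Matrix ι ι F) := by
          rw [vecMul_vecMul, Units.inv_mul, vecMul_one]
      _ = 0 := by rw [h1, zero_vecMul]
  · have := vecMul_inv_dotProduct x ψ u
    rw [hxu, dotProduct_smul, hd, smul_eq_mul, mul_eq_zero] at this
    rw [smul_dotProduct, this.resolve_left hg0, smul_zero]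
  · rw [cv_pi_single, single_dotProduct]
    simp [e]

end Rat

end CfsgLib.Transvec.LinSubfield
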