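/-
Subgroups of GL(ι, F) containing the Siegel elements of two different symmetric forms.
-/
import Cfsg.Agent.Lib.Transvec.Linear

set_option autoImplicit false

namespace CfsgLib.Transvec.OrthOverSL

open Matrix CfsgLib.Transvec
open scoped MatrixGroups

variable {ι : Type} [Fintype ι] [DecidableEq ι] {F : Type*} [Field F]

/-- The vector representing the functional `x ↦ B x v`. -/
def bvec (B : LinearMap.BilinForm F (ι → F)) : (ι → F) →ₗ[F] (ι → F) where
  toFun v := fun i => B (Pi.single i 1) v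
  map_add' v w := funext fun i => map_add (B (Pi.single i 1)) v w
  map_smul' c v := funext fun i => map_smul (B (Pi.single i 1)) c v

lemma bvec_dot (B : LinearMap.BilinForm F (ι → F)) (v x : ι → F) : bvec B v ⬝ᵥ x = B x v := by
  conv_rhs => rw [show x = ∑ i, x i • (Pi.single i 1 : ι → F) by
    funext j; simp [Finset.sum_apply, Pi.single_apply]]
  rw [map_sum, LinearMap.sum_apply]
  refine Finset.sum_congr rfl fun i _ => ?_
  rw [map_smul, LinearMap.smul_apply, smul_eq_mul, mul_comm]
  rfl

/-- The vectors killed by a space of functionals. -/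
def perpD (Φ : Submodule F (ι → F)) : Submodule F (ι → F) where
  carrier := {x | ∀ φ ∈ Φ, φ ⬝ᵥ x = 0}
  zero_mem' φ _ := dotProduct_zero φ
  add_mem' ha hb φ hφ := by rw [dotProduct_add, ha φ hφ, hb φ hφ, add_zero]
  smul_mem' c x hx φ hφ := by rw [dotProduct_smul, hx φ hφ, smul_zero]

lemma finrank_perpD_ge (Φ : Submodule F (ι → F)) :
    Fintype.card ι ≤ Module.finrank F (perpD Φ) + Module.finrank F Φ := by
  let b := Module.finBasis F Φ
  let T : (ι → F) →ₗ[F] (Fin (Module.finrank F Φ) → F) := LinearMap.pi fun i => dotProductEquiv F ι (b i : ι → F)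
  have hker : LinearMap.ker T ≤ perpD Φ := by
    intro x hx φ hφ
    have h0 : ∀ i, (b i : ι → F) ⬝ᵥ x = 0 := fun i => congrFun (LinearMap.mem_ker.mp hx) i
    have hspan : (⟨φ, hφ⟩ : Φ) ∈ Submodule.span F (Set.range b) := by rw [b.span_eq]; trivial
    refine Submodule.span_induction (p := fun (y : Φ) _ => (y : ι → F) ⬝ᵥ x = 0) ?_ (zero_dotProduct x) ?_ ?_ hspan
    · rintro _ ⟨i, rfl⟩; exact h0 i
    · intro y z _ _ hy hz; rw [Submodule.coe_add, add_dotProduct, hy, hz, add_zero]
    · intro a y _ hy; rw [Submodule.coe_smul, smul_dotProduct, hy, smul_zero]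
  have h1 := LinearMap.finrank_range_add_finrank_ker T
  have h2 := Submodule.finrank_le (LinearMap.range T)
  have h3 := Submodule.finrank_mono hker
  rw [Module.finrank_fin_fun] at h2
  rw [Module.finrank_fintype_fun_eq_card] at h1
  omega

lemma perpD_span_le {S : Set (ι → F)} {x : ι → F} (h : ∀ φ ∈ S, φ ⬝ᵥ x = 0) : x ∈ perpD (Submodule.span F S) := by
  intro φ hφ
  refine Submodule.span_induction (p := fun φ _ => φ ⬝ᵥ x = 0) h (zero_dotProduct x) ?_ ?_ hφ
  · intro y z _ _ hy hz; rw [add_dotProduct, hy, hz, add_zero]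
  · intro a y _ hy; rw [smul_dotProduct, hy, smul_zero]

lemma finrank_span_list_le (l : List (ι → F)) : Module.finrank F (Submodule.span F {x | x ∈ l}) ≤ l.length := by
  classical
  have : {x | x ∈ l} = (↑l.toFinset : Set (ι → F)) := by ext x; simp
  rw [this]
  exact (finrank_span_finset_le_card _).trans l.toFinset_card_le

lemma finrank_span_one_le (v : ι → F) : Module.finrank F (Submodule.span F {v}) ≤ 1 := by
  classical
  exact (finrank_span_le_card _).trans (by simp)

/-- The hypotheses on a symmetric form. -/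
structure IsSymForm (B : LinearMap.BilinForm F (ι → F)) : Prop where
  symm : ∀ x y, B x y = B y x
  nondeg : ∀ v, v ≠ 0 → ∃ x, B x v ≠ 0
  two : (2 : F) ≠ 0

variable {B : LinearMap.BilinForm F (ι → F)} (hB : IsSymForm B)

include hB

lemma bvec_injective : Function.Injective (bvec B) := by
  rw [injective_iff_map_eq_zero]
  intro v hv
  by_contra h0
  obtain ⟨x, hx⟩ := hB.nondeg v h0
  exact hx (by rw [← bvec_dot, hv, zero_dotProduct])

variable [Finite F]

lemma exists_sing_in {W : Submodule F (ι → F)} (hW : 3 ≤ Module.finrank F W) :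
    ∃ x ∈ W, x ≠ 0 ∧ B x x = 0 := by
  classical
  haveI := Fintype.ofFinite F
  by_contra hcon
  simp only [not_exists, not_and] at hcon
  have hne : ∀ x ∈ W, B x x = 0 → x = 0 := fun x hx h => by_contra fun h0 => hcon x hx h0 h
  have pick : ∀ l : List (ι → F), l.length ≤ 2 → ∃ x ∈ W, x ≠ 0 ∧ ∀ v ∈ l, B x v = 0 := by
    intro l hl
    obtain ⟨Φ, hΦ⟩ : ∃ Φ, Φ = Submodule.span F {x | x ∈ l.map (bvec B)} := ⟨_, rfl⟩
    have h1 : Module.finrank F Φ ≤ 2 := hΦ ▸ (finrank_span_list_le _).trans (by simpa using hl)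
    have h2 := finrank_perpD_ge Φ
    have h3 := Submodule.finrank_sup_add_finrank_inf_eq W (perpD Φ)
    have h4 := Submodule.finrank_le (W ⊔ perpD Φ)
    rw [Module.finrank_fintype_fun_eq_card] at h4
    obtain ⟨x, hx, hx0⟩ := Submodule.exists_mem_ne_zero_of_ne_bot (p := W ⊓ perpD Φ) fun h => by
      rw [h, finrank_bot] at h3; omega
    exact ⟨x, hx.1, hx0, fun v hv => by
      rw [← bvec_dot]
      exact hx.2 _ (hΦ ▸ Submodule.subset_span (List.mem_map_of_mem hv))⟩
  obtain ⟨a, ha, ha0, -⟩ := pick [] (by simp)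
  obtain ⟨b, hb, hb0, hba⟩ := pick [a] (by simp)
  obtain ⟨c, hc, hc0, hcab⟩ := pick [a, b] (by simp)
  have hba := hba a (by simp)
  have hca := hcab a (by simp)
  have hcb := hcab b (by simp)
  have hqa : B a a ≠ 0 := fun h => ha0 (hne a ha h)
  have hqb : B b b ≠ 0 := fun h => hb0 (hne b hb h)
  have hodd : Fintype.card F % 2 = 1 := FiniteField.odd_card_of_char_ne_two (fun h => hB.two (by
    haveI : CharP F 2 := h ▸ ringChar.charP F
    exact CharTwo.two_eq_zero))
  open Polynomial in
  obtain ⟨x, y, hxy⟩ := FiniteField.exists_root_sum_quadratic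
    (f := (C (B a a) * X ^ 2 : F[X])) (g := C (B b b) * X ^ 2 + C (B c c))
    (by rw [degree_C_mul_X_pow 2 hqa]; norm_num)
    (by rw [degree_add_C] <;> rw [degree_C_mul_X_pow 2 hqb] <;> norm_num) hodd
  simp at hxy
  have h0 := hne (x • a + y • b + c) (W.add_mem (W.add_mem (W.smul_mem _ ha) (W.smul_mem _ hb)) hc) (by
    simp only [map_add, map_smul, LinearMap.add_apply, LinearMap.smul_apply, smul_eq_mul, hB.symm a b, hB.symm a c,
      hB.symm b c, hba, hca, hcb]
    linear_combination hxy)
  have hx : x = 0 := by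
    have := congrArg (fun v => B v a) h0
    simp only [map_add, map_smul, LinearMap.add_apply, LinearMap.smul_apply, smul_eq_mul, hba, hca, map_zero,
      LinearMap.zero_apply, mul_zero, add_zero, mul_eq_zero, hqa, or_false] at this
    exact this
  have hy : y = 0 := by
    have := congrArg (fun v => B v b) h0
    simp only [map_add, map_smul, LinearMap.add_apply, LinearMap.smul_apply, smul_eq_mul, hB.symm a b, hba, hcb,
      map_zero, LinearMap.zero_apply, mul_zero, zero_add, add_zero, mul_eq_zero, hqb, or_false] at this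
    exact this
  rw [hx, hy, zero_smul, zero_smul, zero_add, zero_add] at h0
  exact hc0 h0

lemma exists_sing_avoid (Φ E : Submodule F (ι → F))
    (h : Module.finrank F Φ + Module.finrank F E + 3 ≤ Fintype.card ι) :
    ∃ x ∈ perpD Φ, B x x = 0 ∧ x ∉ E := by
  obtain ⟨C, hC⟩ := E.exists_isCompl
  have h1 := Submodule.finrank_add_eq_of_isCompl hC
  have h2 := finrank_perpD_ge Φ
  have h3 := Submodule.finrank_sup_add_finrank_inf_eq C (perpD Φ)
  have h4 := Submodule.finrank_le (C ⊔ perpD Φ)
  rw [Module.finrank_fintype_fun_eq_card] at h4 h1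
  obtain ⟨x, hx, hx0, hxx⟩ := exists_sing_in hB (W := C ⊓ perpD Φ) (by omega)
  exact ⟨x, hx.2, hxx, fun hxE => hx0 (Submodule.disjoint_def.mp hC.disjoint x hxE hx.1)⟩

/-- A singular vector killed by given functionals but not by a further one. -/
lemma exists_sing (Φ : Submodule F (ι → F)) (h : 2 * Module.finrank F Φ + 3 ≤ Fintype.card ι) {φ : ι → F}
    (hφ : φ ∉ Φ) : ∃ x ∈ perpD Φ, B x x = 0 ∧ φ ⬝ᵥ x ≠ 0 := by
  have hle : Module.finrank F (Φ.comap (bvec B)) ≤ Module.finrank F Φ := by
    rw [(Submodule.equivMapOfInjective (bvec B) (bvec_injective hB) _).finrank_eq]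
    exact Submodule.finrank_mono (Submodule.map_comap_le _ _)
  obtain ⟨e, he, hee, hne⟩ := exists_sing_avoid hB Φ (Φ.comap (bvec B)) (by omega)
  rw [Submodule.mem_comap] at hne
  by_cases hφe : φ ⬝ᵥ e = 0
  swap; · exact ⟨e, he, hee, hφe⟩
  obtain ⟨s, hs1, hs2⟩ := exists_functional hφ
  obtain ⟨r, hr1, hr2⟩ := exists_functional hne
  have hs : s ∈ perpD Φ := fun ψ hψ => by rw [dotProduct_comm]; exact hs1 ψ hψ
  have hr : r ∈ perpD Φ := fun ψ hψ => by rw [dotProduct_comm]; exact hr1 ψ hψ
  rw [dotProduct_comm] at hs2 hr2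
  rw [bvec_dot] at hr2
  obtain ⟨t, ht, ht1, ht2⟩ : ∃ t ∈ perpD Φ, φ ⬝ᵥ t ≠ 0 ∧ B t e ≠ 0 := by
    by_cases h1 : φ ⬝ᵥ r ≠ 0
    · exact ⟨r, hr, h1, by rw [hr2]; exact one_ne_zero⟩
    by_cases h2 : B s e ≠ 0
    · exact ⟨s, hs, by rw [hs2]; exact one_ne_zero, h2⟩
    rw [not_not] at h1 h2
    exact ⟨s + r, (perpD Φ).add_mem hs hr, by rw [dotProduct_add, hs2, h1, add_zero]; exact one_ne_zero,
      by rw [map_add, LinearMap.add_apply, h2, hr2, zero_add]; exact one_ne_zero⟩
  obtain ⟨c, hc⟩ : ∃ c, c = -B t t / (2 * B t e) := ⟨_, rfl⟩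
  refine ⟨t + c • e, (perpD Φ).add_mem ht ((perpD Φ).smul_mem _ he), ?_, ?_⟩
  · simp only [map_add, map_smul, LinearMap.add_apply, LinearMap.smul_apply, smul_eq_mul, hee, hB.symm e t, hc]
    have := hB.two
    field_simp
    ring
  · rw [dotProduct_add, dotProduct_smul, hφe, smul_zero, add_zero]; exact ht1

/-- The singular vectors killed by few functionals span everything killed by them. -/
lemma perpD_le_span (Φ : Submodule F (ι → F)) (h : 2 * Module.finrank F Φ + 3 ≤ Fintype.card ι) :
    perpD Φ ≤ Submodule.span F {x | x ∈ perpD Φ ∧ B x x = 0} := by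
  intro v hv
  by_contra hvW
  obtain ⟨φ, hφ, hφv⟩ := exists_functional hvW
  have hφΦ : φ ∉ Φ := fun hm => by rw [hv φ hm] at hφv; exact zero_ne_one hφv
  obtain ⟨x, hx, hxx, hφx⟩ := exists_sing hB Φ h hφΦ
  exact hφx (hφ x (Submodule.subset_span ⟨hx, hxx⟩))

omit hB [Finite F] in
/-- The Siegel element of a totally singular pair. -/
noncomputable def oX (B : LinearMap.BilinForm F (ι → F)) (a b : ι → F) : GL ι F :=
  transv a (bvec B b) * transv b (-bvec B a)

omit [Finite F] in
lemma oX_mulVec {a b : ι → F} (hb : B b b = 0) (hab : B a b = 0) (x : ι → F) :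
    (oX B a b : Matrix ι ι F) *ᵥ x = x + B x b • a - B x a • b := by
  have hba : B b a = 0 := by rw [hB.symm, hab]
  rw [oX, mul_mulVec, transv_mulVec (by rw [bvec_dot, hab]),
    transv_mulVec (by rw [neg_dotProduct, bvec_dot, hba, neg_zero])]
  simp only [neg_dotProduct, bvec_dot, map_add, map_smul, LinearMap.add_apply, LinearMap.smul_apply, smul_eq_mul, hb]
  module

omit hB [Finite F] in
lemma oX_mem_specialLinear (a b : ι → F) : oX B a b ∈ Cfsg.Geo.specialLinear ι F :=
  (Cfsg.Geo.specialLinear ι F).mul_mem (transv_mem_specialLinear _ _) (transv_mem_specialLinear _ _)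

omit [Finite F] in
lemma oX_iso {a b : ι → F} (ha : B a a = 0) (hb : B b b = 0) (hab : B a b = 0) (x y : ι → F) :
    B ((oX B a b : Matrix ι ι F) *ᵥ x) ((oX B a b : Matrix ι ι F) *ᵥ y) = B x y := by
  have hba : B b a = 0 := by rw [hB.symm, hab]
  simp only [oX_mulVec hB hb hab, map_add, map_sub, map_smul, LinearMap.add_apply, LinearMap.sub_apply,
    LinearMap.smul_apply, smul_eq_mul, ha, hb, hab, hba, hB.symm a y, hB.symm b y]
  ring

omit [Finite F] in
lemma bvec_vecMul_inv {g : GL ι F}
    (hg : ∀ x y, B ((g : Matrix ι ι F) *ᵥ x) ((g : Matrix ι ι F) *ᵥ y) = B x y) (w : ι → F) :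
    bvec B w ᵥ* ((g⁻¹ : GL ι F) : Matrix ι ι F) = bvec B ((g : Matrix ι ι F) *ᵥ w) := by
  funext j
  have h : (bvec B w ᵥ* ((g⁻¹ : GL ι F) : Matrix ι ι F)) ⬝ᵥ Pi.single j 1 =
      bvec B ((g : Matrix ι ι F) *ᵥ w) ⬝ᵥ Pi.single j 1 := by
    rw [← dotProduct_mulVec, bvec_dot, bvec_dot, ← hg, mulVec_inv_cancel]
  simpa using h

/-- A relation invariant under the Siegel elements and subtractive in the first vector. -/
structure Rel (B : LinearMap.BilinForm F (ι → F)) (R : (ι → F) → (ι → F) → Prop) : Prop where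
  conj : ∀ {a b v z}, B a a = 0 → B b b = 0 → B a b = 0 → B v z = 0 → R v z →
    R ((oX B a b : Matrix ι ι F) *ᵥ v) ((oX B a b : Matrix ι ι F) *ᵥ z)
  sub : ∀ {v d z}, B v z = 0 → B d z = 0 → R (v + d) z → R v z → R d z

variable {R : (ι → F) → (ι → F) → Prop}

lemma rel_step (hR : Rel B R) (hn : 7 ≤ Fintype.card ι) {v z a : ι → F} (hvz : B v z = 0) (h : R v z)
    (ha : B a a = 0) (haz : B a z = 0) (hav : B a v = 0)
    (hind : v ∉ Submodule.span F ({z, a} : Set (ι → F))) : R a z := by
  obtain ⟨Φ, hΦ⟩ : ∃ Φ, Φ = Submodule.span F {x | x ∈ [bvec B z, bvec B a]} := ⟨_, rfl⟩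
  have hdim : Module.finrank F Φ ≤ 2 := hΦ ▸ finrank_span_list_le _
  have hv : bvec B v ∉ Φ := fun hm => hind (by
    have e : Φ = (Submodule.span F ({z, a} : Set (ι → F))).map (bvec B) := by
      rw [hΦ, Submodule.map_span]; congr 1; ext x; simp [Set.image_insert_eq]
    rw [e] at hm
    obtain ⟨y, hy, hyv⟩ := hm
    exact bvec_injective hB hyv ▸ hy)
  obtain ⟨b0, hb0, hbb, hbv⟩ := exists_sing hB Φ (by omega) hv
  rw [bvec_dot, hB.symm] at hbv
  have hb1 := hb0 (bvec B z) (hΦ ▸ Submodule.subset_span (by simp))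
  have hb2 := hb0 (bvec B a) (hΦ ▸ Submodule.subset_span (by simp))
  rw [bvec_dot] at hb1 hb2
  obtain ⟨b, hb⟩ : ∃ b, b = (B v b0)⁻¹ • b0 := ⟨_, rfl⟩
  have hvb : B v b = 1 := by rw [hb, map_smul, smul_eq_mul, inv_mul_cancel₀ hbv]
  have hbbb : B b b = 0 := by simp [hb, hbb]
  have hab : B a b = 0 := by rw [hb, map_smul, hB.symm a b0, hb2, smul_zero]
  have hzb : B z b = 0 := by rw [hb, map_smul, hB.symm z b0, hb1, smul_zero]
  have h1 := hR.conj ha hbbb hab hvz h
  rw [oX_mulVec hB hbbb hab, oX_mulVec hB hbbb hab, hvb, hB.symm v a, hav, hzb, hB.symm z a, haz, one_smul, zero_smul,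
    zero_smul, sub_zero, add_zero, sub_zero] at h1
  exact hR.sub hvz haz h1 h

lemma rel_all (hR : Rel B R) (hn : 13 ≤ Fintype.card ι) {v z : ι → F} (hvz : B v z = 0) (h : R v z)
    (hv : v ∉ Submodule.span F {z}) {a'' : ι → F} (ha : B a'' a'' = 0) (haz : B a'' z = 0) : R a'' z := by
  by_cases ha0 : a'' ∈ Submodule.span F {z}
  · -- reach a multiple of the second vector through an independent vector
    obtain ⟨a, haP, haa, haE⟩ := exists_sing_avoid hB (Submodule.span F {x | x ∈ [bvec B z, bvec B v]})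
      (Submodule.span F {x | x ∈ [z, v]}) (by
        have := finrank_span_list_le [bvec B z, bvec B v]
        have := finrank_span_list_le [z, v]
        simp at *
        omega)
    have h1 := haP (bvec B z) (Submodule.subset_span (by simp))
    have h2 := haP (bvec B v) (Submodule.subset_span (by simp))
    rw [bvec_dot] at h1 h2
    have hRa : R a z := rel_step hB hR (by omega) hvz h haa h1 h2 (fun hm => by
      obtain ⟨i, j, hij⟩ := Submodule.mem_span_pair.mp hm
      by_cases hj : j = 0
      · exact hv (Submodule.mem_span_singleton.mpr ⟨i, by rw [← hij, hj, zero_smul, add_zero]⟩)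
      · refine haE (show a ∈ Submodule.span F {x | x ∈ [z, v]} from ?_)
        have : a = j⁻¹ • v - (j⁻¹ * i) • z := by rw [← hij, smul_add, smul_smul, inv_smul_smul₀ hj]; abel
        rw [this]
        exact Submodule.sub_mem _ (Submodule.smul_mem _ _ (Submodule.subset_span (by simp)))
          (Submodule.smul_mem _ _ (Submodule.subset_span (by simp))))
    obtain ⟨k, hk⟩ := Submodule.mem_span_singleton.mp ha0
    refine rel_step hB hR (by omega) h1 hRa ha haz
      (by rw [← hk, map_smul, LinearMap.smul_apply, hB.symm z a, h1, smul_zero]) fun hm => haE ?_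
    obtain ⟨i, j, hij⟩ := Submodule.mem_span_pair.mp hm
    have : a = (i + j * k) • z := by rw [← hij, ← hk, add_smul, mul_smul]
    rw [this]
    exact Submodule.smul_mem _ _ (Submodule.subset_span (by simp))
  obtain ⟨a, haP, haa, haE⟩ := exists_sing_avoid hB
    (Submodule.span F {x | x ∈ [bvec B z, bvec B v, bvec B a'']}) (Submodule.span F {x | x ∈ [z, v, a'']}) (by
      have := finrank_span_list_le [bvec B z, bvec B v, bvec B a'']
      have := finrank_span_list_le [z, v, a'']
      simp at *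
      omega)
  have h1 := haP (bvec B z) (Submodule.subset_span (by simp))
  have h2 := haP (bvec B v) (Submodule.subset_span (by simp))
  have h3 := haP (bvec B a'') (Submodule.subset_span (by simp))
  rw [bvec_dot] at h1 h2 h3
  have hRa : R a z := rel_step hB hR (by omega) hvz h haa h1 h2 (fun hm => by
    obtain ⟨i, j, hij⟩ := Submodule.mem_span_pair.mp hm
    by_cases hj : j = 0
    · exact hv (Submodule.mem_span_singleton.mpr ⟨i, by rw [← hij, hj, zero_smul, add_zero]⟩)
    · refine haE ?_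
      have : a = j⁻¹ • v - (j⁻¹ * i) • z := by rw [← hij, smul_add, smul_smul, inv_smul_smul₀ hj]; abel
      rw [this]
      exact Submodule.sub_mem _ (Submodule.smul_mem _ _ (Submodule.subset_span (by simp)))
        (Submodule.smul_mem _ _ (Submodule.subset_span (by simp))))
  refine rel_step hB hR (by omega) h1 hRa ha haz (by rw [hB.symm]; exact h3) fun hm => haE ?_
  obtain ⟨i, j, hij⟩ := Submodule.mem_span_pair.mp hm
  rw [← hij]
  exact Submodule.add_mem _ (Submodule.smul_mem _ _ (Submodule.subset_span (by simp)))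
    (Submodule.smul_mem _ _ (Submodule.subset_span (by simp)))

variable {M : Subgroup (GL ι F)}
  (hX : ∀ a b, B a a = 0 → B b b = 0 → B a b = 0 → oX B a b ∈ M)
include hX

lemma rel_centre : Rel B (fun v z => transv v (bvec B z) ∈ M) where
  conj := by
    intro a b v z ha hb hab hvz h
    have h1 := M.mul_mem (M.mul_mem (hX a b ha hb hab) h) (M.inv_mem (hX a b ha hb hab))
    rwa [conj_transv _ (by rw [bvec_dot, hvz]), bvec_vecMul_inv hB (oX_iso hB ha hb hab)] at h1
  sub := by
    intro v d z hvz hdz h1 h2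
    have h3 := M.mul_mem (M.inv_mem h2) h1
    rwa [← transv_add_left (by rw [bvec_dot, hvz]) (by rw [bvec_dot, hdz]), inv_mul_cancel_left] at h3

lemma rel_axis : Rel B (fun z v => transv v (bvec B z) ∈ M) where
  conj := by
    intro a b z v ha hb hab hvz h
    rw [hB.symm] at hvz
    exact (rel_centre hB hX).conj ha hb hab hvz h
  sub := by
    intro z d v hzv hdv h1 h2
    have h3 := M.mul_mem (M.inv_mem h2) h1
    rwa [map_add, ← transv_mul (by rw [bvec_dot, hB.symm, hzv]) (by rw [bvec_dot, hB.symm, hdv]),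
      inv_mul_cancel_left] at h3

/-- One transvection with a singular axis generates all of them. -/
theorem all_transv (hn : 13 ≤ Fintype.card ι) {v0 z0 : ι → F} (hz0ne : z0 ≠ 0) (hvz : B v0 z0 = 0)
    (hv0 : v0 ∉ Submodule.span F {z0}) (h : transv v0 (bvec B z0) ∈ M) :
    ∀ v φ : ι → F, φ ⬝ᵥ v = 0 → transv v φ ∈ M := by
  have hc := rel_centre hB hX
  have ha := rel_axis hB hX
  -- singular centre and singular axis
  have hss : ∀ z x, B z z = 0 → B x x = 0 → B x z = 0 → transv x (bvec B z) ∈ M := by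
    intro z x hz hx hxz
    obtain ⟨y, hyP, hyy, hyE⟩ := exists_sing_avoid hB (Submodule.span F {w | w ∈ [bvec B z0, bvec B z]})
      (Submodule.span F {w | w ∈ [z0, z]}) (by
        have := finrank_span_list_le [bvec B z0, bvec B z]
        have := finrank_span_list_le [z0, z]
        simp at *
        omega)
    have h1 := hyP (bvec B z0) (Submodule.subset_span (by simp))
    have h2 := hyP (bvec B z) (Submodule.subset_span (by simp))
    rw [bvec_dot] at h1 h2
    have k1 : transv y (bvec B z0) ∈ M := rel_all hB hc hn hvz h hv0 hyy h1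
    by_cases hz00 : z0 ∈ Submodule.span F {y}
    · exfalso
      obtain ⟨k, hk⟩ := Submodule.mem_span_singleton.mp hz00
      by_cases hk0 : k = 0
      · rw [hk0, zero_smul] at hk
        exact hz0ne hk.symm
      · exact hyE (by
          have : y = k⁻¹ • z0 := by rw [← hk, inv_smul_smul₀ hk0]
          rw [this]; exact Submodule.smul_mem _ _ (Submodule.subset_span (by simp)))
    have k2 : transv y (bvec B z) ∈ M := rel_all hB ha hn (by rw [hB.symm, h1]) k1 hz00 hz (by rw [hB.symm, h2])
    exact rel_all hB hc hn h2 k2 (fun hm => hyE (Submodule.span_mono (by simp) hm)) hx hxz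
  -- arbitrary centre
  have hsc : ∀ z, B z z = 0 → ∀ x, B x z = 0 → ∀ c : F, transv (c • x) (bvec B z) ∈ M := by
    intro z hz x hxz
    have hx : x ∈ perpD (Submodule.span F {w | w ∈ [bvec B z]}) :=
      perpD_span_le fun φ hφ => by simp at hφ; rw [hφ, bvec_dot, hxz]
    have hx2 := perpD_le_span hB _ (by have := finrank_span_list_le [bvec B z]; simp at *; omega) hx
    refine (Submodule.span_induction (p := fun y _ => B y z = 0 ∧ ∀ c : F, transv (c • y) (bvec B z) ∈ M)
      ?_ ?_ ?_ ?_ hx2).2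
    · rintro y ⟨hy, hyy⟩
      have hyz : B y z = 0 := by rw [← bvec_dot]; exact hy _ (Submodule.subset_span (by simp))
      exact ⟨hyz, fun c => hss z _ hz (by simp [hyy]) (by simp [hyz])⟩
    · exact ⟨by simp, fun c => by
        have := hss z 0 hz (by simp) (by simp)
        simpa using this⟩
    · intro y y' _ _ hy hy'
      refine ⟨by simp [hy.1, hy'.1], fun c => ?_⟩
      rw [smul_add, ← transv_add_left (by rw [bvec_dot]; simp [hy.1]) (by rw [bvec_dot]; simp [hy'.1])]
      exact M.mul_mem (hy.2 c) (hy'.2 c)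
    · intro a y _ hy
      exact ⟨by simp [hy.1], fun c => by rw [smul_smul]; exact hy.2 _⟩
  intro v φ hφ
  have hφ' : φ ∈ perpD (Submodule.span F {w | w ∈ [v]}) := perpD_span_le fun w hw => by
    simp at hw; rw [hw, dotProduct_comm, hφ]
  -- express the axis by singular vectors
  obtain ⟨z, rfl⟩ : ∃ z, bvec B z = φ :=
    (Finite.injective_iff_surjective.mp (bvec_injective hB)) φ
  have hz : z ∈ perpD (Submodule.span F {w | w ∈ [bvec B v]}) :=
    perpD_span_le fun w hw => by simp at hw; rw [hw, bvec_dot, hB.symm, ← bvec_dot, hφ]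
  have hz2 := perpD_le_span hB _ (by have := finrank_span_list_le [bvec B v]; simp at *; omega) hz
  have key : B v z = 0 ∧ ∀ c : F, transv v (bvec B (c • z)) ∈ M := by
    refine Submodule.span_induction (p := fun y _ => B v y = 0 ∧ ∀ c : F, transv v (bvec B (c • y)) ∈ M)
      ?_ ?_ ?_ ?_ hz2
    · rintro y ⟨hy, hyy⟩
      have hvy : B v y = 0 := by rw [hB.symm, ← bvec_dot]; exact hy _ (Submodule.subset_span (by simp))
      exact ⟨hvy, fun c => by
        have := hsc (c • y) (by simp [hyy]) v (by simp [hvy]) 1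
        rwa [one_smul] at this⟩
    · exact ⟨by simp, fun c => by rw [smul_zero, map_zero, transv_zero]; exact M.one_mem⟩
    · intro y y' _ _ hy hy'
      refine ⟨by simp [hy.1, hy'.1], fun c => ?_⟩
      rw [smul_add, map_add, ← transv_mul (by rw [bvec_dot]; simp [hy.1]) (by rw [bvec_dot]; simp [hy'.1])]
      exact M.mul_mem (hy.2 c) (hy'.2 c)
    · intro a y _ hy
      exact ⟨by simp [hy.1], fun c => by rw [smul_smul]; exact hy.2 _⟩
  have := key.2 1
  rwa [one_smul] at this

/-- The Siegel elements of two non-proportional forms give a transvection. -/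
theorem exists_transv (hn : 13 ≤ Fintype.card ι) {B' : LinearMap.BilinForm F (ι → F)} (hB' : IsSymForm B')
    (hX' : ∀ a b, B' a a = 0 → B' b b = 0 → B' a b = 0 → oX B' a b ∈ M)
    (hne : ∀ l : F, ∃ x, bvec B' x ≠ l • bvec B x) :
    ∃ v z : ι → F, z ≠ 0 ∧ B v z = 0 ∧ v ∉ Submodule.span F {z} ∧ transv v (bvec B z) ∈ M := by
  classical
  -- a singular vector moved by the second form
  obtain ⟨w, hww, hw⟩ : ∃ w, B w w = 0 ∧ bvec B' w ∉ Submodule.span F {bvec B w} := by
    by_contra hcon
    simp only [not_exists, not_and, not_not] at hcon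
    have hbot : 2 * Module.finrank F (⊥ : Submodule F (ι → F)) + 3 ≤ Fintype.card ι := by rw [finrank_bot]; omega
    have hlam : ∀ x, B x x = 0 → ∃ l : F, l • bvec B x = bvec B' x := fun x hx =>
      Submodule.mem_span_singleton.mp (hcon x hx)
    choose lam hlam using hlam
    have heq : ∀ a ha b hb, B a b ≠ 0 → lam a ha = lam b hb := by
      intro a ha b hb hab
      have h1 : B' b a = lam a ha * B b a := by rw [← bvec_dot, ← hlam a ha, smul_dotProduct, bvec_dot, smul_eq_mul]
      have h2 : B' a b = lam b hb * B a b := by rw [← bvec_dot, ← hlam b hb, smul_dotProduct, bvec_dot, smul_eq_mul]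
      rw [hB'.symm, hB.symm b a, h2] at h1
      exact (mul_right_cancel₀ hab h1).symm
    obtain ⟨a, -, haa, ha0⟩ := exists_sing_avoid hB ⊥ ⊥ (by rw [finrank_bot]; omega)
    rw [Submodule.mem_bot] at ha0
    obtain ⟨c, -, hcc, hac⟩ := exists_sing hB ⊥ hbot (φ := bvec B a) (fun hm => ha0 (bvec_injective hB (by
      rw [(Submodule.mem_bot F).mp hm, map_zero])))
    rw [bvec_dot, hB.symm] at hac
    obtain ⟨x, hx⟩ := hne (lam a haa)
    refine hx ?_
    have hall : ∀ b, B b b = 0 → bvec B' b = lam a haa • bvec B b := by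
      intro b hbb
      by_cases h0 : b = 0
      · simp [h0]
      by_cases hba : B b a = 0
      swap
      · rw [← hlam b hbb, heq b hbb a haa hba]
      by_cases hbc : B b c = 0
      swap
      · rw [← hlam b hbb, heq b hbb c hcc hbc, heq a haa c hcc hac]
      have hs : B (a + b) (a + b) = 0 := by simp [haa, hbb, hba, hB.symm a b]
      have hsc : B (a + b) c ≠ 0 := by simp [hbc, hac]
      have h1 := hlam (a + b) hs
      rw [heq (a + b) hs c hcc hsc, ← heq a haa c hcc hac, map_add, map_add, smul_add, hlam a haa] at h1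
      exact (add_left_cancel h1).symm
    have hspan := perpD_le_span hB ⊥ hbot (x := x) (fun φ hφ => by rw [(Submodule.mem_bot F).mp hφ, zero_dotProduct])
    refine Submodule.span_induction (p := fun y _ => bvec B' y = lam a haa • bvec B y) ?_ ?_ ?_ ?_ hspan
    · exact fun y hy => hall y hy.2
    · simp
    · intro y y' _ _ hy hy'; rw [map_add, map_add, hy, hy', smul_add]
    · intro k y _ hy; rw [map_smul, map_smul, hy, smul_comm]
  obtain ⟨z, hz, hz1⟩ := exists_functional hw
  have hzw : B z w = 0 := by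
    rw [← bvec_dot, dotProduct_comm]; exact hz _ (Submodule.mem_span_singleton_self _)
  obtain ⟨u, huP, huu, hu0⟩ := exists_sing_avoid hB
    (Submodule.span F {x | x ∈ [bvec B w, bvec B z, bvec B' z]}) ⊥ (by
      have := finrank_span_list_le [bvec B w, bvec B z, bvec B' z]
      simp at *
      omega)
  rw [Submodule.mem_bot] at hu0
  have huw := huP (bvec B w) (Submodule.subset_span (by simp))
  have huz := huP (bvec B z) (Submodule.subset_span (by simp))
  have huz' := huP (bvec B' z) (Submodule.subset_span (by simp))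
  rw [bvec_dot] at huw huz huz'
  obtain ⟨Φ, hΦ⟩ : ∃ Φ, Φ = Submodule.span F {x | x ∈ [bvec B u, bvec B w, bvec B' u]} := ⟨_, rfl⟩
  have hwΦ : bvec B' w ∉ Φ := by
    intro hm
    have : z ∈ perpD Φ := by
      rw [hΦ]
      refine perpD_span_le fun φ hφ => ?_
      simp at hφ
      rcases hφ with rfl | rfl | rfl <;> rw [bvec_dot]
      · rw [hB.symm, huz]
      · exact hzw
      · rw [hB'.symm, huz']
    have h1 := this _ hm
    rw [dotProduct_comm, hz1] at h1
    exact one_ne_zero h1
  obtain ⟨Φ0, hΦ0⟩ : ∃ Φ0, Φ0 = Φ ⊔ Submodule.span F {bvec B' w} := ⟨_, rfl⟩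
  have hd0 : Module.finrank F Φ0 ≤ 4 := by
    rw [hΦ0]
    refine (Submodule.finrank_add_le_finrank_add_finrank _ _).trans ?_
    have h1 : Module.finrank F Φ ≤ 3 := hΦ ▸ finrank_span_list_le _
    have h2 := finrank_span_one_le (bvec B' w)
    omega
  have hdE : Module.finrank F ↥(Φ0.comap (bvec B') ⊔ Submodule.span F {u}) ≤ 5 := by
    refine (Submodule.finrank_add_le_finrank_add_finrank _ _).trans ?_
    rw [finrank_span_singleton hu0, (Submodule.equivMapOfInjective (bvec B') (bvec_injective hB') _).finrank_eq]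
    have := Submodule.finrank_mono (Submodule.map_comap_le (bvec B') Φ0)
    omega
  obtain ⟨v, hvP, hvv, hvE⟩ := exists_sing_avoid hB' Φ0 (Φ0.comap (bvec B') ⊔ Submodule.span F {u}) (by omega)
  have hφ : bvec B' w ∉ Φ ⊔ Submodule.span F {bvec B' v} := by
    intro hm
    obtain ⟨p, hp, r, hr, hpr⟩ := Submodule.mem_sup.mp hm
    obtain ⟨c, rfl⟩ := Submodule.mem_span_singleton.mp hr
    by_cases hc : c = 0
    · rw [hc, zero_smul, add_zero] at hpr; exact hwΦ (hpr ▸ hp)
    · refine hvE (Submodule.mem_sup_left ?_)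
      rw [Submodule.mem_comap, show bvec B' v = c⁻¹ • (bvec B' w - p) by
        rw [← hpr, add_sub_cancel_left, inv_smul_smul₀ hc], hΦ0]
      exact Submodule.smul_mem _ _ (Submodule.sub_mem _ (Submodule.mem_sup_right (Submodule.mem_span_singleton_self _))
        (Submodule.mem_sup_left hp))
  obtain ⟨w0, hw0P, hw0s, hw0⟩ := exists_sing hB' (Φ ⊔ Submodule.span F {bvec B' v}) (by
    have h1 : Module.finrank F Φ ≤ 3 := hΦ ▸ finrank_span_list_le _
    have h2 := Submodule.finrank_add_le_finrank_add_finrank Φ (Submodule.span F {bvec B' v})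
    have h3 := finrank_span_one_le (bvec B' v)
    omega) hφ
  rw [bvec_dot, hB'.symm] at hw0
  obtain ⟨w', hw'⟩ : ∃ w', w' = (B' w w0)⁻¹ • w0 := ⟨_, rfl⟩
  have hin : ∀ φ ∈ [bvec B u, bvec B w, bvec B' u], φ ∈ Φ := fun φ hφ => hΦ ▸ Submodule.subset_span hφ
  have hkill : ∀ x, (x = v ∨ x = w') → B x u = 0 ∧ B x w = 0 ∧ B' x u = 0 := by
    intro x hx
    have hxP : x ∈ perpD Φ := by
      rcases hx with rfl | rfl
      · exact fun φ hφ => hvP φ (hΦ0 ▸ Submodule.mem_sup_left hφ)
      · rw [hw']; exact (perpD Φ).smul_mem _ fun φ hφ => hw0P φ (Submodule.mem_sup_left hφ)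
    exact ⟨by rw [← bvec_dot]; exact hxP _ (hin _ (by simp)), by rw [← bvec_dot]; exact hxP _ (hin _ (by simp)),
      by rw [← bvec_dot]; exact hxP _ (hin _ (by simp))⟩
  obtain ⟨hvu, hvw, hvu'⟩ := hkill v (Or.inl rfl)
  obtain ⟨hw'u, hw'w, hw'u'⟩ := hkill w' (Or.inr rfl)
  have hvw' : B' v w = 0 := by
    rw [← bvec_dot]; exact hvP _ (hΦ0 ▸ Submodule.mem_sup_right (Submodule.mem_span_singleton_self _))
  have hw'w' : B' w w' = 1 := by rw [hw', map_smul, smul_eq_mul, inv_mul_cancel₀ hw0]
  have hw's : B' w' w' = 0 := by simp [hw', hw0s]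
  have hvv' : B' v w' = 0 := by
    rw [hw', map_smul, hB'.symm v w0, ← bvec_dot B' v w0,
      hw0P _ (Submodule.mem_sup_right (Submodule.mem_span_singleton_self _)), smul_zero]
  refine ⟨v, -u, by simp [hu0], by simp [hvu], fun hm => hvE (Submodule.mem_sup_right ?_), ?_⟩
  · obtain ⟨k, hk⟩ := Submodule.mem_span_singleton.mp hm
    exact Submodule.mem_span_singleton.mpr ⟨-k, by rw [← hk, neg_smul, smul_neg]⟩
  have h1 := hX u w huu hww huw
  have h2 := hX' v w' hvv hw's hvv'
  have e : oX B' v w' * oX B u w = oX B u w * oX B' v w' * transv v (bvec B (-u)) := by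
    refine gl_ext fun x => ?_
    simp only [mul_mulVec, oX_mulVec hB hww huw, oX_mulVec hB' hw's hvv',
      map_neg, transv_mulVec (v := v) (φ := -bvec B u) (by rw [neg_dotProduct, bvec_dot, hvu, neg_zero]), neg_dotProduct, bvec_dot,
      map_add, map_sub, map_smul, LinearMap.add_apply, LinearMap.sub_apply, LinearMap.smul_apply, smul_eq_mul,
      hvu, hvw, hw'u, hw'w, hvv, hvv', hB'.symm u v, hvu', hB'.symm u w', hw'u', hB'.symm w v, hvw', hw'w']
    module
  have h3 := M.mul_mem (M.inv_mem (M.mul_mem h1 h2)) (M.mul_mem h2 h1)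
  rwa [e, inv_mul_cancel_left] at h3

end CfsgLib.Transvec.OrthOverSL
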