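/-
Overgroups of `SO(B)` in `SL(ι, F)` in dimension at least six, by Eichler elements.
-/
import Cfsg.Agent.Lib.Transvec.OrthOverSL
import Mathlib.FieldTheory.ChevalleyWarning

set_option autoImplicit false
set_option linter.all false

namespace CfsgLib.Transvec.OrthOverSLEich

open Matrix CfsgLib.Transvec CfsgLib.Transvec.OrthOverSL
open scoped MatrixGroups

variable {ι : Type} [Fintype ι] [DecidableEq ι] {F : Type*} [Field F]
  {B : LinearMap.BilinForm F (ι → F)}

/-- An Eichler element. -/
noncomputable def eX (B : LinearMap.BilinForm F (ι → F)) (a w : ι → F) : GL ι F :=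
  transv a (bvec B (w + (B w w / 2) • a)) * transv w (-bvec B a)

section Basic

variable (hB : IsSymForm B) {a w : ι → F} (ha : B a a = 0) (hw : B a w = 0)
include hB ha hw

lemma eX_mulVec (x : ι → F) :
    (eX B a w : Matrix ι ι F) *ᵥ x = x + (B x w - B w w / 2 * B x a) • a - B x a • w := by
  have h1 : bvec B (w + (B w w / 2) • a) ⬝ᵥ a = 0 := by
    rw [bvec_dot, map_add, map_smul, hw, ha, smul_zero, add_zero]
  have h2 : (-bvec B a) ⬝ᵥ w = 0 := by rw [neg_dotProduct, bvec_dot, hB.symm, hw, neg_zero]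
  have h3 := hB.two
  rw [eX, mul_mulVec, transv_mulVec h1, transv_mulVec h2]
  simp only [neg_dotProduct, add_dotProduct, smul_dotProduct, bvec_dot, map_add, map_smul, LinearMap.add_apply,
    LinearMap.smul_apply, smul_eq_mul, hB.symm w a, hw]
  match_scalars <;> field_simp <;> ring

lemma eX_iso (x y : ι → F) : B ((eX B a w : Matrix ι ι F) *ᵥ x) ((eX B a w : Matrix ι ι F) *ᵥ y) = B x y := by
  have h3 := hB.two
  simp only [eX_mulVec hB ha hw, map_add, map_sub, map_smul, LinearMap.add_apply, LinearMap.sub_apply,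
    LinearMap.smul_apply, smul_eq_mul, ha, hw, hB.symm w a, hB.symm a y, hB.symm w y]
  field_simp
  ring

lemma eX_fix {x : ι → F} (h1 : B x a = 0) (h2 : B x w = 0) : (eX B a w : Matrix ι ι F) *ᵥ x = x := by
  rw [eX_mulVec hB ha hw, h1, h2]
  simp

omit hB ha hw in
lemma eX_mem_specialLinear : eX B a w ∈ Cfsg.Geo.specialLinear ι F :=
  (Cfsg.Geo.specialLinear ι F).mul_mem (transv_mem_specialLinear _ _) (transv_mem_specialLinear _ _)

end Basic

section Geometry

variable (hB : IsSymForm B)
include hB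

lemma bvec_surjective (φ : ι → F) : ∃ z, bvec B z = φ :=
  LinearMap.surjective_of_injective (bvec_injective hB) φ

/-- A vector with prescribed products against a short list. -/
lemma exists_form (u : ι → F) (E : Submodule F (ι → F)) (hu : u ∉ E) :
    ∃ x, (∀ e ∈ E, B x e = 0) ∧ B x u = 1 := by
  have hu' : bvec B u ∉ E.map (bvec B) := fun ⟨y, hy, hyu⟩ => hu (bvec_injective hB hyu ▸ hy)
  obtain ⟨x, hx, hx1⟩ := exists_functional hu'
  refine ⟨x, fun e he => ?_, ?_⟩
  · rw [← bvec_dot, dotProduct_comm]; exact hx _ (Submodule.mem_map_of_mem he)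
  · rw [← bvec_dot, dotProduct_comm]; exact hx1

lemma exists_orth (l : List (ι → F)) :
    ∃ W : Submodule F (ι → F), (∀ x, x ∈ W ↔ ∀ e ∈ l, B x e = 0) ∧ Fintype.card ι ≤ Module.finrank F W + l.length := by
  refine ⟨perpD (Submodule.span F {x | x ∈ l.map (bvec B)}), fun x => ⟨fun h e he => ?_, fun h => ?_⟩, ?_⟩
  · rw [← bvec_dot]; exact h _ (Submodule.subset_span (List.mem_map_of_mem he))
  · refine perpD_span_le fun φ hφ => ?_
    obtain ⟨e, he, rfl⟩ := List.mem_map.mp hφ
    rw [bvec_dot]; exact h e he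
  · have h1 := finrank_perpD_ge (Submodule.span F {x | x ∈ l.map (bvec B)})
    have h2 := finrank_span_list_le (l.map (bvec B))
    rw [List.length_map] at h2
    omega

/-- A subspace on which the form vanishes on the diagonal is self-orthogonal. -/
lemma totally_singular {W : Submodule F (ι → F)} (h : ∀ x ∈ W, B x x = 0) {x y : ι → F} (hx : x ∈ W) (hy : y ∈ W) :
    B x y = 0 := by
  have h1 := h _ (W.add_mem hx hy)
  simp only [map_add, LinearMap.add_apply, h x hx, h y hy, hB.symm y x] at h1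
  have : (2 : F) * B x y = 0 := by linear_combination h1
  exact (mul_eq_zero.mp this).resolve_left hB.two

/-- A large subspace has a non-singular vector. -/
lemma exists_nonsing {W : Submodule F (ι → F)} (hW : Fintype.card ι < 2 * Module.finrank F W) :
    ∃ x ∈ W, B x x ≠ 0 := by
  by_contra hcon
  simp only [not_exists, not_and, not_not] at hcon
  have hle : W.map (bvec B) ≤ (dotProductEquiv F ι).toLinearMap.range.comap (dotProductEquiv F ι).toLinearMap := by
    intro x _; simp
  have h2 : W ≤ perpD (W.map (bvec B)) := by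
    intro x hx φ hφ
    obtain ⟨y, hy, rfl⟩ := hφ
    rw [bvec_dot]
    exact totally_singular hB hcon hx hy
  let T : (ι → F) →ₗ[F] Module.Dual F (W.map (bvec B)) :=
    (Module.Dual.transpose (W.map (bvec B)).subtype) ∘ₗ (dotProductEquiv F ι).toLinearMap
  have hT : Function.Surjective T := by
    intro ψ
    obtain ⟨ψ', hψ'⟩ := LinearMap.exists_extend ψ
    refine ⟨(dotProductEquiv F ι).symm ψ', ?_⟩
    simpa [T, Module.Dual.transpose_apply] using hψ'
  have hker : W ≤ LinearMap.ker T := fun x hx => LinearMap.mem_ker.mpr (LinearMap.ext fun φ => by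
    show (dotProductEquiv F ι) x (φ : ι → F) = 0
    rw [dotProductEquiv_apply_apply, dotProduct_comm]
    exact h2 hx _ φ.2)
  have h3 := LinearMap.finrank_range_add_finrank_ker T
  rw [LinearMap.range_eq_top.mpr hT, finrank_top, Subspace.dual_finrank_eq, Module.finrank_fintype_fun_eq_card,
    ← (Submodule.equivMapOfInjective (bvec B) (bvec_injective hB) W).finrank_eq] at h3
  have h4 := Submodule.finrank_mono hker
  omega

end Geometry

/-- Pairs closed under the Eichler elements and under addition in the first vector. -/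
structure Rel (B : LinearMap.BilinForm F (ι → F)) (R : (ι → F) → (ι → F) → Prop) : Prop where
  orth : ∀ {v z}, R v z → B v z = 0
  conj : ∀ {a w v z}, B a a = 0 → B a w = 0 → R v z →
    R ((eX B a w : Matrix ι ι F) *ᵥ v) ((eX B a w : Matrix ι ι F) *ᵥ z)
  add : ∀ {v d z}, R v z → R d z → R (v + d) z
  sub : ∀ {v d z}, B d z = 0 → R (v + d) z → R v z → R d z

variable (hB : IsSymForm B) [Finite F] (hn : 6 ≤ Fintype.card ι)
include hB hn

variable {R : (ι → F) → (ι → F) → Prop}

lemma rel_move (hR : Rel B R) {v z p w : ι → F} (h : R v z) (hp : B p p = 0) (hw : B p w = 0)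
    (hpz : B p z = 0) (hwz : B w z = 0) : R ((B v w - B w w / 2 * B v p) • p - B v p • w) z := by
  have h1 := hR.conj hp hw h
  rw [eX_fix hB hp hw (x := z) (by rw [hB.symm, hpz]) (by rw [hB.symm, hwz]), eX_mulVec hB hp hw v] at h1
  refine hR.sub (by simp [hpz, hwz]) ?_ h
  rwa [show v + (((B v w - B w w / 2 * B v p) • p) - B v p • w) = v + (B v w - B w w / 2 * B v p) • p - B v p • w by
    abel]

/-- An anisotropic second vector takes every first vector orthogonal to it. -/
lemma rel_nonsing (hR : Rel B R) {v z : ι → F} (hzz : B z z ≠ 0) (hv : v ≠ 0) (h : R v z) :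
    ∀ u, B u z = 0 → R u z := by
  have hz0 : z ≠ 0 := fun e => hzz (by simp [e])
  -- all multiples of a singular vector
  have step : ∀ s p, R s z → B s s = 0 → B p p = 0 → B p z = 0 → B s p = 0 → p ∉ Submodule.span F {s} → s ≠ 0 →
      ∀ k : F, R (k • p) z := by
    intro s p hs hss hpp hpz hsp hind hs0 k
    have hnot : s ∉ Submodule.span F ({p, z} : Set (ι → F)) := by
      intro hm
      obtain ⟨i, j, hij⟩ := Submodule.mem_span_pair.mp hm
      have h1 : B s z = 0 := hR.orth hs
      rw [← hij] at h1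
      simp only [map_add, map_smul, LinearMap.add_apply, LinearMap.smul_apply, smul_eq_mul, hpz, mul_zero, zero_add,
        mul_eq_zero, hzz, or_false] at h1
      rw [h1, zero_smul, add_zero] at hij
      have hi : i ≠ 0 := fun e => hs0 (by rw [← hij, e, zero_smul])
      exact hind (Submodule.mem_span_singleton.mpr ⟨i⁻¹, by rw [← hij, inv_smul_smul₀ hi]⟩)
    obtain ⟨w, hw, hw1⟩ := exists_form hB s _ hnot
    have hwp : B p (k • w) = 0 := by
      rw [map_smul, hB.symm, hw p (Submodule.subset_span (by simp)), smul_zero]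
    have hwz : B (k • w) z = 0 := by
      rw [map_smul, LinearMap.smul_apply, hw z (Submodule.subset_span (by simp)), smul_zero]
    have h2 := rel_move hB hn hR hs hpp hwp hpz hwz
    rw [hsp, map_smul, hB.symm, hw1, zero_smul, sub_zero, mul_zero, sub_zero, smul_eq_mul, mul_one] at h2
    exact h2
  -- a singular vector of the class
  obtain ⟨s, hs0, hss, hs⟩ : ∃ s, s ≠ 0 ∧ B s s = 0 ∧ R s z := by
    by_cases hvv : B v v = 0
    · exact ⟨v, hv, hvv, h⟩
    obtain ⟨W, hW, hdim⟩ := exists_orth hB [z, v]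
    simp at hdim
    obtain ⟨p, hp, hp0, hpp⟩ := exists_sing_in hB (W := W) (by omega)
    rw [hW] at hp
    have hpz := hp z (by simp)
    have hpv := hp v (by simp)
    have hnot : v ∉ Submodule.span F ({p, z} : Set (ι → F)) := by
      intro hm
      obtain ⟨i, j, hij⟩ := Submodule.mem_span_pair.mp hm
      apply hvv
      conv_lhs => arg 2; rw [← hij]
      simp [hpp, hpv, hB.symm v p, hR.orth h]
    obtain ⟨w, hw, hw1⟩ := exists_form hB v _ hnot
    have h2 := rel_move hB hn hR h hpp (w := w) (by rw [hB.symm, hw p (Submodule.subset_span (by simp))]) hpz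
      (hw z (Submodule.subset_span (by simp)))
    rw [hB.symm v p, hpv, hB.symm v w, hw1, zero_smul, sub_zero, mul_zero, sub_zero, one_smul] at h2
    exact ⟨p, hp0, hpp, h2⟩
  -- a second singular vector not orthogonal to it
  obtain ⟨t, htz, htt, hst⟩ : ∃ t, B t z = 0 ∧ B t t = 0 ∧ B s t ≠ 0 := by
    obtain ⟨x, hx, hx1⟩ := exists_form hB s (Submodule.span F {z}) (fun hm => by
      obtain ⟨j, rfl⟩ := Submodule.mem_span_singleton.mp hm
      have := hR.orth hs
      simp [hzz] at this
      exact hs0 (by rw [this, zero_smul]))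
    refine ⟨x - (B x x / 2) • s, ?_, ?_, ?_⟩
    · simp [hx z (Submodule.mem_span_singleton_self z), hR.orth hs]
    · have := hB.two
      simp [hss, hB.symm s x, hx1]
      field_simp
      ring
    · simp [hss, hB.symm s x, hx1]
  have ht0 : t ≠ 0 := fun e => hst (by simp [e])
  -- one intermediate vector
  have two : ∀ a b, R a z → a ≠ 0 → B a a = 0 → B b b = 0 → B b z = 0 → B a b ≠ 0 → ∀ k : F, R (k • b) z := by
    intro a b ha ha0 haa hbb hbz hab k
    obtain ⟨W, hW, hdim⟩ := exists_orth hB [z, a, b]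
    simp at hdim
    obtain ⟨r, hr, hr0, hrr⟩ := exists_sing_in hB (W := W) (by omega)
    rw [hW] at hr
    have hra : r ∉ Submodule.span F {a} := fun hm => by
      obtain ⟨j, rfl⟩ := Submodule.mem_span_singleton.mp hm
      have := hr b (by simp)
      simp [hab] at this
      exact hr0 (by rw [this, zero_smul])
    have h1 := step a r ha haa hrr (hr z (by simp)) (by rw [hB.symm]; exact hr a (by simp)) hra ha0 1
    rw [one_smul] at h1
    refine step r b h1 hrr hbb hbz (hr b (by simp)) (fun hm => ?_) hr0 k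
    obtain ⟨j, rfl⟩ := Submodule.mem_span_singleton.mp hm
    exact hab (by simp [hB.symm a r, hr a (by simp)])
  have hts := two s t hs hs0 hss htt htz hst
  have ht1 : R t z := by simpa using hts 1
  have hsk := two t s ht1 ht0 htt hss (hR.orth hs) (by rw [hB.symm]; exact hst)
  have hall : ∀ b, B b b = 0 → B b z = 0 → R b z := by
    intro b hbb hbz
    by_cases h1 : B s b = 0
    swap; · simpa using two s b hs hs0 hss hbb hbz h1 1
    by_cases hb : b ∈ Submodule.span F {s}
    · obtain ⟨k, rfl⟩ := Submodule.mem_span_singleton.mp hb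
      exact hsk k
    simpa using step s b hs hss hbb hbz h1 hb hs0 1
  intro u hu
  by_cases huu : B u u = 0
  · exact hall u huu hu
  obtain ⟨r, hr, hrr, hur⟩ : ∃ r, B r z = 0 ∧ B r r = 0 ∧ B u r ≠ 0 := by
    by_contra hcon
    simp only [not_exists, not_and, not_not] at hcon
    have h1 := hcon s (hR.orth hs) hss
    have hnot : u ∉ Submodule.span F ({s, z} : Set (ι → F)) := by
      intro hm
      obtain ⟨i, j, hij⟩ := Submodule.mem_span_pair.mp hm
      rw [← hij] at hu huu
      simp [hR.orth hs, hzz] at hu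
      exact huu (by simp [hu, hss])
    obtain ⟨x, hx, hx1⟩ := exists_form hB u _ hnot
    have hxz := hx z (Submodule.subset_span (by simp))
    have hxs := hx s (Submodule.subset_span (by simp))
    obtain ⟨x', hx'⟩ : ∃ x', x' = x + (B s t)⁻¹ • (t - (B x t) • s) := ⟨_, rfl⟩
    have e1 : B x' s = 1 := by
      simp [hx', hxs, hss, hB.symm t s]
      field_simp
    have h2 := hcon (x' - (B x' x' / 2) • s) (by simp [hx', hxz, htz, hR.orth hs]) (by
      have := hB.two
      simp [hss, hB.symm s x', e1]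
      field_simp
      ring)
    have ht' := hcon t htz htt
    simp [hx', h1, ht', hB.symm u x, hx1] at h2
  obtain ⟨c, hc⟩ : ∃ c, c = -B u u / (2 * B u r) := ⟨_, rfl⟩
  have hu' : B (u + c • r) (u + c • r) = 0 := by
    have := hB.two
    simp [hrr, hB.symm r u, hc]
    field_simp
    ring
  have h3 := hR.add (hall (u + c • r) hu' (by simp [hu, hr])) (hall ((-c) • r) (by simp [hrr]) (by simp [hr]))
  rwa [neg_smul, add_neg_cancel_right] at h3

variable {M : Subgroup (GL ι F)} (hE : ∀ a w, B a a = 0 → B a w = 0 → eX B a w ∈ M)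
include hE

lemma rel_centre : Rel B (fun v z => B v z = 0 ∧ transv v (bvec B z) ∈ M) where
  orth h := h.1
  conj := by
    intro a w v z ha hw h
    refine ⟨by rw [eX_iso hB ha hw]; exact h.1, ?_⟩
    have h1 := M.mul_mem (M.mul_mem (hE a w ha hw) h.2) (M.inv_mem (hE a w ha hw))
    rwa [conj_transv _ (by rw [bvec_dot, h.1]), bvec_vecMul_inv hB (eX_iso hB ha hw)] at h1
  add := by
    intro v d z h1 h2
    refine ⟨by simp [h1.1, h2.1], ?_⟩
    rw [← transv_add_left (by rw [bvec_dot, h1.1]) (by rw [bvec_dot, h2.1])]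
    exact M.mul_mem h1.2 h2.2
  sub := by
    intro v d z hdz h1 h2
    refine ⟨hdz, ?_⟩
    have h3 := M.mul_mem (M.inv_mem h2.2) h1.2
    rwa [← transv_add_left (by rw [bvec_dot, h2.1]) (by rw [bvec_dot, hdz]), inv_mul_cancel_left] at h3

lemma rel_axis : Rel B (fun z v => B v z = 0 ∧ transv v (bvec B z) ∈ M) where
  orth h := by rw [hB.symm]; exact h.1
  conj := fun ha hw h => (rel_centre hB hn hE).conj ha hw h
  add := by
    intro z d v h1 h2
    refine ⟨by simp [h1.1, h2.1], ?_⟩
    rw [map_add, ← transv_mul (by rw [bvec_dot, h1.1]) (by rw [bvec_dot, h2.1])]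
    exact M.mul_mem h1.2 h2.2
  sub := by
    intro z d v hdv h1 h2
    rw [hB.symm] at hdv
    refine ⟨hdv, ?_⟩
    have h3 := M.mul_mem (M.inv_mem h2.2) h1.2
    rwa [map_add, ← transv_mul (by rw [bvec_dot, h2.1]) (by rw [bvec_dot, hdv]), inv_mul_cancel_left] at h3

/-- One transvection gives all of them. -/
theorem all_transv {v0 z0 : ι → F} (hv0 : v0 ≠ 0) (hz0 : z0 ≠ 0) (hvz : B v0 z0 = 0)
    (h : transv v0 (bvec B z0) ∈ M) : ∀ v φ : ι → F, φ ⬝ᵥ v = 0 → transv v φ ∈ M := by
  have hc := rel_centre hB hn hE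
  have ha := rel_axis hB hn hE
  have h2 := hB.two
  -- an anisotropic axis
  obtain ⟨v, z, hv, hzz, hvz', hm⟩ : ∃ v z, v ≠ 0 ∧ B z z ≠ 0 ∧ B v z = 0 ∧ transv v (bvec B z) ∈ M := by
    by_cases hzz : B z0 z0 = 0
    swap; · exact ⟨v0, z0, hv0, hzz, hvz, h⟩
    by_cases hvv : B v0 v0 = 0
    swap
    · obtain ⟨W, hW, hdim⟩ := exists_orth hB [v0]
      simp at hdim
      obtain ⟨z, hz, hzz'⟩ := exists_nonsing hB (W := W) (by omega)
      rw [hW] at hz
      have hzv := hz v0 (by simp)
      exact ⟨v0, z, hv0, hzz', by rw [hB.symm]; exact hzv,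
        (rel_nonsing hB hn ha hvv hz0 ⟨hvz, h⟩ z hzv).2⟩
    by_cases hdep : z0 ∈ Submodule.span F {v0}
    · obtain ⟨c, rfl⟩ := Submodule.mem_span_singleton.mp hdep
      have hc0 : c ≠ 0 := fun e => hz0 (by rw [e, zero_smul])
      obtain ⟨x, -, hx1⟩ := exists_form hB v0 ⊥ (fun hm => hv0 ((Submodule.mem_bot F).mp hm))
      obtain ⟨p, hp⟩ : ∃ p, p = x - (B x x / 2) • v0 := ⟨_, rfl⟩
      have hpp : B p p = 0 := by
        simp [hp, hvv, hB.symm v0 x, hx1]
        field_simp
        ring
      have hpv : B p v0 = 1 := by simp [hp, hvv, hx1]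
      obtain ⟨W, hW, hdim⟩ := exists_orth hB [p, v0]
      simp at hdim
      obtain ⟨w, hw, hww⟩ := exists_nonsing hB (W := W) (by omega)
      rw [hW] at hw
      have hwp := hw p (by simp)
      have hwv := hw v0 (by simp)
      have hpw : B p w = 0 := by rw [hB.symm, hwp]
      obtain ⟨v1, hv1⟩ : ∃ v1, v1 = (eX B p w : Matrix ι ι F) *ᵥ v0 := ⟨_, rfl⟩
      have h1 := (hc.conj hpp hpw ⟨hvz, h⟩).2
      rw [mulVec_smul, ← hv1] at h1
      have hv11 : B v1 v1 = 0 := by rw [hv1, eX_iso hB hpp hpw, hvv]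
      obtain ⟨k, hk⟩ : ∃ k, k = B v1 v0 := ⟨_, rfl⟩
      have hk0 : k ≠ 0 := by
        rw [hk, hv1, eX_mulVec hB hpp hpw]
        simp [hvv, hpv, hwv, hB.symm v0 w, hB.symm v0 p, hww, h2]
      have hd : (c • bvec B v0) ⬝ᵥ v0 = 0 := by simp [bvec_dot, hvv]
      rw [map_smul] at h h1
      have h3 := M.mul_mem (M.mul_mem h h1) (M.inv_mem h)
      rw [conj_transv _ (by simp [bvec_dot, hv11])] at h3
      have e1 : (transv v0 (c • bvec B v0) : Matrix ι ι F) *ᵥ v1 = v1 + (c * k) • v0 := by
        rw [transv_mulVec hd, smul_dotProduct, bvec_dot, ← hk, smul_eq_mul]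
      have e2 : (c • bvec B v1) ᵥ* (((transv v0 (c • bvec B v0))⁻¹ : GL ι F) : Matrix ι ι F) =
          bvec B (c • (v1 - (c * k) • v0)) := by
        have h4 : bvec B v1 ⬝ᵥ v0 = k := by rw [bvec_dot, hB.symm, hk]
        rw [transv_inv hd, transv_val (by rw [neg_dotProduct, hd, neg_zero]), vecMul_add, vecMul_one, vecMul_vecMulVec,
          smul_dotProduct, h4, map_smul, map_sub, map_smul]
        module
      rw [e1, e2] at h3
      refine ⟨_, _, fun e => hk0 ?_, ?_, ?_, h3⟩
      · have := congrArg (fun y => B y v0) e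
        simpa [← hk, hvv] using this
      · simp [hv11, hvv, hB.symm v0 v1, ← hk]
        ring_nf
        refine ⟨hc0, ?_⟩
        exact neg_ne_zero.mpr (mul_ne_zero (mul_ne_zero hc0 (pow_ne_zero 2 hk0)) h2)
      · simp [hv11, hvv, hB.symm v0 v1, ← hk]
    · obtain ⟨x, hx, hx1⟩ := exists_form hB z0 (Submodule.span F {v0}) hdep
      have hxv := hx v0 (Submodule.mem_span_singleton_self v0)
      obtain ⟨p, hp⟩ : ∃ p, p = x - (B x x / 2) • z0 := ⟨_, rfl⟩
      have hpp : B p p = 0 := by
        simp [hp, hzz, hB.symm z0 x, hx1]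
        field_simp
        ring
      have hpv : B p v0 = 0 := by simp [hp, hxv, hB.symm z0 v0, hvz]
      have hzp : B z0 p = 1 := by simp [hp, hzz, hB.symm z0 x, hx1]
      obtain ⟨W, hW, hdim⟩ := exists_orth hB [z0, p, v0]
      simp at hdim
      obtain ⟨w, hw, hww⟩ : ∃ w ∈ W, B w w ≠ 0 := by
        by_contra hcon
        simp only [not_exists, not_and, not_not] at hcon
        have hle : W.map (bvec B) ≤ Submodule.span F {x | x ∈ [bvec B z0, bvec B p, bvec B v0]} := by
          rintro _ ⟨y, hy, rfl⟩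
          by_contra hnot
          obtain ⟨r, hr, hr1⟩ := exists_functional hnot
          have hrW : r ∈ W := (hW r).mpr fun e he => by
            rw [← bvec_dot, dotProduct_comm]
            refine hr _ (Submodule.subset_span ?_)
            simp at he ⊢
            rcases he with rfl | rfl | rfl <;> simp
          rw [dotProduct_comm, bvec_dot, totally_singular hB hcon hrW hy] at hr1
          exact zero_ne_one hr1
        have hfr := finrank_span_list_le [bvec B z0, bvec B p, bvec B v0]
        have heq := Submodule.eq_of_le_of_finrank_le hle (by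
          rw [← (Submodule.equivMapOfInjective (bvec B) (bvec_injective hB) W).finrank_eq]
          simp at hfr
          omega)
        have hz : bvec B z0 ∈ W.map (bvec B) := by rw [heq]; exact Submodule.subset_span (by simp)
        obtain ⟨y, hy, hyz⟩ := hz
        have := (hW y).mp hy p (by simp)
        rw [bvec_injective hB hyz, hzp] at this
        exact one_ne_zero this
      rw [hW] at hw
      have hwz := hw z0 (by simp)
      have hwp := hw p (by simp)
      have hwv := hw v0 (by simp)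
      have hpw : B p w = 0 := by rw [hB.symm, hwp]
      have h1 := ha.conj hpp hpw (z := v0) (v := z0) ⟨hvz, h⟩
      rw [eX_fix hB hpp hpw (x := v0) (by rw [hB.symm, hpv]) (by rw [hB.symm, hwv]), eX_mulVec hB hpp hpw, hzp,
        hB.symm z0 w, hwz, add_sub_assoc] at h1
      have h4 := ha.sub (by simp [hpv, hwv]) h1 ⟨hvz, h⟩
      refine ⟨v0, _, hv0, ?_, h4.1, h4.2⟩
      simp [hpp, hpw, hwp, hww]
  -- all centres for every anisotropic axis
  have hz : ∀ u, B u z = 0 → transv u (bvec B z) ∈ M := fun u hu => (rel_nonsing hB hn hc hzz hv ⟨hvz', hm⟩ u hu).2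
  have hns : ∀ y, B y y ≠ 0 → ∀ u, B u y = 0 → transv u (bvec B y) ∈ M := by
    intro y hyy u hu
    obtain ⟨W, hW, hdim⟩ := exists_orth hB [z, y]
    simp at hdim
    obtain ⟨r, hr, hrr⟩ := exists_nonsing hB (W := W) (by omega)
    rw [hW] at hr
    have hrz := hr z (by simp)
    have hry := hr y (by simp)
    have hr0 : r ≠ 0 := fun e => hrr (by simp [e])
    have h1 := rel_nonsing hB hn ha hrr (v := z) (z := r) (fun e => hzz (by simp [e])) ⟨hrz, hz r hrz⟩ y
      (by rw [hB.symm, hry])
    exact (rel_nonsing hB hn hc hyy hr0 h1 u hu).2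
  intro v φ hφ
  obtain ⟨y, rfl⟩ := bvec_surjective hB φ
  rw [bvec_dot] at hφ
  by_cases hyy : B y y = 0
  swap; · exact hns y hyy v hφ
  obtain ⟨W, hW, hdim⟩ := exists_orth hB [v]
  simp at hdim
  obtain ⟨r, hr, hrr⟩ := exists_nonsing hB (W := W) (by omega)
  rw [hW] at hr
  have hvr : B v r = 0 := by rw [hB.symm]; exact hr v (by simp)
  obtain ⟨r', hr', hrr', hsum⟩ : ∃ r', B v r' = 0 ∧ B r' r' ≠ 0 ∧ B (y - r') (y - r') ≠ 0 := by
    by_cases e : B (y - r) (y - r) = 0
    · refine ⟨-r, by simp [hvr], by simpa using hrr, fun e' => hrr ?_⟩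
      simp [hyy, hB.symm r y] at e e'
      have : (2 : F) * B r r = 0 := by linear_combination e + e'
      exact (mul_eq_zero.mp this).resolve_left h2
    · exact ⟨r, hvr, hrr, e⟩
  have h1 := hns r' hrr' v hr'
  have h2' := hns (y - r') hsum v (by simp [hφ, hr'])
  have h3 := M.mul_mem h1 h2'
  rwa [transv_mul (by rw [bvec_dot, hr']) (by rw [bvec_dot]; simp [hφ, hr']), ← map_add, add_sub_cancel] at h3

omit hE

/-- A common singular vector of two forms. -/
lemma exists_common_zero (B' : LinearMap.BilinForm F (ι → F)) : ∃ u : ι → F, u ≠ 0 ∧ B u u = 0 ∧ B' u u = 0 := by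
  classical
  haveI := Fintype.ofFinite F
  obtain ⟨p, hp⟩ := CharP.exists F
  haveI := hp
  haveI hpp : Fact p.Prime := ⟨CharP.char_is_prime F p⟩
  let P : LinearMap.BilinForm F (ι → F) → MvPolynomial ι F := fun C =>
    ∑ i, ∑ j, MvPolynomial.C (C (Pi.single i 1) (Pi.single j 1)) * MvPolynomial.X i * MvPolynomial.X j
  have heval : ∀ C x, MvPolynomial.eval x (P C) = C x x := by
    intro C x
    have hx : ∀ x : ι → F, x = ∑ i, x i • (Pi.single i 1 : ι → F) := fun x => by
      funext j; simp [Finset.sum_apply, Pi.single_apply]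
    conv_rhs => rw [hx x]
    simp only [P, map_sum, map_mul, MvPolynomial.eval_C, MvPolynomial.eval_X, map_smul, LinearMap.sum_apply,
      LinearMap.smul_apply, smul_eq_mul, Finset.mul_sum]
    rw [Finset.sum_comm]
    exact Finset.sum_congr rfl fun i _ => Finset.sum_congr rfl fun j _ => by ring
  have hdeg : ∀ C, (P C).totalDegree ≤ 2 := fun C =>
    MvPolynomial.totalDegree_finsetSum_le fun i _ => MvPolynomial.totalDegree_finsetSum_le fun j _ =>
      (MvPolynomial.totalDegree_mul _ _).trans (by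
        have h1 := MvPolynomial.totalDegree_mul (MvPolynomial.C (C (Pi.single i 1) (Pi.single j 1))) (MvPolynomial.X i)
        rw [MvPolynomial.totalDegree_C, MvPolynomial.totalDegree_X] at h1
        rw [MvPolynomial.totalDegree_X]
        omega)
  have h := char_dvd_card_solutions_of_add_lt p (f₁ := P B) (f₂ := P B') (σ := ι) (by
    have := hdeg B; have := hdeg B'; omega)
  have h0 : MvPolynomial.eval 0 (P B) = 0 ∧ MvPolynomial.eval 0 (P B') = 0 := by
    constructor <;> rw [heval] <;> simp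
  have hpos : 0 < Fintype.card {x : ι → F // MvPolynomial.eval x (P B) = 0 ∧ MvPolynomial.eval x (P B') = 0} :=
    Fintype.card_pos_iff.mpr ⟨⟨0, h0⟩⟩
  have h2 := Nat.le_of_dvd hpos h
  obtain ⟨⟨u, hu⟩, hu0⟩ := Fintype.exists_ne_of_one_lt_card (lt_of_lt_of_le hpp.out.one_lt h2) ⟨0, h0⟩
  exact ⟨u, fun e => hu0 (Subtype.ext e), by rw [← heval]; exact hu.1, by rw [← heval]; exact hu.2⟩

/-- The Eichler elements of two non-proportional forms give a transvection. -/
theorem exists_transv {B' : LinearMap.BilinForm F (ι → F)} (hB' : IsSymForm B') {M : Subgroup (GL ι F)}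
    (hE : ∀ a w, B a a = 0 → B a w = 0 → eX B a w ∈ M)
    (hE' : ∀ a w, B' a a = 0 → B' a w = 0 → eX B' a w ∈ M)
    (hne : ∀ l : F, ∃ x, bvec B' x ≠ l • bvec B x) :
    ∃ v z : ι → F, v ≠ 0 ∧ z ≠ 0 ∧ B v z = 0 ∧ transv v (bvec B z) ∈ M := by
  -- the commutator
  have key : ∀ u y w w' : ι → F, B u u = 0 → B' u u = 0 → bvec B y = bvec B' u → B u w = 0 → B' u w = 0 →
      B u w' = 0 → B' u w' = 0 → transv u (bvec B ((-B w' w) • y + B' w w' • u)) ∈ M := by
    intro u y w w' hu hu' hy huw huw' huv huv'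
    have hy' : ∀ x, B x y = B' x u := fun x => by rw [← bvec_dot, hy, bvec_dot]
    have hd : bvec B ((-B w' w) • y + B' w w' • u) ⬝ᵥ u = 0 := by simp [bvec_dot, hy', hu, hu']
    have e : eX B u w * eX B' u w' = eX B' u w' * eX B u w * transv u (bvec B ((-B w' w) • y + B' w w' • u)) := by
      refine gl_ext fun x => ?_
      rw [mul_mulVec, mul_mulVec, mul_mulVec, transv_mulVec hd, bvec_dot]
      simp only [eX_mulVec hB hu huw, eX_mulVec hB' hu' huv', map_add, map_sub,
        map_smul, LinearMap.add_apply, LinearMap.sub_apply, LinearMap.smul_apply, smul_eq_mul, hy', hu, hu', huw, huw',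
        huv, huv', hB.symm w u, hB.symm w' u, hB'.symm w u, hB'.symm w' u]
      match_scalars <;> ring
    have h1 := hE u w hu huw
    have h2 := hE' u w' hu' huv'
    have h3 := M.mul_mem (M.inv_mem (M.mul_mem h2 h1)) (M.mul_mem h1 h2)
    rwa [e, inv_mul_cancel_left] at h3
  obtain ⟨u, hu0, hu, hu'⟩ := exists_common_zero hB hn B'
  obtain ⟨y, hy⟩ := bvec_surjective hB (bvec B' u)
  have hy' : ∀ x, B x y = B' x u := fun x => by rw [← bvec_dot, hy, bvec_dot]
  by_cases hdep : y ∈ Submodule.span F {u}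
  swap
  · obtain ⟨W, hW, hdim⟩ := exists_orth hB [u, y]
    simp at hdim
    obtain ⟨w, hw, hww⟩ := exists_nonsing hB (W := W) (by omega)
    rw [hW] at hw
    have huw : B u w = 0 := by rw [hB.symm]; exact hw u (by simp)
    have huw' : B' u w = 0 := by rw [hB'.symm, ← hy']; exact hw y (by simp)
    refine ⟨u, _, hu0, fun e0 => hdep (Submodule.mem_span_singleton.mpr ⟨B' w w / B w w, ?_⟩), ?_,
      key u y w w hu hu' hy huw huw' huw huw'⟩
    · have e1 : B w w • y = B' w w • u := by
        rw [neg_smul] at e0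
        exact (neg_add_eq_zero.mp e0)
      rw [div_eq_mul_inv, mul_comm, mul_smul, ← e1, inv_smul_smul₀ hww]
    · simp [hy', hu, hu']
  obtain ⟨l, rfl⟩ := Submodule.mem_span_singleton.mp hdep
  have fin : ∀ u : ι → F, u ≠ 0 → B u u = 0 → bvec B' u = l • bvec B u →
      (∃ w w', B u w = 0 ∧ B u w' = 0 ∧ B' w w' ≠ l * B w' w) →
      ∃ v z : ι → F, v ≠ 0 ∧ z ≠ 0 ∧ B v z = 0 ∧ transv v (bvec B z) ∈ M := by
    intro u hu0 hu hlu ⟨w, w', hw, hw', hne'⟩
    have hB'u : ∀ x, B' u x = l * B u x := fun x => by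
      rw [hB'.symm, ← bvec_dot, hlu, smul_dotProduct, bvec_dot, smul_eq_mul, hB.symm]
    refine ⟨u, _, hu0, fun e0 => hne' ?_, ?_, key u (l • u) w w' hu (by rw [hB'u, hu, mul_zero])
      (by rw [map_smul, hlu]) hw (by rw [hB'u, hw, mul_zero]) hw' (by rw [hB'u, hw', mul_zero])⟩
    · rw [smul_smul, ← add_smul, smul_eq_zero, or_iff_left hu0] at e0
      linear_combination e0
    · simp [hu]
  rw [map_smul] at hy
  by_cases hex : ∃ w w', B u w = 0 ∧ B u w' = 0 ∧ B' w w' ≠ l * B w' w
  · exact fin u hu0 hu hy.symm hex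
  -- the difference of the forms lives on one functional
  simp only [not_exists, not_and, not_not] at hex
  obtain ⟨e, -, he⟩ := exists_form hB u ⊥ (fun hm => hu0 ((Submodule.mem_bot F).mp hm))
  have hB'u : ∀ x, B' u x = l * B u x := fun x => by
    rw [hB'.symm, ← bvec_dot, ← hy, smul_dotProduct, bvec_dot, smul_eq_mul, hB.symm]
  obtain ⟨ye, hye⟩ := bvec_surjective hB (bvec B' e)
  obtain ⟨d, hd⟩ : ∃ d, d = ye - l • e := ⟨_, rfl⟩
  have hBd : ∀ x, B x d = B' x e - l * B x e := fun x => by
    rw [hd, map_sub, map_smul, smul_eq_mul, ← bvec_dot B ye x, hye, bvec_dot]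
  obtain ⟨c, hc⟩ : ∃ c, c = B e d := ⟨_, rfl⟩
  have hud : B u d = 0 := by rw [hBd, hB'u, sub_self]
  -- the difference on all pairs
  have hD : ∀ x z, B' x z - l * B x z = B x u * B z d + B z u * B x d - B x u * B z u * c := by
    intro x z
    obtain ⟨r, hr⟩ : ∃ r, r = x - B x u • e := ⟨_, rfl⟩
    obtain ⟨s, hs⟩ : ∃ s, s = z - B z u • e := ⟨_, rfl⟩
    have hru : B u r = 0 := by simp [hr, hB.symm u x, hB.symm u e, he]
    have hsu : B u s = 0 := by simp [hs, hB.symm u z, hB.symm u e, he]
    have h0 := hex r s hru hsu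
    have e1 := hBd x
    have e2 := hBd z
    have e3 := hBd e
    rw [← hc] at e3
    simp only [hr, hs, map_sub, map_smul, LinearMap.sub_apply, LinearMap.smul_apply, smul_eq_mul, hB.symm z x,
      hB.symm e x, hB.symm e z, hB'.symm e z] at h0 e1 e2
    linear_combination h0 - (B z u) * e1 - B x u * e2 + B x u * B z u * e3
  -- a new common singular vector
  have fin' : ∀ x, x ≠ 0 → B x x = 0 → B x u = 0 → B x d = 0 →
      (∃ w, B x w = 0 ∧ B w u = 1 ∧ 2 * B w d ≠ c) →
      ∃ v z : ι → F, v ≠ 0 ∧ z ≠ 0 ∧ B v z = 0 ∧ transv v (bvec B z) ∈ M := by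
    intro x hx0 hxx hxu hxd ⟨w, hxw, hwu, hwd⟩
    refine fin x hx0 hxx ?_ ⟨w, w, hxw, hxw, fun e0 => hwd ?_⟩
    · funext i
      have h1 := hD (Pi.single i 1) x
      rw [hxu, hxd] at h1
      simp only [Pi.smul_apply, smul_eq_mul]
      show B' (Pi.single i 1) x = l * B (Pi.single i 1) x
      linear_combination h1
    · have h1 := hD w w
      rw [e0, hwu, sub_self] at h1
      linear_combination -h1
  have h2 := hB.two
  by_cases hdd : B d d = 0 ∧ d ∉ Submodule.span F {u}
  · obtain ⟨hdd, hdu⟩ := hdd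
    obtain ⟨k, hk⟩ : ∃ k, k = -(c + 1) / 2 := ⟨_, rfl⟩
    have hnot : u ∉ Submodule.span F {d} := fun hm => by
      obtain ⟨j, hj⟩ := Submodule.mem_span_singleton.mp hm
      have hj0 : j ≠ 0 := fun e0 => hu0 (by rw [← hj, e0, zero_smul])
      exact hdu (Submodule.mem_span_singleton.mpr ⟨j⁻¹, by rw [← hj, inv_smul_smul₀ hj0]⟩)
    have hnot' : d ∉ Submodule.span F {u} := hdu
    obtain ⟨w1, hw1, hw1u⟩ := exists_form hB u _ hnot
    obtain ⟨w2, hw2, hw2d⟩ := exists_form hB d _ hnot'
    have a1 := hw1 d (Submodule.mem_span_singleton_self d)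
    have a2 := hw2 u (Submodule.mem_span_singleton_self u)
    refine fin' (d + k • u) (fun e0 => hdu ?_) (by simp [hdd, hu, hB.symm d u, hud])
      (by simp [hu, hB.symm d u, hud]) (by simp [hdd, hud]) ⟨w1 + (-k) • w2, ?_, ?_, ?_⟩
    · exact Submodule.mem_span_singleton.mpr ⟨-k, by rw [neg_smul, eq_neg_of_add_eq_zero_left e0]⟩
    · simp [hB.symm d w1, hB.symm d w2, hB.symm u w1, hB.symm u w2, a1, a2, hw1u, hw2d]
    · simp [a2, hw1u]
    · simp [a1, hw2d, hk]
      intro e0
      field_simp at e0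
      exact one_ne_zero (α := F) (by linear_combination e0)
  obtain ⟨x, hxP, hxx, hxu⟩ := exists_sing_avoid hB (Submodule.span F {z | z ∈ [bvec B u, bvec B d]})
    (Submodule.span F {u}) (by
      have h3 := finrank_span_list_le [bvec B u, bvec B d]
      simp at h3
      rw [finrank_span_singleton hu0]
      omega)
  have hxu0 : B x u = 0 := by rw [← bvec_dot]; exact hxP _ (Submodule.subset_span (by simp))
  have hxd0 : B x d = 0 := by rw [← bvec_dot]; exact hxP _ (Submodule.subset_span (by simp))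
  have hx0 : x ≠ 0 := fun e0 => hxu (e0 ▸ Submodule.zero_mem _)
  refine fin' x hx0 hxx hxu0 hxd0 ?_
  by_cases hdu : d ∈ Submodule.span F {u}
  · obtain ⟨k, hk⟩ := Submodule.mem_span_singleton.mp hdu
    obtain ⟨w, hw, hwu⟩ := exists_form hB u (Submodule.span F {x}) (fun hm => hxu (by
      obtain ⟨j, hj⟩ := Submodule.mem_span_singleton.mp hm
      have hj0 : j ≠ 0 := fun e0 => hu0 (by rw [← hj, e0, zero_smul])
      exact Submodule.mem_span_singleton.mpr ⟨j⁻¹, by rw [← hj, inv_smul_smul₀ hj0]⟩))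
    refine ⟨w, by rw [hB.symm]; exact hw x (Submodule.mem_span_singleton_self x), hwu, ?_⟩
    have hck : c = k := by simp [hc, ← hk, he]
    rw [← hk, map_smul, hwu, hck, smul_eq_mul, mul_one]
    intro e0
    have hk0 : k = 0 := by linear_combination e0
    obtain ⟨z, hz⟩ := hne l
    refine hz (funext fun i => ?_)
    have h1 := hD (Pi.single i 1) z
    rw [hck, ← hk, hk0] at h1
    simp at h1
    simp only [Pi.smul_apply, smul_eq_mul]
    show B' (Pi.single i 1) z = l * B (Pi.single i 1) z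
    linear_combination h1
  have hd0 : B d d ≠ 0 := fun e0 => hdd ⟨e0, hdu⟩
  have hn1 : u ∉ Submodule.span F ({x, d} : Set (ι → F)) := fun hm => by
    obtain ⟨i, j, hij⟩ := Submodule.mem_span_pair.mp hm
    have h3 : B u d = 0 := hud
    rw [← hij] at h3
    simp [hxd0, hd0] at h3
    rw [h3, zero_smul, add_zero] at hij
    have hi : i ≠ 0 := fun e0 => hu0 (by rw [← hij, e0, zero_smul])
    exact hxu (Submodule.mem_span_singleton.mpr ⟨i⁻¹, by rw [← hij, inv_smul_smul₀ hi]⟩)
  have hn2 : d ∉ Submodule.span F ({x, u} : Set (ι → F)) := fun hm => by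
    obtain ⟨i, j, hij⟩ := Submodule.mem_span_pair.mp hm
    refine hd0 ?_
    rw [← hij]
    simp [hxx, hxu0, hu, hB.symm u x]
  obtain ⟨w1, hw1, hw1u⟩ := exists_form hB u _ hn1
  obtain ⟨w2, hw2, hw2d⟩ := exists_form hB d _ hn2
  obtain ⟨k, hk⟩ : ∃ k, k = (c + 1) / 2 := ⟨_, rfl⟩
  refine ⟨w1 + k • w2, ?_, ?_, ?_⟩
  · simp [hB.symm x w1, hB.symm x w2, hw1 x (Submodule.subset_span (by simp)), hw2 x (Submodule.subset_span (by simp))]
  · simp [hw1u, hw2 u (Submodule.subset_span (by simp))]
  · simp [hw1 d (Submodule.subset_span (by simp)), hw2d, hk]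
    intro e0
    field_simp at e0
    exact one_ne_zero (α := F) (by linear_combination e0)

end CfsgLib.Transvec.OrthOverSLEich
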