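/-
Subgroups of a unitary group containing the stabiliser of a pair of complementary totally isotropic subspaces.
-/
import Cfsg.Agent.Lib.Transvec.UnitarySub

set_option autoImplicit false

namespace CfsgLib.Transvec.Unitary

open Matrix CfsgLib.Transvec
open scoped MatrixGroups

variable {ι : Type} [Fintype ι] [DecidableEq ι] {F : Type*} [Field F] {σ : F ≃+* F}
  {f : (ι → F) → (ι → F) → F}

/-- For orthogonal isotropic `a`, `b`: the map `x ↦ x + μ f(x,b) a - σ μ f(x,a) b`. -/
noncomputable def uX (σ : F ≃+* F) (f : (ι → F) → (ι → F) → F) (a b : ι → F) (μ : F) : GL ι F :=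
  transv a (μ • uvec f b) * transv b ((-σ μ) • uvec f a)

variable (hf : Cfsg.Geo.IsUnitaryForm σ f)
include hf

lemma uX_mulVec {a b : ι → F} (hb : f b b = 0) (hab : f a b = 0) (μ : F) (x : ι → F) :
    (uX σ f a b μ : Matrix ι ι F) *ᵥ x = x + (μ * f x b) • a - (σ μ * f x a) • b := by
  have hba : f b a = 0 := (eq_zero_comm hf).mp hab
  rw [uX, mul_mulVec, transv_mulVec (by rw [smul_dotProduct, uvec_dot hf, hab, smul_zero]),
    transv_mulVec (by rw [smul_dotProduct, uvec_dot hf, hba, smul_zero])]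
  simp only [smul_dotProduct, uvec_dot hf, smul_eq_mul, hf.add_left, hf.smul_left, hb]
  module

lemma iso_uX {a b : ι → F} (ha : f a a = 0) (hb : f b b = 0) (hab : f a b = 0) (μ : F) :
    Iso f (uX σ f a b μ) := fun x y => by
  have hba : f b a = 0 := (eq_zero_comm hf).mp hab
  simp only [uX_mulVec hf hb hab, sub_eq_add_neg, ← neg_smul, hf.add_left, add_right' hf, hf.smul_left,
    smul_right' hf, ha, hb, hab, hba, map_mul, map_neg, hf.involutive]
  rw [← hf.herm b y, ← hf.herm a y]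
  ring

lemma conj_uX {g : GL ι F} (hg : Iso f g) {a b : ι → F} (hab : f a b = 0) (μ : F) :
    g * uX σ f a b μ * g⁻¹ = uX σ f ((g : Matrix ι ι F) *ᵥ a) ((g : Matrix ι ι F) *ᵥ b) μ := by
  have hba : f b a = 0 := (eq_zero_comm hf).mp hab
  have h1 : (μ • uvec f b) ⬝ᵥ a = 0 := by rw [smul_dotProduct, uvec_dot hf, hab, smul_zero]
  have h2 : ((-σ μ) • uvec f a) ⬝ᵥ b = 0 := by rw [smul_dotProduct, uvec_dot hf, hba, smul_zero]
  rw [uX, uX, show g * (transv a (μ • uvec f b) * transv b ((-σ μ) • uvec f a)) * g⁻¹ =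
    (g * transv a (μ • uvec f b) * g⁻¹) * (g * transv b ((-σ μ) • uvec f a) * g⁻¹) by group,
    conj_transv _ h1, conj_transv _ h2, smul_vecMul, smul_vecMul, uvec_vecMul_inv hf hg, uvec_vecMul_inv hf hg]

lemma uX_comm {a b : ι → F} (ha : f a a = 0) (hb : f b b = 0) (hab : f a b = 0) (μ : F) :
    uX σ f b a μ = uX σ f a b (-σ μ) := gl_ext fun x => by
  rw [uX_mulVec hf hb hab, uX_mulVec hf ha ((eq_zero_comm hf).mp hab), map_neg, hf.involutive]
  module

/-- Two root elements with a common first vector generate a transvection. -/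
lemma uX_commutator {u w w' : ι → F} (hu : f u u = 0) (hw : f w w = 0) (hw' : f w' w' = 0) (huw : f u w = 0)
    (huw' : f u w' = 0) (μ ν : F) :
    uX σ f u w μ * uX σ f u w' ν = uX σ f u w' ν * uX σ f u w μ *
      uT f u (ν * σ μ * f w w' - μ * σ ν * f w' w) := gl_ext fun x => by
  have hwu : f w u = 0 := (eq_zero_comm hf).mp huw
  have hw'u : f w' u = 0 := (eq_zero_comm hf).mp huw'
  simp only [mul_mulVec, uX_mulVec hf hw huw, uX_mulVec hf hw' huw', uT_mulVec hf hu, hf.add_left, sub_left' hf,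
    hf.smul_left, hu, huw, huw', hwu, hw'u]
  module

variable [Finite F]

lemma exists_sub_conj {c : F} (hc : c + σ c = 0) : ∃ a, a - σ a = c := by
  obtain ⟨e, he⟩ := exists_trace_eq hf.ne_refl hf.involutive (map_one σ)
  exact ⟨c * e, by rw [map_mul]; linear_combination c * he - σ e * hc⟩

/-- The data of two complementary totally isotropic halves. -/
structure Halves (σ : F ≃+* F) (f : (ι → F) → (ι → F) → F) (M : Subgroup (GL ι F))
    (A B : Submodule F (ι → F)) (pA pB : (ι → F) →ₗ[F] (ι → F)) : Prop where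
  projA : ∀ x, pA x ∈ A
  projB : ∀ x, pB x ∈ B
  split : ∀ x, pA x + pB x = x
  singA : ∀ x ∈ A, ∀ y ∈ A, f x y = 0
  singB : ∀ x ∈ B, ∀ y ∈ B, f x y = 0
  dimA : 3 ≤ Module.finrank F A
  dimB : 3 ≤ Module.finrank F B
  mem : ∀ c ∈ A, ∀ d ∈ B, f c d = 0 → ∀ μ, uX σ f c d μ ∈ M

namespace Halves

variable {M : Subgroup (GL ι F)} {A B : Submodule F (ι → F)} {pA pB : (ι → F) →ₗ[F] (ι → F)}

lemma symm (H : Halves σ f M A B pA pB) : Halves σ f M B A pB pA where
  projA := H.projB
  projB := H.projA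
  split x := by rw [add_comm]; exact H.split x
  singA := H.singB
  singB := H.singA
  dimA := H.dimB
  dimB := H.dimA
  mem c hc d hd h μ := by
    rw [uX_comm hf (H.singA d hd d hd) (H.singB c hc c hc) ((eq_zero_comm hf).mp h)]
    exact H.mem d hd c hc ((eq_zero_comm hf).mp h) _

lemma f_projB (H : Halves σ f M A B pA pB) {c : ι → F} (hc : c ∈ A) (x : ι → F) : f c (pB x) = f c x := by
  conv_rhs => rw [← H.split x]
  rw [add_right' hf, H.singA c hc _ (H.projA x), zero_add]

lemma f_projA (H : Halves σ f M A B pA pB) {d : ι → F} (hd : d ∈ B) (x : ι → F) : f d (pA x) = f d x := by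
  conv_rhs => rw [← H.split x]
  rw [add_right' hf, H.singB d hd _ (H.projB x), add_zero]

lemma projA_f (H : Halves σ f M A B pA pB) {d : ι → F} (hd : d ∈ B) (x : ι → F) : f (pA x) d = f x d := by
  rw [hf.herm, H.f_projA hf hd, ← hf.herm]

lemma isotropic (H : Halves σ f M A B pA pB) {a b : ι → F} (ha : a ∈ A) (hb : b ∈ B) :
    f (a + b) (a + b) = f a b + σ (f a b) := by
  rw [hf.add_left, add_right' hf, add_right' hf, H.singA a ha a ha, H.singB b hb b hb, ← hf.herm, zero_add, add_zero]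

/-- Prescribed pairings with at most two vectors, avoiding a small subspace. -/
lemma exists_dual (H : Halves σ f M A B pA pB) {b : ι → F} (hb : b ∈ B) {E₀ : Submodule F (ι → F)} (hb0 : b ∉ E₀) :
    ∃ c ∈ A, (∀ y ∈ E₀, y ∈ B → f c y = 0) ∧ f c b = 1 := by
  obtain ⟨φ, hφ, hφb⟩ := exists_functional hb0
  obtain ⟨z, rfl⟩ := uvec_surjective hf φ
  have h1 : ∀ y ∈ B, f (pA z) y = σ (uvec f z ⬝ᵥ y) := fun y hy => by
    rw [H.projA_f hf hy, uvec_dot hf, ← hf.herm]
  refine ⟨pA z, H.projA z, fun y hy hyB => by rw [h1 y hyB, hφ y hy, map_zero], by rw [h1 b hb, hφb, map_one]⟩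

/-- Inside `A` there is a vector orthogonal to two given ones and avoiding a small subspace. -/
lemma exists_avoid (_H : Halves σ f M A B pA pB) (p q : ι → F) {E : Submodule F (ι → F)}
    (hE : Module.finrank F E + 2 < Module.finrank F A) : ∃ k ∈ A, f k p = 0 ∧ f k q = 0 ∧ k ∉ E := by
  let T : A →ₗ[F] F × F := ((linL hf p).prod (linL hf q)).domRestrict A
  have h1 := LinearMap.finrank_range_add_finrank_ker T
  have h2 := Submodule.finrank_le (LinearMap.range T)
  rw [Module.finrank_prod, Module.finrank_self] at h2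
  by_contra hcon
  simp only [not_exists, not_and, not_not] at hcon
  have hle : (LinearMap.ker T).map A.subtype ≤ E := by
    rintro _ ⟨y, hy, rfl⟩
    have hy' : (f (y : ι → F) p, f (y : ι → F) q) = 0 := LinearMap.mem_ker.mp hy
    rw [Prod.mk_eq_zero] at hy'
    exact hcon y y.2 hy'.1 hy'.2
  have h3 := Submodule.finrank_mono hle
  rw [Submodule.finrank_map_subtype_eq] at h3
  omega

/-- Inside `A` there is a vector orthogonal to a given one and avoiding a small subspace. -/
lemma exists_avoid_one (_H : Halves σ f M A B pA pB) (p : ι → F) {E : Submodule F (ι → F)}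
    (hE : Module.finrank F E + 1 < Module.finrank F A) : ∃ k ∈ A, f k p = 0 ∧ k ∉ E := by
  let T : A →ₗ[F] F := (linL hf p).domRestrict A
  have h1 := LinearMap.finrank_range_add_finrank_ker T
  have h2 := Submodule.finrank_le (LinearMap.range T)
  rw [Module.finrank_self] at h2
  by_contra hcon
  simp only [not_exists, not_and, not_not] at hcon
  have hle : (LinearMap.ker T).map A.subtype ≤ E := by
    rintro _ ⟨y, hy, rfl⟩
    exact hcon y y.2 (LinearMap.mem_ker.mp hy)
  have h3 := Submodule.finrank_mono hle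
  rw [Submodule.finrank_map_subtype_eq] at h3
  omega

/-- Two independent vectors of `B` pair arbitrarily with some vector of `A` avoiding a small subspace. -/
lemma exists_pairing (H : Halves σ f M A B pA pB) {b b' : ι → F} (hb : b ∈ B) (hb' : b' ∈ B) (hb0 : b ≠ 0)
    (hind : b' ∉ Submodule.span F {b}) (x y : F) {E : Submodule F (ι → F)}
    (hE : Module.finrank F E + 2 < Module.finrank F A) : ∃ c ∈ A, f c b = x ∧ f c b' = y ∧ c ∉ E := by
  have hind' : b ∉ Submodule.span F {b'} := fun h => by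
    obtain ⟨j, hj⟩ := Submodule.mem_span_singleton.mp h
    have hj0 : j ≠ 0 := fun h0 => hb0 (by rw [← hj, h0, zero_smul])
    exact hind (Submodule.mem_span_singleton.mpr ⟨j⁻¹, by rw [← hj, inv_smul_smul₀ hj0]⟩)
  obtain ⟨c1, hc1, hc1', h1⟩ := H.exists_dual hf hb hind'
  obtain ⟨c2, hc2, hc2', h2⟩ := H.exists_dual hf hb' hind
  have e1 := hc1' b' (Submodule.mem_span_singleton_self b') hb'
  have e2 := hc2' b (Submodule.mem_span_singleton_self b) hb
  obtain ⟨c, hc⟩ : ∃ c, c = x • c1 + y • c2 := ⟨_, rfl⟩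
  have hcA : c ∈ A := hc ▸ A.add_mem (A.smul_mem _ hc1) (A.smul_mem _ hc2)
  have hcb : f c b = x := by rw [hc, hf.add_left, hf.smul_left, hf.smul_left, h1, e2]; ring
  have hcb' : f c b' = y := by rw [hc, hf.add_left, hf.smul_left, hf.smul_left, h2, e1]; ring
  by_cases hcE : c ∈ E
  · obtain ⟨k, hk, hkb, hkb', hkE⟩ := H.exists_avoid hf b b' hE
    exact ⟨c + k, A.add_mem hcA hk, by rw [hf.add_left, hcb, hkb, add_zero],
      by rw [hf.add_left, hcb', hkb', add_zero], fun h => hkE ((E.add_mem_iff_right hcE).mp h)⟩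
  · exact ⟨c, hcA, hcb, hcb', hcE⟩

lemma ufull_zero : UFull σ f M 0 := by
  refine ⟨zero_left' hf 0, fun c _ => ?_⟩
  rw [show uT f (0 : ι → F) c = 1 from gl_ext fun x => by rw [uT_mulVec hf (zero_left' hf 0)]; simp]
  exact M.one_mem

/-- Replacing the `A`-component of a full vector. -/
lemma move (H : Halves σ f M A B pA pB) {c c' d : ι → F} (hc : c ∈ A) (hc' : c' ∈ A) (hd : d ∈ B) (hc0 : c ≠ 0)
    (hc0' : c' ≠ 0) (hpair : f c d = f c' d) (hfull : UFull σ f M (c + d)) : UFull σ f M (c' + d) := by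
  have step : ∀ {c c' : ι → F}, c ∈ A → c' ∈ A → f c d = f c' d → c ∉ Submodule.span F {c' - c} →
      UFull σ f M (c + d) → UFull σ f M (c' + d) := by
    intro c c' hc hc' hpair hind hfull
    obtain ⟨e, he, he1, he2⟩ := (H.symm hf).exists_dual hf hc hind
    have hAd : c' - c ∈ A := A.sub_mem hc' hc
    have h1e : f (c' - c) e = 0 := (eq_zero_comm hf).mp (he1 _ (Submodule.mem_span_singleton_self _) hAd)
    have hce : f c e = 1 := by rw [hf.herm, he2, map_one]
    have hd0 : f d (c' - c) = 0 := by rw [(eq_zero_comm hf), sub_left' hf, hpair, sub_self]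
    have h := ufull_conj hf (H.mem _ hAd e he h1e 1)
      (iso_uX hf (H.singA _ hAd _ hAd) (H.singB e he e he) h1e 1) hfull
    rw [uX_mulVec hf (H.singB e he e he) h1e, hf.add_left, hf.add_left, hce, H.singB d hd e he,
      H.singA c hc _ hAd, hd0] at h
    convert h using 1
    simp only [map_one, add_zero, mul_one, mul_zero, zero_smul, sub_zero, one_smul]
    abel
  by_cases hind : c ∈ Submodule.span F {c' - c}
  swap
  · exact step hc hc' hpair hind hfull
  have hmul : c' ∈ Submodule.span F {c} := by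
    obtain ⟨j, hj⟩ := Submodule.mem_span_singleton.mp hind
    have hj0 : j ≠ 0 := fun h0 => hc0 (by rw [← hj, h0, zero_smul])
    have e1 : c' - c = j⁻¹ • c := by
      conv_rhs => arg 2; rw [← hj]
      rw [inv_smul_smul₀ hj0]
    have : c' = (j⁻¹ + 1) • c := by rw [add_smul, one_smul, ← e1, sub_add_cancel]
    rw [this]
    exact Submodule.smul_mem _ _ (Submodule.mem_span_singleton_self c)
  obtain ⟨k, hk, hkd, hks⟩ := H.exists_avoid_one hf d (E := Submodule.span F {c}) (by
    rw [finrank_span_singleton hc0]; have := H.dimA; omega)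
  have hA3 : c + k ∈ A := A.add_mem hc hk
  have hp3 : f (c + k) d = f c d := by rw [hf.add_left, hkd, add_zero]
  refine step hA3 hc' (by rw [hp3, hpair]) (fun hm => hks ?_)
    (step hc hA3 hp3.symm (fun hm => hks ?_) hfull)
  · have h0 : c' - (c + k) ∈ Submodule.span F {c' - (c + k)} := Submodule.mem_span_singleton_self _
    obtain ⟨j, hj⟩ := Submodule.mem_span_singleton.mp hm
    by_cases hj1 : 1 + j = 0
    · exfalso
      refine hc0' ?_
      have h0 : j • c' = (1 + j) • (c + k) := by rw [add_smul, one_smul]; nth_rewrite 1 [← hj]; module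
      rw [hj1, zero_smul] at h0
      exact (smul_eq_zero.mp h0).resolve_left (fun hj0 => by rw [hj0, add_zero] at hj1; exact one_ne_zero hj1)
    · have h0 : (1 + j) • (c + k) = j • c' := by rw [add_smul, one_smul]; nth_rewrite 1 [← hj]; module
      have hk' : k = (1 + j)⁻¹ • (j • c') - c := by
        rw [← h0, inv_smul_smul₀ hj1, add_sub_cancel_left]
      rw [hk']
      exact Submodule.sub_mem _ (Submodule.smul_mem _ _ (Submodule.smul_mem _ _ hmul))
        (Submodule.mem_span_singleton_self c)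
  · rw [add_sub_cancel_left] at hm
    obtain ⟨j, hj⟩ := Submodule.mem_span_singleton.mp hm
    have hj0 : j ≠ 0 := fun h0 => hc0 (by rw [← hj, h0, zero_smul])
    exact Submodule.mem_span_singleton.mpr ⟨j⁻¹, by rw [← hj, inv_smul_smul₀ hj0]⟩

/-- All vectors of `A` are full as soon as one is. -/
lemma full_of_one (H : Halves σ f M A B pA pB) {a : ι → F} (ha : a ∈ A) (ha0 : a ≠ 0)
    (hfull : UFull σ f M a) : ∀ x ∈ A, UFull σ f M x := by
  intro x hx
  by_cases hx0 : x = 0
  · rw [hx0]; exact ufull_zero hf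
  simpa using H.move hf ha hx B.zero_mem ha0 hx0 (by rw [zero_right' hf, zero_right' hf]) (by rwa [add_zero])

/-- Moving both components, keeping the pairing. -/
lemma move_both (H : Halves σ f M A B pA pB) {a b b' : ι → F} (ha : a ∈ A) (hb : b ∈ B) (hb' : b' ∈ B)
    (ha0 : a ≠ 0) (hb0 : b ≠ 0) (hind : b' ∉ Submodule.span F {b}) (hfull : UFull σ f M (a + b)) :
    ∀ a' ∈ A, a' ≠ 0 → f a' b' = f a b → UFull σ f M (a' + b') := by
  intro a' ha' ha'0 hpair
  obtain ⟨c, hc, hcb, hcb', hc0⟩ := H.exists_pairing hf hb hb' hb0 hind (f a b) (f a b) (E := ⊥) (by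
    rw [finrank_bot]; have := H.dimA; omega)
  rw [Submodule.mem_bot] at hc0
  have hb0' : b' ≠ 0 := fun h => hind (h ▸ Submodule.zero_mem _)
  have h1 := H.move hf ha hc hb ha0 hc0 hcb.symm hfull
  rw [add_comm] at h1
  have h2 := (H.symm hf).move hf hb hb' hc hb0 hb0' (by rw [hf.herm, hcb, hf.herm b' c, hcb']) h1
  rw [add_comm] at h2
  exact H.move hf hc ha' hb' hc0 ha'0 (by rw [hcb', hpair]) h2

/-- One vector of `A` pairs arbitrarily with some vector of `B` avoiding a small subspace. -/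
lemma exists_pairing_one (H : Halves σ f M A B pA pB) {a : ι → F} (ha : a ∈ A) (ha0 : a ≠ 0) (x : F)
    {E : Submodule F (ι → F)} (hE : Module.finrank F E + 1 < Module.finrank F B) :
    ∃ b ∈ B, f a b = x ∧ b ∉ E := by
  obtain ⟨b1, hb1, -, h1⟩ := (H.symm hf).exists_dual hf ha (E₀ := ⊥) (by simpa using ha0)
  obtain ⟨b, hb⟩ : ∃ b, b = σ x • b1 := ⟨_, rfl⟩
  have hbB : b ∈ B := hb ▸ B.smul_mem _ hb1
  have hab : f a b = x := by rw [hb, smul_right' hf, hf.involutive, hf.herm, h1, map_one, mul_one]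
  by_cases hbE : b ∈ E
  · obtain ⟨k, hk, hka, hkE⟩ := (H.symm hf).exists_avoid_one hf a hE
    exact ⟨b + k, B.add_mem hbB hk, by rw [add_right' hf, hab, (eq_zero_comm hf).mp hka, add_zero],
      fun h => hkE ((E.add_mem_iff_right hbE).mp h)⟩
  · exact ⟨b, hbB, hab, hbE⟩

/-- A combination of two full vectors of the same class. -/
lemma combine (H : Halves σ f M A B pA pB) {a b : ι → F} (ha : a ∈ A) (hb : b ∈ B) (ha0 : a ≠ 0) (hb0 : b ≠ 0)
    (hfull : UFull σ f M (a + b)) {x y p : F} (hp0 : p ≠ 0) (hp : p + σ p = 0) (hxy : x + σ y = p)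
    (hne : x ≠ 0 ∨ f a b ≠ 0) :
    ∃ a' ∈ A, ∃ b' ∈ B, a' ≠ 0 ∧ b' ≠ 0 ∧ UFull σ f M (a' + b') ∧ f a' b' = f a b + x + y + f a b := by
  obtain ⟨b', hb', hab', hbE⟩ := H.exists_pairing_one hf ha ha0 x (E := Submodule.span F {b}) (by
    rw [finrank_span_singleton hb0]; have := H.dimB; omega)
  obtain ⟨a', ha', ha'b, ha'b', haE⟩ : ∃ c ∈ A, f c b = y ∧ f c b' = f a b ∧ c ∉ Submodule.span F {a} := by
    obtain ⟨c, hc, hcb, hcb', -⟩ := H.exists_pairing hf hb hb' hb0 hbE y (f a b)
      (E := ⊥) (by rw [finrank_bot]; have := H.dimA; omega)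
    by_cases hcE : c ∈ Submodule.span F {a}
    · obtain ⟨k, hk, hkb, hkb', hk0⟩ := H.exists_avoid hf b b' (E := ⊥) (by
        rw [finrank_bot]; have := H.dimA; omega)
      refine ⟨c + k, A.add_mem hc hk, by rw [hf.add_left, hcb, hkb, add_zero],
        by rw [hf.add_left, hcb', hkb', add_zero], fun h => ?_⟩
      obtain ⟨j, hj⟩ := Submodule.mem_span_singleton.mp ((Submodule.add_mem_iff_right _ hcE).mp h)
      have hj0 : j ≠ 0 := fun h0 => hk0 (by rw [← hj, h0, zero_smul]; exact Submodule.zero_mem _)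
      rw [← hj, hf.smul_left, mul_eq_zero, or_iff_right hj0] at hkb hkb'
      rcases hne with hne | hne
      · exact hne (hab'.symm.trans hkb')
      · exact hne hkb
    · exact ⟨c, hc, hcb, hcb', hcE⟩
  have ha'0 : a' ≠ 0 := fun h => haE (h ▸ Submodule.zero_mem _)
  have hv := H.move_both hf ha hb hb' ha0 hb0 hbE hfull a' ha' ha'0 ha'b'
  have huv : f (a + b) (a' + b') = p := by
    rw [hf.add_left, add_right' hf, add_right' hf, H.singA a ha a' ha', H.singB b hb b' hb', hab', hf.herm b a',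
      ha'b, zero_add, add_zero, hxy]
  have hc : p⁻¹ + σ p⁻¹ = 0 := by
    rw [map_inv₀, show σ p = -p by linear_combination hp, inv_neg, add_neg_cancel]
  have h := uT_add_smul hf hfull hv.1 hc (hv.2 _ hc)
  rw [huv, inv_mul_cancel₀ hp0, one_smul, add_add_add_comm] at h
  refine ⟨a + a', A.add_mem ha ha', b + b', B.add_mem hb hb', fun e => haE ?_, fun e => hbE ?_, h, ?_⟩
  · exact Submodule.mem_span_singleton.mpr ⟨-1, by rw [neg_one_smul, eq_neg_of_add_eq_zero_right e]⟩
  · exact Submodule.mem_span_singleton.mpr ⟨-1, by rw [neg_one_smul, eq_neg_of_add_eq_zero_right e]⟩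
  · rw [hf.add_left, add_right' hf, add_right' hf, hab', ha'b, ha'b']; ring

/-- A full vector in one of the halves. -/
lemma exists_pure (H : Halves σ f M A B pA pB) {u : ι → F} (hu0 : u ≠ 0) (hu : UFull σ f M u) :
    ∃ x, x ≠ 0 ∧ (x ∈ A ∨ x ∈ B) ∧ UFull σ f M x := by
  rw [← H.split u] at hu
  by_cases hb0 : pB u = 0
  · refine ⟨u, hu0, Or.inl ?_, by rwa [H.split] at hu⟩
    have := H.split u
    rw [hb0, add_zero] at this
    exact this ▸ H.projA u
  by_cases ha0 : pA u = 0
  · refine ⟨u, hu0, Or.inr ?_, by rwa [H.split] at hu⟩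
    have := H.split u
    rw [ha0, zero_add] at this
    exact this ▸ H.projB u
  obtain ⟨a, ha⟩ : ∃ a, a = pA u := ⟨_, rfl⟩
  obtain ⟨b, hb⟩ : ∃ b, b = pB u := ⟨_, rfl⟩
  rw [← ha, ← hb] at hu
  rw [← ha] at ha0
  rw [← hb] at hb0
  have haA : a ∈ A := ha ▸ H.projA u
  have hbB : b ∈ B := hb ▸ H.projB u
  have hskew : f a b + σ (f a b) = 0 := by rw [← H.isotropic hf haA hbB]; exact hu.1
  -- one full vector of each class
  have key : ∀ a1 ∈ A, ∀ b1 ∈ B, a1 ≠ 0 → b1 ≠ 0 → f a1 b1 = 0 → UFull σ f M (a1 + b1) →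
      ∀ a2 ∈ A, ∀ b2 ∈ B, a2 ≠ 0 → b2 ≠ 0 → f a2 b2 ≠ 0 → UFull σ f M (a2 + b2) →
      ∃ x, x ≠ 0 ∧ (x ∈ A ∨ x ∈ B) ∧ UFull σ f M x := by
    intro a1 ha1 b1 hb1 ha10 hb10 hz h1 a2 ha2 b2 hb2 ha20 hb20 hnz h2
    obtain ⟨E, hE⟩ : ∃ E, E = Submodule.span F ({b1, b2} : Set (ι → F)) := ⟨_, rfl⟩
    have hE2 : Module.finrank F E ≤ 2 := by
      classical
      rw [hE]
      refine le_trans (finrank_span_le_card _) ?_
      rw [Set.toFinset_insert, Set.toFinset_singleton]
      exact Finset.card_le_two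
    obtain ⟨b3, hb3, hb3E⟩ : ∃ b3 ∈ B, b3 ∉ E := SetLike.not_le_iff_exists.mp fun h => by
      have := Submodule.finrank_mono h
      have := H.dimB
      omega
    have hb30 : b3 ≠ 0 := fun h => hb3E (h ▸ Submodule.zero_mem _)
    obtain ⟨e, he, -, he1⟩ := H.exists_dual hf hb3 (E₀ := ⊥) (by simpa using hb30)
    obtain ⟨k, hk, hkb, hk0⟩ := H.exists_avoid_one hf b3 (E := ⊥) (by rw [finrank_bot]; have := H.dimA; omega)
    rw [Submodule.mem_bot] at hk0
    have hx : f (f a2 b2 • e) b3 = f a2 b2 := by rw [hf.smul_left, he1, mul_one]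
    have hu' := H.move_both hf ha2 hb2 hb3 ha20 hb20
      (fun h => hb3E (hE ▸ Submodule.span_mono (by simp) h)) h2 _ (A.smul_mem _ he)
      (fun h => hnz (by rw [← hx, h, zero_left' hf])) hx
    have hv' := H.move_both hf ha1 hb1 hb3 ha10 hb10
      (fun h => hb3E (hE ▸ Submodule.span_mono (by simp) h)) h1 k hk hk0 (by rw [hkb, hz])
    have hskew' : f a2 b2 + σ (f a2 b2) = 0 := by rw [← H.isotropic hf ha2 hb2]; exact h2.1
    have huv : f (f a2 b2 • e + b3) (k + b3) = f a2 b2 := by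
      rw [hf.add_left, add_right' hf, add_right' hf, H.singA _ (A.smul_mem _ he) k hk, H.singB b3 hb3 b3 hb3,
        hf.herm b3 k, hkb, map_zero, hx]
      ring
    have hc : -(f a2 b2)⁻¹ + σ (-(f a2 b2)⁻¹) = 0 := by
      rw [map_neg, map_inv₀, show σ (f a2 b2) = -(f a2 b2) by linear_combination hskew', inv_neg, neg_neg,
        neg_add_cancel]
    have h4 := uT_add_smul hf hu' hv'.1 hc (hv'.2 _ hc)
    rw [huv, neg_mul, inv_mul_cancel₀ hnz, neg_one_smul,
      show f a2 b2 • e + b3 + -(k + b3) = f a2 b2 • e - k by abel] at h4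
    refine ⟨_, fun h0 => hnz ?_, Or.inl (A.sub_mem (A.smul_mem _ he) hk), h4⟩
    rw [← hx, sub_eq_zero.mp h0, hkb]
  by_cases hab : f a b = 0
  · obtain ⟨p, hp0, hp⟩ := exists_skew hf.ne_refl hf.involutive
    obtain ⟨a', ha', b', hb', ha'0, hb'0, hfull, hclass⟩ :=
      H.combine hf haA hbB ha0 hb0 hu hp0 hp (x := p) (y := 0) (by rw [map_zero, add_zero]) (Or.inl hp0)
    exact key a haA b hbB ha0 hb0 hab hu a' ha' b' hb' ha'0 hb'0
      (by rw [hclass, hab]; simpa using hp0) hfull
  · obtain ⟨y, hy⟩ := exists_sub_conj hf (c := -3 * f a b) (by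
      rw [map_mul, map_neg, map_ofNat]; linear_combination (-3 : F) * hskew)
    obtain ⟨a', ha', b', hb', ha'0, hb'0, hfull, hclass⟩ :=
      H.combine hf haA hbB ha0 hb0 hu hab hskew (x := f a b - σ y) (y := y) (by ring) (Or.inr hab)
    exact key a' ha' b' hb' ha'0 hb'0 (by rw [hclass]; linear_combination hy) hfull a haA b hbB ha0 hb0 hab hu

/-- Everything is full as soon as one non-zero vector is. -/
theorem spread (H : Halves σ f M A B pA pB) {J : GL ι F} (hJ : J ∈ M) (hJi : Iso f J)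
    (hJA : ∀ x ∈ A, (J : Matrix ι ι F) *ᵥ x ∈ B) (hJB : ∀ x ∈ B, (J : Matrix ι ι F) *ᵥ x ∈ A) {u : ι → F}
    (hu0 : u ≠ 0) (hu : UFull σ f M u) : ∀ x, f x x = 0 → UFull σ f M x := by
  obtain ⟨p, hp0, hp, hpfull⟩ := H.exists_pure hf hu0 hu
  have hall : (∀ x ∈ A, UFull σ f M x) ∧ ∀ x ∈ B, UFull σ f M x := by
    rcases hp with hp | hp
    · exact ⟨H.full_of_one hf hp hp0 hpfull,
        (H.symm hf).full_of_one hf (hJA p hp) (mulVec_ne_zero J hp0) (ufull_conj hf hJ hJi hpfull)⟩
    · exact ⟨H.full_of_one hf (hJB p hp) (mulVec_ne_zero J hp0) (ufull_conj hf hJ hJi hpfull),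
        (H.symm hf).full_of_one hf hp hp0 hpfull⟩
  have sum : ∀ {u v : ι → F}, UFull σ f M u → UFull σ f M v → f u v ≠ 0 → f u v + σ (f u v) = 0 →
      UFull σ f M (u + v) := by
    intro u v hu hv hne hsk
    have hc : (f u v)⁻¹ + σ (f u v)⁻¹ = 0 := by
      rw [map_inv₀, show σ (f u v) = -(f u v) by linear_combination hsk, inv_neg, add_neg_cancel]
    have h := uT_add_smul hf hu hv.1 hc (hv.2 _ hc)
    rwa [inv_mul_cancel₀ hne, one_smul] at h
  intro x hx
  rw [← H.split x] at hx ⊢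
  obtain ⟨a, ha⟩ : ∃ a, a = pA x := ⟨_, rfl⟩
  obtain ⟨b, hb⟩ : ∃ b, b = pB x := ⟨_, rfl⟩
  have haA : a ∈ A := ha ▸ H.projA x
  have hbB : b ∈ B := hb ▸ H.projB x
  rw [← ha, ← hb] at hx ⊢
  have hskew : f a b + σ (f a b) = 0 := by rw [← H.isotropic hf haA hbB]; exact hx
  by_cases hb0 : b = 0
  · rw [hb0, add_zero]; exact hall.1 a haA
  by_cases hab : f a b = 0
  · obtain ⟨d, hd, -, hd1⟩ := H.exists_dual hf hbB (E₀ := ⊥) (by simpa using hb0)
    obtain ⟨s, hs0, hs⟩ := exists_skew hf.ne_refl hf.involutive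
    have hsd : f (s • d) b = s := by rw [hf.smul_left, hd1, mul_one]
    have hdA := A.smul_mem s hd
    have h1 := sum (hall.1 _ hdA) (hall.2 b hbB) (by rw [hsd]; exact hs0) (by rw [hsd]; exact hs)
    have h3 : f (s • d + b) (a - s • d) = s := by
      rw [hf.add_left, H.singA _ hdA _ (A.sub_mem haA hdA), sub_right' hf, hf.herm b a, hab, map_zero,
        hf.herm b (s • d), hsd]
      linear_combination (-1 : F) * hs
    have h4 := sum h1 (hall.1 _ (A.sub_mem haA hdA)) (by rw [h3]; exact hs0) (by rw [h3]; exact hs)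
    rwa [show s • d + b + (a - s • d) = a + b by abel] at h4
  · exact sum (hall.1 a haA) (hall.2 b hbB) hab hskew

/-- A root element of a mixed vector and its own component gives all transvections at that component. -/
lemma full_of_component (H : Halves σ f M A B pA pB) {a b : ι → F} (ha : a ∈ A) (hb : b ∈ B) (hab : f a b = 0)
    (hX : ∀ μ, uX σ f (a + b) a μ ∈ M) : UFull σ f M a := by
  have haa := H.singA a ha a ha
  refine ⟨haa, fun s hs => ?_⟩
  obtain ⟨t, ht⟩ := exists_sub_conj hf hs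
  have h1 : f (a + b) a = 0 := by rw [hf.add_left, haa, (eq_zero_comm hf).mp hab, add_zero]
  have e : uX σ f (a + b) a t = uX σ f a b (-σ t) * uT f a s := gl_ext fun x => by
    rw [mul_mulVec, uT_mulVec hf haa, uX_mulVec hf haa h1, uX_mulVec hf (H.singB b hb b hb) hab, ← ht,
      hf.add_left, hf.add_left, hf.smul_left, hf.smul_left, haa, hab, add_right' hf, map_neg, hf.involutive]
    module
  have h := M.mul_mem (M.inv_mem (H.mem a ha b hb hab (-σ t))) (hX t)
  rwa [e, inv_mul_cancel_left] at h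

/-- A root element with a moved partner gives a full vector. -/
lemma full_of_short (H : Halves σ f M A B pA pB) {u w : ι → F} (hu0 : u ≠ 0) (hu : f u u = 0) (hw : f w w = 0) (huw : f u w = 0)
    (hX : ∀ μ, uX σ f u w μ ∈ M)
    (hA' : pA w ∉ Submodule.span F {pA u}) (hB' : pB w ∉ Submodule.span F {pB u}) :
    ∃ x, x ≠ 0 ∧ UFull σ f M x := by
  classical
  obtain ⟨E, hE⟩ : ∃ E, E = Submodule.span F ({pA u, pA w} : Set (ι → F)) := ⟨_, rfl⟩
  have hE2 : Module.finrank F E ≤ 2 := by
    rw [hE]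
    refine le_trans (finrank_span_le_card _) ?_
    rw [Set.toFinset_insert, Set.toFinset_singleton]
    exact Finset.card_le_two
  obtain ⟨C, hC⟩ : ∃ C, C = LinearMap.ker (linL hf (pB u)) ⊓ A := ⟨_, rfl⟩
  have hmemC : ∀ {c}, c ∈ C ↔ f c (pB u) = 0 ∧ c ∈ A := fun {c} => by rw [hC]; exact Iff.rfl
  by_cases hCE : C ≤ E
  · -- then a component of `u` is full
    have hdimC : 2 ≤ Module.finrank F C := by
      let φ : A →ₗ[F] F := (linL hf (pB u)).domRestrict A
      have h1 := LinearMap.finrank_range_add_finrank_ker φ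
      have h2 := Submodule.finrank_le (LinearMap.range φ)
      rw [Module.finrank_self] at h2
      have h3 : (LinearMap.ker φ).map A.subtype ≤ C := by
        rintro _ ⟨y, hy, rfl⟩
        exact hmemC.mpr ⟨LinearMap.mem_ker.mp hy, y.2⟩
      have h4 := Submodule.finrank_mono h3
      rw [Submodule.finrank_map_subtype_eq] at h4
      have := H.dimA
      omega
    have hCeq : C = E := Submodule.eq_of_le_of_finrank_le hCE (by omega)
    have hau : f (pA u) (pB u) = 0 :=
      (hmemC.mp (hCeq ▸ hE ▸ Submodule.subset_span (by simp) : pA u ∈ C)).1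
    have haw : f (pA w) (pB u) = 0 :=
      (hmemC.mp (hCeq ▸ hE ▸ Submodule.subset_span (by simp) : pA w ∈ C)).1
    have hwau : f w (pA u) = 0 := by
      have h1 : f (pA u) w = 0 := by
        have h2 := huw
        rw [← H.split u, hf.add_left] at h2
        have h3 : f (pB u) w = 0 := by
          rw [← H.f_projA hf (H.projB u), (eq_zero_comm hf)]; exact haw
        rwa [h3, add_zero] at h2
      exact (eq_zero_comm hf).mp h1
    have hau0 : pA u ≠ 0 := by
      intro h0
      have h1 : E ≤ Submodule.span F {pA w} := by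
        rw [hE, Submodule.span_le]
        rintro z (rfl | rfl)
        · rw [h0]; exact Submodule.zero_mem _
        · exact Submodule.mem_span_singleton_self _
      have h2 := (Submodule.finrank_mono h1).trans (finrank_span_le_card _)
      rw [Set.toFinset_singleton, Finset.card_singleton, ← hCeq] at h2
      omega
    refine ⟨pA u, hau0, H.full_of_component hf (H.projA u) (H.projB u) hau fun μ => ?_⟩
    rw [H.split]
    obtain ⟨d, hd, hd', hdw⟩ := (H.symm hf).exists_dual hf (H.projA w) hA'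
    have hdu : f d (pA u) = 0 := hd' _ (Submodule.mem_span_singleton_self _) (H.projA u)
    have had : f (pA u) d = 0 := (eq_zero_comm hf).mp hdu
    have hud : f u d = 0 := (eq_zero_comm hf).mp (by rw [← H.f_projA hf hd u]; exact hdu)
    have hwd : f w d = 1 := by rw [hf.herm, ← H.f_projA hf hd w, hdw, map_one]
    have huau : f u (pA u) = 0 := by
      rw [(eq_zero_comm hf), ← H.f_projB hf (H.projA u)]; exact hau
    have hds := H.singB d hd d hd
    have has := H.singA _ (H.projA u) _ (H.projA u)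
    have hi := iso_uX hf has hds had 1
    have hh := H.mem _ (H.projA u) d hd had 1
    have h5 := M.mul_mem (M.mul_mem (M.mul_mem hh (hX μ)) (M.inv_mem hh)) (hX (-μ))
    rw [conj_uX hf hi huw, uX_mulVec hf hds had, uX_mulVec hf hds had, hud, huau, hwd, hwau] at h5
    simp only [map_one, mul_one, mul_zero, one_smul, zero_smul, add_zero, sub_zero] at h5
    convert h5 using 1
    refine gl_ext fun x => ?_
    have hw'' : f (w + pA u) (w + pA u) = 0 := by
      rw [hf.add_left, add_right' hf, add_right' hf, hw, hwau, (eq_zero_comm hf).mp hwau, has]; ring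
    have huw'' : f u (w + pA u) = 0 := by rw [add_right' hf, huw, huau, add_zero]
    rw [mul_mulVec, uX_mulVec hf hw huw, uX_mulVec hf hw'' huw'', uX_mulVec hf has huau]
    simp only [hf.add_left, sub_left' hf, hf.smul_left, add_right' hf, hu, huw, huau, (eq_zero_comm hf).mp huw, hwau,
      hw, map_neg, add_zero, sub_zero, mul_zero, zero_add]
    module
  obtain ⟨c, hc, hcu, hcw, hcE⟩ : ∃ c ∈ A, f c (pB u) = 0 ∧ f c (pB w) = 1 ∧ c ∉ E := by
    obtain ⟨c, hc, hc', hcw⟩ := H.exists_dual hf (H.projB w) hB'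
    have hcu := hc' _ (Submodule.mem_span_singleton_self _) (H.projB u)
    obtain ⟨k, hk, hkE⟩ := SetLike.not_le_iff_exists.mp hCE
    obtain ⟨hku, hkA⟩ := hmemC.mp hk
    by_cases hcE : c ∈ E
    · by_cases hkw : f k (pB w) = 0
      · exact ⟨c + k, A.add_mem hc hkA, by rw [hf.add_left, hcu, hku, add_zero],
          by rw [hf.add_left, hcw, hkw, add_zero], fun h => hkE ((E.add_mem_iff_right hcE).mp h)⟩
      · exact ⟨(f k (pB w))⁻¹ • k, A.smul_mem _ hkA, by rw [hf.smul_left, hku, mul_zero],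
          by rw [hf.smul_left, inv_mul_cancel₀ hkw], fun h => hkE ((E.smul_mem_iff (inv_ne_zero hkw)).mp h)⟩
    · exact ⟨c, hc, hcu, hcw, hcE⟩
  have hw' : pA w ∉ Submodule.span F ({pA u, c} : Set (ι → F)) := by
    intro hm
    obtain ⟨i, j, hij⟩ := Submodule.mem_span_pair.mp hm
    by_cases hj : j = 0
    · exact hA' (Submodule.mem_span_singleton.mpr ⟨i, by rw [← hij, hj, zero_smul, add_zero]⟩)
    · refine hcE ?_
      rw [hE, Submodule.mem_span_pair]
      exact ⟨-(j⁻¹ * i), j⁻¹, by rw [← hij, smul_add, smul_smul, inv_smul_smul₀ hj, neg_smul]; abel⟩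
  obtain ⟨d, hd, hd', hdw⟩ := (H.symm hf).exists_dual hf (H.projA w) hw'
  have hdc := hd' c (Submodule.subset_span (by simp)) hc
  have hdu := hd' (pA u) (Submodule.subset_span (by simp)) (H.projA u)
  have hcd : f c d = 0 := (eq_zero_comm hf).mp hdc
  rw [H.f_projB hf hc] at hcu hcw
  rw [H.f_projA hf hd] at hdu hdw
  have huc : f u c = 0 := (eq_zero_comm hf).mp hcu
  have hud : f u d = 0 := (eq_zero_comm hf).mp hdu
  have hwc : f w c = 1 := by rw [hf.herm, hcw, map_one]
  have hwd : f w d = 1 := by rw [hf.herm, hdw, map_one]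
  obtain ⟨m, hm⟩ : ∃ m : F, σ m - m ≠ 0 := by
    obtain ⟨s, hs0, hs⟩ := exists_skew hf.ne_refl hf.involutive
    obtain ⟨t, ht⟩ := exists_sub_conj hf hs
    exact ⟨t, fun h => hs0 (by linear_combination -ht - h)⟩
  have hcs := H.singA c hc c hc
  have hds := H.singB d hd d hd
  have hh := H.mem c hc d hd hcd m
  have hi := iso_uX hf hcs hds hcd m
  obtain ⟨w', hw'def⟩ : ∃ w', w' = (uX σ f c d m : Matrix ι ι F) *ᵥ w := ⟨_, rfl⟩
  have hX' : ∀ μ, uX σ f u w' μ ∈ M := by
    intro μ
    have h1 := M.mul_mem (M.mul_mem hh (hX μ)) (M.inv_mem hh)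
    rwa [conj_uX hf hi huw, uX_mulVec hf hds hcd m u, huc, hud, mul_zero, mul_zero, zero_smul, zero_smul,
      add_zero, sub_zero, ← hw'def] at h1
  have huw' : f u w' = 0 := by
    rw [hw'def, uX_mulVec hf hds hcd, sub_right' hf, add_right' hf, smul_right' hf, smul_right' hf, huw, huc, hud]
    ring
  have hww' : f w w' = σ m - m := by
    rw [hw'def, uX_mulVec hf hds hcd, sub_right' hf, add_right' hf, smul_right' hf, smul_right' hf, hw, hwc, hwd,
      map_mul, map_mul, hf.involutive, map_one]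
    ring
  refine ⟨u, hu0, hu, fun s hs => ?_⟩
  obtain ⟨t, ht⟩ := exists_sub_conj hf hs
  have h5 := M.mul_mem (M.inv_mem (M.mul_mem (hX' (t / (σ m - m))) (hX 1)))
    (M.mul_mem (hX 1) (hX' (t / (σ m - m))))
  rw [uX_commutator hf hu hw (hw'def ▸ (by rw [hi]; exact hw)) huw huw', inv_mul_cancel_left, map_one, mul_one,
    one_mul, hf.herm w' w, hww', ← map_mul, div_mul_cancel₀ t hm, ht] at h5
  exact h5

/-- A root element of a mixed vector and a suitable partner. -/
lemma exists_full (H : Halves σ f M A B pA pB) {g : GL ι F} (hgM : g ∈ M) (hg : Iso f g) {a : ι → F} (ha : a ∈ A)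
    (hu : pA ((g : Matrix ι ι F) *ᵥ a) ≠ 0 ∧ pB ((g : Matrix ι ι F) *ᵥ a) ≠ 0) :
    ∃ x, x ≠ 0 ∧ UFull σ f M x := by
  obtain ⟨u, hu'⟩ : ∃ u, u = (g : Matrix ι ι F) *ᵥ a := ⟨_, rfl⟩
  rw [← hu'] at hu
  have hu0 : u ≠ 0 := fun h => hu.1 (by rw [h, map_zero])
  have huu : f u u = 0 := by rw [hu', hg]; exact H.singA a ha a ha
  obtain ⟨Ba, hBa⟩ : ∃ Ba, Ba = LinearMap.ker (linL hf a) ⊓ B := ⟨_, rfl⟩
  have hmemBa : ∀ {b}, b ∈ Ba ↔ f b a = 0 ∧ b ∈ B := fun {b} => by rw [hBa]; exact Iff.rfl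
  have horth : ∀ b ∈ Ba, f u ((g : Matrix ι ι F) *ᵥ b) = 0 := fun b hb => by
    rw [hu', hg]; exact (eq_zero_comm hf).mp (hmemBa.mp hb).1
  have hww : ∀ b ∈ Ba, f ((g : Matrix ι ι F) *ᵥ b) ((g : Matrix ι ι F) *ᵥ b) = 0 := fun b hb => by
    rw [hg]; exact H.singB b (hmemBa.mp hb).2 b (hmemBa.mp hb).2
  have hshort : ∀ b ∈ Ba, ∀ μ, uX σ f u ((g : Matrix ι ι F) *ᵥ b) μ ∈ M := fun b hb μ => by
    have hab := (eq_zero_comm hf).mp (hmemBa.mp hb).1
    rw [hu', ← conj_uX hf hg hab]
    exact M.mul_mem (M.mul_mem hgM (H.mem a ha b (hmemBa.mp hb).2 hab μ)) (M.inv_mem hgM)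
  by_contra hcon
  simp only [not_exists, not_and] at hcon
  let T := Matrix.toLin' (g : Matrix ι ι F)
  have hbad : ∀ b ∈ Ba, pA (T b) ∈ Submodule.span F {pA u} ∨ pB (T b) ∈ Submodule.span F {pB u} := by
    intro b hb
    simp only [T, Matrix.toLin'_apply]
    by_contra h
    simp only [not_or] at h
    obtain ⟨x, hx0, hx⟩ := H.full_of_short hf hu0 huu (hww b hb) (horth b hb) (hshort b hb) h.1 h.2
    exact hcon x hx0 hx
  have hbad' : ∀ b ∈ Ba, T b ≠ 0 → pA u ∈ Submodule.span F {pA (T b)} ∨ pB u ∈ Submodule.span F {pB (T b)} := by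
    intro b hb hw0
    simp only [T, Matrix.toLin'_apply] at hw0 ⊢
    by_contra h
    simp only [not_or] at h
    obtain ⟨x, hx0, hx⟩ := H.full_of_short hf (w := u) hw0 (hww b hb) huu ((eq_zero_comm hf).mp (horth b hb))
      (fun μ => by rw [uX_comm hf huu (hww b hb) (horth b hb)]; exact hshort b hb _) h.1 h.2
    exact hcon x hx0 hx
  have hdimBa : 2 ≤ Module.finrank F Ba := by
    let φ : B →ₗ[F] F := (linL hf a).domRestrict B
    have h1 := LinearMap.finrank_range_add_finrank_ker φ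
    have h2 := Submodule.finrank_le (LinearMap.range φ)
    rw [Module.finrank_self] at h2
    have h3 : (LinearMap.ker φ).map B.subtype ≤ Ba := by
      rintro _ ⟨y, hy, rfl⟩
      exact hmemBa.mpr ⟨LinearMap.mem_ker.mp hy, y.2⟩
    have h4 := Submodule.finrank_mono h3
    rw [Submodule.finrank_map_subtype_eq] at h4
    have := H.dimB
    omega
  have hcases : (Ba ≤ (Submodule.span F {pA u}).comap (pA ∘ₗ T)) ∨
      (Ba ≤ (Submodule.span F {pB u}).comap (pB ∘ₗ T)) :=
    AddSubgroupClass.subset_union.mp fun b hb => hbad b hb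
  have hfin : ∀ (A' B' : Submodule F (ι → F)) (q q' : (ι → F) →ₗ[F] (ι → F)),
      Halves σ f M A' B' q q' → q u ≠ 0 → q' u ≠ 0 →
      (∀ b ∈ Ba, q (T b) ∈ Submodule.span F {q u}) →
      (∀ b ∈ Ba, T b ≠ 0 → q (T b) = 0 → q' u ∈ Submodule.span F {q' (T b)}) → False := by
    intro A' B' q q' H' hq0 hq0' h1 h3
    let ψ : Ba →ₗ[F] (ι → F) := (q ∘ₗ T).domRestrict Ba
    have h5 := LinearMap.finrank_range_add_finrank_ker ψ
    have h6 : LinearMap.range ψ ≤ Submodule.span F {q u} := by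
      rintro _ ⟨y, rfl⟩; exact h1 y y.2
    have h7 := Submodule.finrank_mono h6
    rw [finrank_span_singleton hq0] at h7
    obtain ⟨y, hy, hy0⟩ := Submodule.exists_mem_ne_zero_of_ne_bot (p := LinearMap.ker ψ) fun h => by
      rw [h, finrank_bot] at h5; omega
    have hqy : q (T y) = 0 := LinearMap.mem_ker.mp hy
    have hy0' : T y ≠ 0 := by
      simp only [T, Matrix.toLin'_apply]
      exact mulVec_ne_zero g fun h => hy0 (Subtype.ext h)
    have h4 : q' (T y) = T y := by
      have := H'.split (T y); rwa [hqy, zero_add] at this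
    obtain ⟨j, hj⟩ := Submodule.mem_span_singleton.mp (h3 y y.2 hy0' hqy)
    rw [h4] at hj
    simp only [T, Matrix.toLin'_apply] at hj
    have huy := horth y y.2
    have hab : f (q' u) (q u) = 0 := by
      rw [H'.f_projA hf (H'.projB u), (eq_zero_comm hf), ← hj, smul_right' hf, huy, mul_zero]
    refine hcon (q' u) hq0' ((H'.symm hf).full_of_component hf (H'.projB u) (H'.projA u) hab fun μ => ?_)
    rw [add_comm, H'.split, ← hj]
    convert hshort y y.2 (σ j * μ) using 1
    refine gl_ext fun x => ?_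
    rw [uX_mulVec hf (hww y y.2) huy, uX_mulVec hf (by rw [hf.smul_left, smul_right' hf, hww y y.2]; ring)
      (by rw [smul_right' hf, huy, mul_zero]), smul_right' hf, map_mul, hf.involutive]
    module
  rcases hcases with hcase | hcase
  · refine hfin A B pA pB H hu.1 hu.2 (fun b hb => hcase hb) fun b hb hb0 h0 => ?_
    refine (hbad' b hb hb0).resolve_left fun hm => hu.1 ?_
    rw [h0, Submodule.span_zero_singleton, Submodule.mem_bot] at hm
    exact hm
  · refine hfin B A pB pA (H.symm hf) hu.2 hu.1 (fun b hb => hcase hb) fun b hb hb0 h0 => ?_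
    refine (hbad' b hb hb0).resolve_right fun hm => hu.2 ?_
    rw [h0, Submodule.span_zero_singleton, Submodule.mem_bot] at hm
    exact hm

end Halves

end CfsgLib.Transvec.Unitary
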