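/-
Short root elements of symplectic groups and hyperbolic frames.
-/
import Cfsg.Agent.Lib.Transvec.SympSpaces

set_option autoImplicit false

namespace CfsgLib.Transvec

open Matrix
open scoped MatrixGroups

variable {ι : Type} [Fintype ι] [DecidableEq ι] {F : Type*} [Field F] {f : (ι → F) → (ι → F) → F}

/-- For orthogonal `a`, `b`: the element `x ↦ x + l (f(x,a) b + f(x,b) a)`. -/
noncomputable def sX (f : (ι → F) → (ι → F) → F) (a b : ι → F) (l : F) : GL ι F :=
  sT f (a + b) l * sT f a (-l) * sT f b (-l)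

/-- A family of mutually orthogonal hyperbolic pairs. -/
structure Frame (f : (ι → F) → (ι → F) → F) {k : ℕ} (e g : Fin k → ι → F) : Prop where
  ee : ∀ i j, f (e i) (e j) = 0
  gg : ∀ i j, f (g i) (g j) = 0
  eg : ∀ i j, f (e i) (g j) = if i = j then 1 else 0

variable (hf : Cfsg.Geo.IsSymplecticForm f)

include hf

lemma sX_mulVec {a b : ι → F} (hab : f a b = 0) (l : F) (x : ι → F) :
    (sX f a b l : Matrix ι ι F) *ᵥ x = x + (l * f x a) • b + (l * f x b) • a := by
  have hba : f b a = 0 := by rw [hf.skew, hab, neg_zero]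
  rw [sX, mul_mulVec, mul_mulVec, sT_mulVec hf, sT_mulVec hf, sT_mulVec hf]
  simp only [add_left' hf, add_right' hf, smul_left' hf, hf.alternating, hab, hba]
  module

lemma iso_sX (a b : ι → F) (l : F) : Iso f (sX f a b l) :=
  ((iso_sT hf _ _).mul (iso_sT hf _ _)).mul (iso_sT hf _ _)

lemma conj_sX {g : GL ι F} (hg : Iso f g) (a b : ι → F) (l : F) :
    g * sX f a b l * g⁻¹ = sX f ((g : Matrix ι ι F) *ᵥ a) ((g : Matrix ι ι F) *ᵥ b) l := by
  simp only [sX, ← mulVec_add, ← conj_sT_iso hf hg]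
  group

lemma sX_zero {a b : ι → F} (hab : f a b = 0) : sX f a b 0 = 1 :=
  gl_ext fun x => by rw [sX_mulVec hf hab]; simp

lemma sX_comm {a b : ι → F} (hab : f a b = 0) (l : F) : sX f a b l = sX f b a l :=
  gl_ext fun x => by
    rw [sX_mulVec hf hab, sX_mulVec hf (by rw [hf.skew, hab, neg_zero]), add_right_comm]

lemma sX_mul {a b : ι → F} (hab : f a b = 0) (l l' : F) : sX f a b l * sX f a b l' = sX f a b (l + l') :=
  gl_ext fun x => by
    have hba : f b a = 0 := by rw [hf.skew, hab, neg_zero]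
    simp only [mul_mulVec, sX_mulVec hf hab, add_left' hf, smul_left' hf, hf.alternating, hab, hba]
    module

lemma sX_inv {a b : ι → F} (hab : f a b = 0) (l : F) : (sX f a b l)⁻¹ = sX f a b (-l) :=
  inv_eq_of_mul_eq_one_right (by rw [sX_mul hf hab, add_neg_cancel, sX_zero hf hab])

lemma sX_smul_left {a b : ι → F} (hab : f a b = 0) (k l : F) : sX f (k • a) b l = sX f a b (k * l) :=
  gl_ext fun x => by
    rw [sX_mulVec hf (by rw [smul_left' hf, hab, mul_zero]), sX_mulVec hf hab, smul_right' hf]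
    module

lemma sX_smul_right {a b : ι → F} (hab : f a b = 0) (k l : F) : sX f a (k • b) l = sX f a b (k * l) :=
  gl_ext fun x => by
    rw [sX_mulVec hf (by rw [smul_right' hf, hab, mul_zero]), sX_mulVec hf hab, smul_right' hf]
    module

/-- Additivity in the second vector, up to a long root element. -/
lemma sX_mul_right {a b b' : ι → F} (hab : f a b = 0) (hab' : f a b' = 0) (l : F) :
    sX f a b l * sX f a b' l = sX f a (b + b') l * sT f a (l ^ 2 * f b' b) :=
  gl_ext fun x => by
    have h : f a (b + b') = 0 := by rw [add_right' hf, hab, hab', add_zero]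
    have hb'a : f b' a = 0 := by rw [hf.skew, hab', neg_zero]
    have hba : f b a = 0 := by rw [hf.skew, hab, neg_zero]
    simp only [mul_mulVec, sX_mulVec hf hab, sX_mulVec hf hab', sX_mulVec hf h, sT_mulVec hf, add_left' hf,
      add_right' hf, smul_left' hf, hf.alternating, hab, hab', hb'a, hba]
    module

lemma sX_add_right {a b b' : ι → F} (hab : f a b = 0) (hab' : f a b' = 0) (hbb' : f b' b = 0) (l : F) :
    sX f a b l * sX f a b' l = sX f a (b + b') l := by
  rw [sX_mul_right hf hab hab', hbb', mul_zero, sT_zero hf, mul_one]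

lemma commute_sX_sT {a b : ι → F} (hab : f a b = 0) (l c : F) : Commute (sX f a b l) (sT f a c) :=
  gl_ext fun x => by
    have hba : f b a = 0 := by rw [hf.skew, hab, neg_zero]
    simp only [mul_mulVec, sX_mulVec hf hab, sT_mulVec hf, add_left' hf, smul_left' hf, hf.alternating, hab, hba]
    module

/-- Expanding a transvection with centre `b + k a`. -/
lemma sT_add_smul {a b : ι → F} (hab : f a b = 0) (k c : F) :
    sT f (b + k • a) c = sT f b c * sX f a b (k * c) * sT f a (k ^ 2 * c) :=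
  gl_ext fun x => by
    have hba : f b a = 0 := by rw [hf.skew, hab, neg_zero]
    simp only [mul_mulVec, sX_mulVec hf hab, sT_mulVec hf, add_left' hf, add_right' hf, smul_left' hf, smul_right' hf,
      hf.alternating, hab, hba]
    module

variable {M : Subgroup (GL ι F)}

/-- Moving `b` by `e` inside `M` isolates `sX a e`. -/
lemma sX_ratio {a b e : ι → F} {l ν : F} (hab : f a b = 0) (hae : f a e = 0) (hbe : f e b = 0)
    (hmem : sX f a b l * sT f a ν ∈ M) {h : GL ι F} (hh : h ∈ M) (hi : Iso f h)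
    (ha : (h : Matrix ι ι F) *ᵥ a = a) (hb : (h : Matrix ι ι F) *ᵥ b = b + e) : sX f a e l ∈ M := by
  have h1 := M.mul_mem (M.mul_mem hh hmem) (M.inv_mem hh)
  have e1 : h * (sX f a b l * sT f a ν) * h⁻¹ = sX f a (b + e) l * sT f a ν := by
    rw [show h * (sX f a b l * sT f a ν) * h⁻¹ = (h * sX f a b l * h⁻¹) * (h * sT f a ν * h⁻¹) by group,
      conj_sX hf hi, conj_sT_iso hf hi, ha, hb]
  rw [e1, ← sX_add_right hf hab hae hbe] at h1
  have h2 := M.mul_mem (M.inv_mem hmem) h1
  have e2 : (sX f a b l * sT f a ν)⁻¹ * (sX f a b l * sX f a e l * sT f a ν) = sX f a e l := by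
    rw [mul_assoc (sX f a b l), (commute_sX_sT hf hae l ν).eq]
    group
  rwa [e2] at h2

/-- Frames of hyperbolic pairs inside a non-degenerate subspace. -/
lemma exists_frame : ∀ (k : ℕ) {W : Submodule F (ι → F)}, (∀ w ∈ W, w ≠ 0 → ∃ x ∈ W, f x w ≠ 0) →
    2 * k ≤ Module.finrank F W → ∃ e g : Fin k → ι → F, Frame f e g ∧ (∀ i, e i ∈ W) ∧ ∀ i, g i ∈ W := by
  intro k
  induction k with
  | zero =>
    intro W _ _
    exact ⟨fun i => i.elim0, fun i => i.elim0, ⟨fun i => i.elim0, fun i => i.elim0, fun i => i.elim0⟩,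
      fun i => i.elim0, fun i => i.elim0⟩
  | succ k ih =>
    intro W hnd hk
    obtain ⟨v, hv, hv0⟩ : ∃ v ∈ W, v ≠ 0 := Submodule.exists_mem_ne_zero_of_ne_bot fun h => by
      rw [h, finrank_bot] at hk; omega
    obtain ⟨w, hw, hvw⟩ := exists_pair hf hnd hv hv0
    obtain ⟨W₁, hd, hsub, hnd₁, -⟩ := exists_split hf hnd hv hw hvw
    obtain ⟨e, g, hfr, he, hg⟩ := ih hnd₁ (by omega)
    have hev : ∀ i, f (e i) v = 0 ∧ f v (e i) = 0 ∧ f (e i) w = 0 ∧ f w (e i) = 0 := fun i => by
      obtain ⟨-, h1, h2⟩ := hsub _ (he i)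
      exact ⟨h1, by rw [hf.skew, h1, neg_zero], h2, by rw [hf.skew, h2, neg_zero]⟩
    have hgv : ∀ i, f (g i) v = 0 ∧ f v (g i) = 0 ∧ f (g i) w = 0 ∧ f w (g i) = 0 := fun i => by
      obtain ⟨-, h1, h2⟩ := hsub _ (hg i)
      exact ⟨h1, by rw [hf.skew, h1, neg_zero], h2, by rw [hf.skew, h2, neg_zero]⟩
    refine ⟨Fin.cons v e, Fin.cons w g, ⟨fun i j => ?_, fun i j => ?_, fun i j => ?_⟩, fun i => ?_, fun i => ?_⟩
    · cases i using Fin.cases <;> cases j using Fin.cases <;>
        simp [hf.alternating, (hev _).1, (hev _).2.1, hfr.ee]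
    · cases i using Fin.cases <;> cases j using Fin.cases <;>
        simp [hf.alternating, (hgv _).2.2.1, (hgv _).2.2.2, hfr.gg]
    · cases i using Fin.cases <;> cases j using Fin.cases <;>
        simp [hvw, (hev _).2.2.1, (hgv _).2.1, hfr.eg, Fin.succ_ne_zero, (Fin.succ_ne_zero _).symm]
    · cases i using Fin.cases <;> simp [hv, (hsub _ (he _)).1]
    · cases i using Fin.cases <;> simp [hw, (hsub _ (hg _)).1]

/-- A frame starting with two given orthogonal independent vectors. -/
lemma exists_frame_extend {k : ℕ} (hk : 2 * (k + 2) ≤ Fintype.card ι) {x y : ι → F} (hxy : f x y = 0)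
    (hx : x ∉ Submodule.span F {y}) (hy : y ≠ 0) :
    ∃ e g : Fin (k + 2) → ι → F, Frame f e g ∧ e 0 = x ∧ e 1 = y := by
  have hndT : ∀ w ∈ (⊤ : Submodule F (ι → F)), w ≠ 0 → ∃ z ∈ (⊤ : Submodule F (ι → F)), f z w ≠ 0 :=
    fun w _ hw => by obtain ⟨z, hz⟩ := (hf.nondegenerate w hw).1; exact ⟨z, trivial, hz⟩
  obtain ⟨z, hz, hzx⟩ := exists_perp_ne hf (W := Submodule.span F {y}) hx
  have hzy := hz y (Submodule.mem_span_singleton_self y)
  obtain ⟨g0, hg0x, hg0y⟩ : ∃ g0, f x g0 = 1 ∧ f y g0 = 0 := by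
    refine ⟨(f x z)⁻¹ • z, ?_, ?_⟩
    · rw [smul_right' hf, inv_mul_cancel₀ (by rw [hf.skew]; exact neg_ne_zero.mpr hzx)]
    · rw [smul_right' hf, hf.skew y z, hzy, neg_zero, mul_zero]
  obtain ⟨W₁, hd, hsub, hnd₁, hproj⟩ := exists_split hf hndT (v := x) (w := g0) trivial trivial hg0x
  have hyW : y ∈ W₁ := by
    have := hproj y trivial
    rwa [hg0y, hf.skew y x, hxy, zero_smul, sub_zero, neg_zero, zero_smul, add_zero] at this
  obtain ⟨g1, hg1, hyg1⟩ := exists_pair hf hnd₁ hyW hy
  obtain ⟨W₂, hd₂, hsub₂, hnd₂, -⟩ := exists_split hf hnd₁ hyW hg1 hyg1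
  rw [finrank_top, Module.finrank_fintype_fun_eq_card] at hd
  obtain ⟨e, g, hfr, he, hg⟩ := exists_frame hf k hnd₂ (by omega)
  have h1 : ∀ z ∈ W₁, f z x = 0 ∧ f x z = 0 ∧ f z g0 = 0 ∧ f g0 z = 0 := fun z hz => by
    obtain ⟨-, a, b⟩ := hsub z hz
    exact ⟨a, by rw [hf.skew, a, neg_zero], b, by rw [hf.skew, b, neg_zero]⟩
  have h2 : ∀ z ∈ W₂, f z y = 0 ∧ f y z = 0 ∧ f z g1 = 0 ∧ f g1 z = 0 := fun z hz => by
    obtain ⟨-, a, b⟩ := hsub₂ z hz
    exact ⟨a, by rw [hf.skew, a, neg_zero], b, by rw [hf.skew, b, neg_zero]⟩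
  have hW : ∀ z ∈ W₂, z ∈ W₁ := fun z hz => (hsub₂ z hz).1
  refine ⟨Fin.cons x (Fin.cons y e), Fin.cons g0 (Fin.cons g1 g), ⟨fun i j => ?_, fun i j => ?_, fun i j => ?_⟩,
    rfl, rfl⟩
  · cases i using Fin.cases with
    | zero => cases j using Fin.cases with
      | zero => simp [hf.alternating]
      | succ j => cases j using Fin.cases <;> simp [hxy, (h1 _ (hW _ (he _))).2.1]
    | succ i => cases i using Fin.cases with
      | zero => cases j using Fin.cases with
        | zero => simp [(h1 _ hyW).1]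
        | succ j => cases j using Fin.cases <;> simp [hf.alternating, (h2 _ (he _)).2.1]
      | succ i => cases j using Fin.cases with
        | zero => simp [(h1 _ (hW _ (he i))).1]
        | succ j => cases j using Fin.cases <;> simp [(h2 _ (he i)).1, hfr.ee]
  · cases i using Fin.cases with
    | zero => cases j using Fin.cases with
      | zero => simp [hf.alternating]
      | succ j => cases j using Fin.cases <;> simp [(h1 _ hg1).2.2.2, (h1 _ (hW _ (hg _))).2.2.2]
    | succ i => cases i using Fin.cases with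
      | zero => cases j using Fin.cases with
        | zero => simp [(h1 _ hg1).2.2.1]
        | succ j => cases j using Fin.cases <;> simp [hf.alternating, (h2 _ (hg _)).2.2.2]
      | succ i => cases j using Fin.cases with
        | zero => simp [(h1 _ (hW _ (hg i))).2.2.1]
        | succ j => cases j using Fin.cases <;> simp [(h2 _ (hg i)).2.2.1, hfr.gg]
  · cases i using Fin.cases with
    | zero => cases j using Fin.cases with
      | zero => simp [hg0x]
      | succ j => cases j using Fin.cases <;>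
          simp [(h1 _ hg1).2.1, (h1 _ (hW _ (hg _))).2.1, (Fin.succ_ne_zero _).symm]
    | succ i => cases i using Fin.cases with
      | zero => cases j using Fin.cases with
        | zero => simp [hg0y]
        | succ j => cases j using Fin.cases <;>
            simp [hyg1, (h2 _ (hg _)).2.1, (Fin.succ_ne_zero _).symm, Fin.ext_iff]
      | succ i => cases j using Fin.cases with
        | zero => simp [(h1 _ (hW _ (he i))).2.2.1, Fin.succ_ne_zero]
        | succ j => cases j using Fin.cases <;>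
            simp [(h2 _ (he i)).2.2.1, hfr.eg, Fin.ext_iff]

end CfsgLib.Transvec
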