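/-
The isometry group of a quadratic form inside the symplectic group of its polar form, characteristic two.
-/
import Cfsg.Agent.Lib.Transvec.Symplectic

set_option autoImplicit false

namespace CfsgLib.Transvec

open Matrix
open scoped MatrixGroups

variable {ι : Type} [Fintype ι] [DecidableEq ι] {F : Type*} [Field F] {f : (ι → F) → (ι → F) → F}
  {Q : (ι → F) → F} (hf : Cfsg.Geo.IsSymplecticForm f) (hQs : ∀ (c : F) v, Q (c • v) = c ^ 2 * Q v)
  (hQf : ∀ u v, Q (u + v) = Q u + Q v + f u v)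

include hf hQs hQf

lemma quad_add_smul (x v : ι → F) (a : F) : Q (x + a • v) = Q x + a ^ 2 * Q v + a * f x v := by
  rw [hQf, hQs, smul_right' hf]

lemma quad_sT (v : ι → F) (c : F) (x : ι → F) :
    Q ((sT f v c : Matrix ι ι F) *ᵥ x) = Q x + c * f x v ^ 2 * (1 + c * Q v) := by
  rw [sT_mulVec hf, quad_add_smul hf hQs hQf]
  ring

/-- A non-singular vector orthogonal to two given vectors. -/
lemma exists_nonsingular_perp (hdim : 5 ≤ Fintype.card ι) (a b : ι → F) :
    ∃ z, f z a = 0 ∧ f z b = 0 ∧ Q z ≠ 0 := by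
  classical
  by_contra hcon
  simp only [not_exists, not_and, not_not] at hcon
  let B := toBilin hf.bilinear
  set E := Submodule.span F ({a, b} : Set (ι → F)) with hE
  have hmem : ∀ z ∈ B.orthogonal E, f z a = 0 ∧ f z b = 0 := by
    intro z hz
    constructor <;> rw [hf.skew, neg_eq_zero] <;>
      exact LinearMap.BilinForm.mem_orthogonal_iff.mp hz _ (Submodule.subset_span (by simp))
  have hsing : ∀ z ∈ B.orthogonal E, Q z = 0 := fun z hz => hcon z (hmem z hz).1 (hmem z hz).2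
  have hle : B.orthogonal E ≤ E := by
    intro x hx
    rw [← LinearMap.BilinForm.orthogonal_orthogonal (bilin_nondegenerate hf) (bilin_isRefl hf) E,
      LinearMap.BilinForm.mem_orthogonal_iff]
    intro y hy
    have := hQf y x
    rw [hsing _ ((B.orthogonal E).add_mem hy hx), hsing y hy, hsing x hx, zero_add, zero_add] at this
    exact this.symm
  have h1 := Submodule.finrank_mono hle
  have h2 : Module.finrank F E ≤ 2 := by
    refine le_trans (finrank_span_le_card _) ?_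
    rw [Set.toFinset_insert, Set.toFinset_singleton]
    exact Finset.card_le_two
  rw [LinearMap.BilinForm.finrank_orthogonal (bilin_nondegenerate hf),
    Module.finrank_fintype_fun_eq_card] at h1
  omega

lemma iso_of_quad {g : GL ι F} (hg : ∀ v, Q ((g : Matrix ι ι F) *ᵥ v) = Q v) : Iso f g := by
  intro u v
  have h := hg (u + v)
  rw [mulVec_add, hQf, hQf, hg, hg] at h
  exact add_left_cancel h

variable [CharP F 2] {M : Subgroup (GL ι F)}
  (hO : ∀ g : GL ι F, (∀ v, Q ((g : Matrix ι ι F) *ᵥ v) = Q v) → g ∈ M)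

include hO

/-- The transvections preserving the quadratic form. -/
lemma sT_mem_of_mul_eq_one {v : ι → F} {c : F} (h : c * Q v = 1) : sT f v c ∈ M :=
  hO _ fun x => by rw [quad_sT hf hQs hQf, h, CharTwo.add_self_eq_zero, mul_zero, add_zero]

/-- One transvection at a singular vector gives all. -/
lemma full_of_singular [Finite F] {u : ι → F} {c : F} (hu : u ≠ 0) (hQu : Q u = 0) (hc : c ≠ 0)
    (hmem : sT f u c ∈ M) : Full f M u := by
  haveI := Fintype.ofFinite F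
  intro d
  by_cases hd : d = 0
  · rw [hd, sT_zero hf]; exact M.one_mem
  obtain ⟨r, hr⟩ := FiniteField.isSquare_of_char_two (ringChar.eq F 2) (d / c)
  have hr0 : r ≠ 0 := by rintro rfl; simp [hd, hc] at hr
  obtain ⟨y, hy⟩ := (hf.nondegenerate u hu).2
  obtain ⟨y', huy⟩ : ∃ y', f u y' = 1 :=
    ⟨(f u y)⁻¹ • y, by rw [smul_right' hf, inv_mul_cancel₀ hy]⟩
  obtain ⟨w, huw, hQw⟩ : ∃ w, f u w = 1 ∧ Q w = 0 :=
    ⟨y' + Q y' • u, by rw [add_right' hf, huy, smul_right' hf, hf.alternating, mul_zero, add_zero],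
      by rw [quad_add_smul hf hQs hQf, hQu, hf.skew, huy, mul_zero, add_zero, CharTwo.neg_eq, mul_one,
        CharTwo.add_self_eq_zero]⟩
  have h1 : (1 : F) * Q (u + w) = 1 := by rw [hQf, hQu, hQw, huw]; ring
  have h2 : r⁻¹ * Q (r • u + w) = 1 := by
    rw [hQf, hQs, hQu, hQw, smul_left' hf, huw, mul_zero, zero_add, zero_add, mul_one, inv_mul_cancel₀ hr0]
  set g := sT f (r • u + w) r⁻¹ * sT f (u + w) 1 with hg
  have hgM : g ∈ M :=
    M.mul_mem (sT_mem_of_mul_eq_one hf hQs hQf hO h2) (sT_mem_of_mul_eq_one hf hQs hQf hO h1)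
  have hvv : ∀ x : ι → F, x + x = 0 := fun x => funext fun i => CharTwo.add_self_eq_zero (x i)
  have hgu : (g : Matrix ι ι F) *ᵥ u = r • u := by
    rw [hg, mul_mulVec, sT_mulVec hf u (c := (1 : F)) (v := u + w), one_mul, add_right' hf, hf.alternating,
      zero_add, huw, one_smul, ← add_assoc, hvv, zero_add, sT_mulVec hf, add_right' hf,
      hf.alternating, add_zero, smul_right' hf, hf.skew w u, huw, mul_neg_one, CharTwo.neg_eq,
      inv_mul_cancel₀ hr0, one_smul, add_comm (r • u) w, ← add_assoc, hvv, zero_add]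
  have h3 := M.mul_mem (M.mul_mem hgM hmem) (M.inv_mem hgM)
  rw [conj_sT_iso hf ((iso_sT hf _ _).mul (iso_sT hf _ _)), hgu, sT_smul hf] at h3
  have : r ^ 2 * c = d := by rw [sq, ← hr, div_mul_cancel₀ d hc]
  rwa [this] at h3

/-- A group containing the isometries of `Q` and one more element contains every transvection. -/
theorem full_of_quad [Finite F] (hdim : 5 ≤ Fintype.card ι) {g : GL ι F} (hgM : g ∈ M) (hg : Iso f g)
    (hgQ : ∃ v, Q ((g : Matrix ι ι F) *ᵥ v) ≠ Q v) : ∀ x, Full f M x := by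
  haveI := Fintype.ofFinite F
  have hsq : ∀ a : F, ∃ r, r ^ 2 = a := fun a => by
    obtain ⟨r, hr⟩ := FiniteField.isSquare_of_char_two (ringChar.eq F 2) a
    exact ⟨r, by rw [sq, ← hr]⟩
  -- a moved non-singular vector
  obtain ⟨v, hv, hvg⟩ : ∃ v, Q v ≠ 0 ∧ Q ((g : Matrix ι ι F) *ᵥ v) ≠ Q v := by
    by_contra hcon
    simp only [not_exists, not_and, not_not] at hcon
    obtain ⟨x, hx⟩ := hgQ
    by_cases hx0 : Q x = 0
    · obtain ⟨w, hwx, -, hw⟩ := exists_nonsingular_perp hf hQs hQf hdim x x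
      have h := hcon (x + w) (by rwa [hQf, hx0, hf.skew, hwx, neg_zero, add_zero, zero_add])
      rw [mulVec_add, hQf, hQf, hcon w hw, hg, add_left_inj, add_left_inj] at h
      exact hx h
    · exact hx (hcon x hx0)
  obtain ⟨u, hu⟩ : ∃ u, u = (g : Matrix ι ι F) *ᵥ v := ⟨_, rfl⟩
  rw [← hu] at hvg
  have hu0 : u ≠ 0 := hu ▸ mulVec_ne_zero g fun h => hv (by rw [h, ← zero_smul F (0 : ι → F), hQs]; ring)
  have hmem : sT f u (Q v)⁻¹ ∈ M := by
    rw [hu, ← conj_sT_iso hf hg]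
    exact M.mul_mem (M.mul_mem hgM (sT_mem_of_mul_eq_one hf hQs hQf hO (inv_mul_cancel₀ hv))) (M.inv_mem hgM)
  -- a singular full centre
  obtain ⟨s, hs0, hs⟩ : ∃ s, s ≠ 0 ∧ Q s = 0 ∧ Full f M s := by
    by_cases hQu : Q u = 0
    · exact ⟨u, hu0, hQu, full_of_singular hf hQs hQf hO hu0 hQu (inv_ne_zero hv) hmem⟩
    obtain ⟨r, hr⟩ := hsq (Q u)
    have hr0 : r ≠ 0 := by rintro rfl; exact hQu (by rw [← hr]; ring)
    obtain ⟨u1, hu1⟩ : ∃ u1, u1 = r⁻¹ • u := ⟨_, rfl⟩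
    have hQu1 : Q u1 = 1 := by rw [hu1, hQs, ← hr, inv_pow, inv_mul_cancel₀ (pow_ne_zero 2 hr0)]
    obtain ⟨c, hc⟩ : ∃ c, c = (Q v)⁻¹ * Q u := ⟨_, rfl⟩
    have hc0 : c ≠ 0 := hc ▸ mul_ne_zero (inv_ne_zero hv) hQu
    have hc1 : 1 + c ≠ 0 := by
      intro h
      rw [CharTwo.add_eq_zero] at h
      exact hvg ((inv_mul_eq_one₀ hv).mp (hc.symm.trans h.symm)).symm
    have hh : sT f u1 c ∈ M := by
      rw [hu1, sT_smul hf, hc, ← hr]
      have : r⁻¹ ^ 2 * ((Q v)⁻¹ * r ^ 2) = (Q v)⁻¹ := by field_simp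
      rwa [this]
    obtain ⟨t, ht⟩ := hsq (c * (1 + c))⁻¹
    have hu10 : u1 ≠ 0 := hu1 ▸ smul_ne_zero (inv_ne_zero hr0) hu0
    obtain ⟨y, hy⟩ := (hf.nondegenerate u1 hu10).1
    obtain ⟨y', hyu⟩ : ∃ y', f y' u1 = t :=
      ⟨(t / f y u1) • y, by rw [smul_left' hf, div_mul_cancel₀ t hy]⟩
    obtain ⟨z, hzu, hzy, hz⟩ := exists_nonsingular_perp hf hQs hQf hdim u1 y'
    obtain ⟨a, ha⟩ := hsq ((1 + Q y') / Q z)
    obtain ⟨w, hw⟩ : ∃ w, w = y' + a • z := ⟨_, rfl⟩
    have hQw : Q w = 1 := by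
      rw [hw, quad_add_smul hf hQs hQf, hf.skew, hzy, neg_zero, mul_zero, add_zero, ha, div_mul_cancel₀ _ hz,
        add_left_comm, CharTwo.add_self_eq_zero, add_zero]
    have hwu : f w u1 = t := by rw [hw, add_left' hf, smul_left' hf, hzu, mul_zero, add_zero, hyu]
    have hw0 : w ≠ 0 := fun h => by
      rw [h, ← zero_smul F (0 : ι → F), hQs] at hQw; simp at hQw
    obtain ⟨s, hs⟩ : ∃ s, s = (sT f u1 c : Matrix ι ι F) *ᵥ w := ⟨_, rfl⟩
    have hs0 : s ≠ 0 := hs ▸ mulVec_ne_zero _ hw0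
    have hQs' : Q s = 0 := by
      rw [hs, quad_sT hf hQs hQf, hQu1, hwu, ht, hQw, mul_one, mul_right_comm, mul_inv_cancel₀ (mul_ne_zero hc0 hc1),
        CharTwo.add_self_eq_zero]
    refine ⟨s, hs0, hQs', full_of_singular hf hQs hQf hO hs0 hQs' one_ne_zero ?_⟩
    rw [hs, ← conj_sT_iso hf (iso_sT hf _ _)]
    exact M.mul_mem (M.mul_mem hh (sT_mem_of_mul_eq_one hf hQs hQf hO (by rw [one_mul, hQw]))) (M.inv_mem hh)
  obtain ⟨hQs0, hsfull⟩ := hs
  -- vectors not orthogonal to it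
  have hoff : ∀ x, f x s ≠ 0 → Full f M x := by
    intro x hx d
    by_cases hd : d = 0
    · rw [hd, sT_zero hf]; exact M.one_mem
    obtain ⟨r, hr⟩ := hsq d
    have hr0 : r ≠ 0 := by rintro rfl; exact hd (by rw [← hr]; ring)
    obtain ⟨y, hy⟩ : ∃ y, y = r • x := ⟨_, rfl⟩
    have hys : f y s ≠ 0 := by rw [hy, smul_left' hf]; exact mul_ne_zero hr0 hx
    obtain ⟨b, hb⟩ : ∃ b, b = (1 + Q y) / f y s ^ 2 := ⟨_, rfl⟩
    obtain ⟨w, hw⟩ : ∃ w, w = (sT f s b : Matrix ι ι F) *ᵥ y := ⟨_, rfl⟩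
    have hQw : Q w = 1 := by
      rw [hw, quad_sT hf hQs hQf, hQs0, mul_zero, add_zero, mul_one, hb, div_mul_cancel₀ _ (pow_ne_zero 2 hys),
        add_left_comm, CharTwo.add_self_eq_zero, add_zero]
    have h1 := M.mul_mem (M.mul_mem (M.inv_mem (hsfull b))
      (sT_mem_of_mul_eq_one hf hQs hQf hO (v := w) (c := 1) (by rw [one_mul, hQw]))) (hsfull b)
    have h2 : (sT f s b)⁻¹ * sT f w 1 * sT f s b = sT f y 1 := by
      have := conj_sT_iso hf (iso_sT hf s b).inv w 1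
      rw [inv_inv] at this
      rw [this, hw, inv_mulVec_cancel]
    rw [h2, hy, sT_smul hf, mul_one, hr] at h1
    exact h1
  intro z
  by_cases hz : z = 0
  · rw [hz]; exact full_zero hf
  by_cases hzs : f z s = 0
  · obtain ⟨x, -, hxs, hxz⟩ := exists_avoid (⊤ : Submodule F (ι → F)) (φ := fun x => f x s) (ψ := fun x => f x z)
      (fun x y => add_left' hf x y s) (fun x y => add_left' hf x y z)
      (by obtain ⟨x, hx⟩ := (hf.nondegenerate s hs0).1; exact ⟨x, trivial, hx⟩)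
      (by obtain ⟨x, hx⟩ := (hf.nondegenerate z hz).1; exact ⟨x, trivial, hx⟩)
    have h := full_add_smul hf (hoff (z + x) (by rwa [add_left' hf, hzs, zero_add])) (hoff x hxs)
      (by rw [add_left' hf, hf.alternating, add_zero, hf.skew, neg_ne_zero]; exact hxz) (-1)
    rwa [neg_one_smul, add_neg_cancel_right] at h
  · exact hoff z hzs

omit hO

/-- A singular non-zero vector. -/
lemma exists_singular [Finite F] (hdim : 5 ≤ Fintype.card ι) : ∃ x : ι → F, x ≠ 0 ∧ Q x = 0 := by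
  classical
  haveI := Fintype.ofFinite F
  haveI : Nonempty ι := Fintype.card_pos_iff.mp (by omega)
  obtain ⟨u, hu⟩ := exists_ne (0 : ι → F)
  by_cases hQu : Q u = 0
  · exact ⟨u, hu, hQu⟩
  obtain ⟨y, hy⟩ := (hf.nondegenerate u hu).2
  obtain ⟨z, hzu, hzy, hz⟩ := exists_nonsingular_perp hf hQs hQf hdim u y
  obtain ⟨a, ha⟩ := FiniteField.isSquare_of_char_two (ringChar.eq F 2) (Q z / Q u)
  refine ⟨z + a • u, fun h => ?_, ?_⟩
  · have h1 : f (z + a • u) y = 0 := by rw [h, zero_left' hf]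
    rw [add_left' hf, smul_left' hf, hzy, zero_add, mul_eq_zero, or_iff_left hy] at h1
    rw [h1, mul_zero, div_eq_zero_iff] at ha
    exact ha.elim hz hQu
  · rw [quad_add_smul hf hQs hQf, hzu, mul_zero, add_zero, sq, ← ha, div_mul_cancel₀ _ hQu,
      CharTwo.add_self_eq_zero]

end CfsgLib.Transvec
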