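/-
The symplectic group over a subfield of prime index is maximal: the transvection closure argument.
-/
import Cfsg.Agent.Lib.Transvec.ShortRoot
import Cfsg.Agent.Lib.Transvec.Subfield

set_option autoImplicit false

namespace CfsgLib.Transvec.SpSubfield

open Matrix CfsgLib.Transvec
open scoped MatrixGroups

variable {ι : Type} [Fintype ι] [DecidableEq ι] {F : Type*} [Field F] {F₀ : Subfield F} {P : GL ι F}
  {f : (ι → F) → (ι → F) → F}

/-- The rational vector with coordinates `u`. -/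
def rv (P : GL ι F) (u : ι → F₀) : ι → F := (P : Matrix ι ι F) *ᵥ coeVec F₀ u

lemma rv_add (u v : ι → F₀) : rv P (u + v) = rv P u + rv P v := by rw [rv, coeVec_add, mulVec_add]; rfl

lemma rv_smul (c : F₀) (u : ι → F₀) : rv P (c • u) = (c : F) • rv P u := by rw [rv, coeVec_smul, mulVec_smul]; rfl

lemma rv_zero : rv P (0 : ι → F₀) = 0 := by rw [rv, coeVec_zero, mulVec_zero]

lemma gl_ext_rv {g h : GL ι F}
    (H : ∀ u : ι → F₀, (g : Matrix ι ι F) *ᵥ rv P u = (h : Matrix ι ι F) *ᵥ rv P u) : g = h := by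
  refine gl_ext fun x => ?_
  refine Submodule.span_induction (p := fun x _ => (g : Matrix ι ι F) *ᵥ x = (h : Matrix ι ι F) *ᵥ x) ?_ ?_ ?_ ?_
    (mem_span_rational (F₀ := F₀) (P := P) x)
  · rintro _ ⟨u, rfl⟩; exact H u
  · simp
  · intro a b _ _ ha hb; rw [mulVec_add, mulVec_add, ha, hb]
  · intro c a _ ha; rw [mulVec_smul, mulVec_smul, ha]

lemma hom_rv (h : GL ι F₀) (u : ι → F₀) :
    ((subfieldHom F₀ P h : GL ι F) : Matrix ι ι F) *ᵥ rv P u = rv P ((h : Matrix ι ι F₀) *ᵥ u) :=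
  subfieldHom_mulVec h u

/-- The form on rational coordinates. -/
def rForm (hR : ∀ u v : ι → F₀, f (rv P u) (rv P v) ∈ F₀) (u v : ι → F₀) : F₀ := ⟨f (rv P u) (rv P v), hR u v⟩

variable (hf : Cfsg.Geo.IsSymplecticForm f) (hR : ∀ u v : ι → F₀, f (rv P u) (rv P v) ∈ F₀)

include hf

lemma eq_zero_of_rv {x : ι → F} (h : ∀ u : ι → F₀, f (rv P u) x = 0) : x = 0 := by
  by_contra hx
  obtain ⟨y, hy⟩ := (hf.nondegenerate x hx).1
  refine hy ?_
  refine Submodule.span_induction (p := fun y _ => f y x = 0) ?_ (zero_left' hf x) ?_ ?_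
    (mem_span_rational (F₀ := F₀) (P := P) y)
  · rintro _ ⟨u, rfl⟩; exact h u
  · intro a b _ _ ha hb; rw [add_left' hf, ha, hb, add_zero]
  · intro c a _ ha; rw [smul_left' hf, ha, mul_zero]

include hR

lemma isSymplectic_rForm : Cfsg.Geo.IsSymplecticForm (rForm hR) := by
  refine ⟨⟨fun x y v => ?_, fun c x v => ?_, fun v x y => ?_, fun c v x => ?_⟩, fun v w => ?_, fun v => ?_,
    fun v hv => ?_⟩
  · exact Subtype.ext (by simp [rForm, rv_add, add_left' hf])
  · exact Subtype.ext (by simp [rForm, rv_smul, smul_left' hf])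
  · exact Subtype.ext (by simp [rForm, rv_add, add_right' hf])
  · exact Subtype.ext (by simp [rForm, rv_smul, smul_right' hf])
  · exact Subtype.ext (hf.skew _ _)
  · exact Subtype.ext (hf.alternating _)
  · obtain ⟨u, hu⟩ : ∃ u : ι → F₀, f (rv P u) (rv P v) ≠ 0 := by
      by_contra hcon
      simp only [not_exists, not_not] at hcon
      exact mulVec_ne_zero P (fun h => hv (coeVec_injective (h.trans coeVec_zero.symm))) (eq_zero_of_rv (F₀ := F₀) (P := P) hf hcon)
    refine ⟨⟨u, fun h => hu (congrArg Subtype.val h)⟩, ⟨u, fun h => hu ?_⟩⟩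
    rw [hf.skew, show f (rv P v) (rv P u) = 0 from congrArg Subtype.val h, neg_zero]

lemma iso_hom {h : GL ι F₀} (hh : Iso (rForm hR) h) : Iso f (subfieldHom F₀ P h) := by
  intro x y
  refine Submodule.span_induction
    (p := fun x _ => f (((subfieldHom F₀ P h : GL ι F) : Matrix ι ι F) *ᵥ x)
      (((subfieldHom F₀ P h : GL ι F) : Matrix ι ι F) *ᵥ y) = f x y) ?_ ?_ ?_ ?_
    (mem_span_rational (F₀ := F₀) (P := P) x)
  · rintro _ ⟨u, rfl⟩
    refine Submodule.span_induction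
      (p := fun y _ => f (((subfieldHom F₀ P h : GL ι F) : Matrix ι ι F) *ᵥ rv P u)
        (((subfieldHom F₀ P h : GL ι F) : Matrix ι ι F) *ᵥ y) = f (rv P u) y) ?_ ?_ ?_ ?_
      (mem_span_rational (F₀ := F₀) (P := P) y)
    · rintro _ ⟨v, rfl⟩
      change f (((subfieldHom F₀ P h : GL ι F) : Matrix ι ι F) *ᵥ rv P u)
        (((subfieldHom F₀ P h : GL ι F) : Matrix ι ι F) *ᵥ rv P v) = f (rv P u) (rv P v)
      rw [hom_rv, hom_rv]
      exact congrArg Subtype.val (hh u v)
    · rw [mulVec_zero, zero_right' hf, zero_right' hf]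
    · intro a b _ _ ha hb; rw [mulVec_add, add_right' hf, add_right' hf, ha, hb]
    · intro c a _ ha; rw [mulVec_smul, smul_right' hf, smul_right' hf, ha]
  · rw [mulVec_zero, zero_left' hf, zero_left' hf]
  · intro a b _ _ ha hb; rw [mulVec_add, add_left' hf, add_left' hf, ha, hb]
  · intro c a _ ha; rw [mulVec_smul, smul_left' hf, smul_left' hf, ha]

/-- A vector whose products with all pairs of orthogonal rational vectors lie in the subfield spans a rational
line. -/
lemma exists_pair_not_mem (hdim : 5 ≤ Fintype.card ι) {v : ι → F}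
    (hv : ∀ (l : F) (r : ι → F₀), v ≠ l • rv P r) :
    ∃ x y : ι → F₀, rForm hR x y = 0 ∧ x ∉ Submodule.span F₀ {y} ∧ y ≠ 0 ∧
      f v (rv P x) * f v (rv P y) ∉ F₀ := by
  classical
  by_contra hcon
  simp only [not_exists, not_and, not_not] at hcon
  have hB := isSymplectic_rForm hf hR
  obtain ⟨a, ha⟩ : ∃ a : (ι → F₀) → F, ∀ x, a x = f v (rv P x) := ⟨_, fun _ => rfl⟩
  have hadd : ∀ x y, a (x + y) = a x + a y := fun x y => by rw [ha, ha, ha, rv_add, add_right' hf]
  have hsmul : ∀ (c : F₀) x, a (c • x) = (c : F) * a x := fun c x => by rw [ha, ha, rv_smul, smul_right' hf]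
  have hzero : a 0 = 0 := by rw [ha, rv_zero, zero_right' hf]
  simp only [← ha] at hcon
  have hv0 : v ≠ 0 := fun h => hv 0 0 (by rw [h, zero_smul])
  obtain ⟨x0, hx0⟩ : ∃ x0, a x0 ≠ 0 := by
    by_contra h
    simp only [not_exists, not_not] at h
    exact hv0 (eq_zero_of_rv (F₀ := F₀) (P := P) hf fun u => by rw [hf.skew, ← ha, h, neg_zero])
  have hratio : ∀ x, a x / a x0 ∈ F₀ := by
    intro x
    by_cases hax : a x = 0
    · rw [hax, zero_div]; exact zero_mem F₀
    obtain ⟨S, hS⟩ : ∃ S, S = Submodule.span F₀ ({x0, x} : Set (ι → F₀)) := ⟨_, rfl⟩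
    have hx0S : x0 ∈ S := hS ▸ Submodule.subset_span (by simp)
    have hxS : x ∈ S := hS ▸ Submodule.subset_span (by simp)
    by_cases hex : ∃ y, y ∉ S ∧ (∀ w ∈ S, rForm hR y w = 0) ∧ a y ≠ 0
    · obtain ⟨y, hyS, hy, hay⟩ := hex
      have hy0 : y ≠ 0 := fun h => hyS (h ▸ S.zero_mem)
      have hout : ∀ z ∈ S, a z ≠ 0 → a z * a y ∈ F₀ := fun z hz haz => by
        refine hcon z y (by rw [hB.skew, hy z hz, neg_zero]) (fun hm => hyS ?_) hy0
        obtain ⟨j, hj⟩ := Submodule.mem_span_singleton.mp hm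
        have hj0 : j ≠ 0 := fun h => haz (by rw [← hj, h, zero_smul, hzero])
        exact (S.smul_mem_iff hj0).mp (hj ▸ hz)
      have := div_mem (hout x hxS hax) (hout x0 hx0S hx0)
      rwa [mul_div_mul_right _ _ hay] at this
    simp only [not_exists, not_and, not_not] at hex
    have hS2 : Module.finrank F₀ S ≤ 2 := by
      rw [hS]
      refine le_trans (finrank_span_le_card _) ?_
      rw [Set.toFinset_insert, Set.toFinset_singleton]
      exact Finset.card_le_two
    obtain ⟨z, hz, hzS⟩ : ∃ z, (∀ w ∈ S, rForm hR z w = 0) ∧ z ∉ S := by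
      by_contra h
      simp only [not_exists, not_and, not_not] at h
      have hle : (toBilin hB.bilinear).orthogonal S ≤ S := fun z hz => h z fun w hw => by
        rw [hB.skew, show rForm hR w z = 0 from LinearMap.BilinForm.mem_orthogonal_iff.mp hz w hw, neg_zero]
      have h1 := Submodule.finrank_mono hle
      rw [LinearMap.BilinForm.finrank_orthogonal (bilin_nondegenerate hB),
        Module.finrank_fintype_fun_eq_card] at h1
      omega
    have hK : ∀ y, (∀ w ∈ S, rForm hR y w = 0) → a y = 0 := by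
      intro y hy
      by_cases hyS : y ∈ S
      · have h1 := hex (y + z) (fun h => hzS (by simpa using S.sub_mem h hyS))
          (fun w hw => by rw [add_left' hB, hy w hw, hz w hw, add_zero])
        rw [hadd, hex z hzS hz, add_zero] at h1
        exact h1
      · exact hex y hyS hy
    have hx0ne : x0 ≠ 0 := fun h => hx0 (by rw [h, hzero])
    have hxne : x ≠ 0 := fun h => hax (by rw [h, hzero])
    by_cases hdep : x ∈ Submodule.span F₀ {x0}
    · obtain ⟨j, rfl⟩ := Submodule.mem_span_singleton.mp hdep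
      rw [hsmul, mul_div_cancel_right₀ _ hx0]; exact j.2
    have hdep' : x0 ∉ Submodule.span F₀ {x} := fun h => hdep (by
      obtain ⟨j, hj⟩ := Submodule.mem_span_singleton.mp h
      have hj0 : j ≠ 0 := fun h0 => hx0ne (by rw [← hj, h0, zero_smul])
      exact Submodule.mem_span_singleton.mpr ⟨j⁻¹, by rw [← hj, inv_smul_smul₀ hj0]⟩)
    obtain ⟨w1, hw1, hw1'⟩ := exists_perp_ne hB hdep'
    have hw1x := hw1 x (Submodule.mem_span_singleton_self x)
    obtain ⟨w2, hw2, hw2'⟩ := exists_perp_ne hB hdep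
    have hw2x := hw2 x0 (Submodule.mem_span_singleton_self x0)
    obtain ⟨u1, hu1a, hu1b⟩ : ∃ u, rForm hR u x0 = 1 ∧ rForm hR u x = 0 :=
      ⟨(rForm hR w1 x0)⁻¹ • w1, by rw [smul_left' hB, inv_mul_cancel₀ hw1'], by rw [smul_left' hB, hw1x, mul_zero]⟩
    obtain ⟨u2, hu2a, hu2b⟩ : ∃ u, rForm hR u x0 = 0 ∧ rForm hR u x = 1 :=
      ⟨(rForm hR w2 x)⁻¹ • w2, by rw [smul_left' hB, hw2x, mul_zero], by rw [smul_left' hB, inv_mul_cancel₀ hw2']⟩
    -- make u1 lie outside S
    obtain ⟨y1, hy1a, hy1b, hy1S⟩ : ∃ u, rForm hR u x0 = 1 ∧ rForm hR u x = 0 ∧ u ∉ S := by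
      by_cases h : u1 ∈ S
      · exact ⟨u1 + z, by rw [add_left' hB, hu1a, hz x0 hx0S, add_zero],
          by rw [add_left' hB, hu1b, hz x hxS, add_zero], fun h' => hzS (by simpa using S.sub_mem h' h)⟩
      · exact ⟨u1, hu1a, hu1b, h⟩
    obtain ⟨k, hk, hky⟩ := exists_perp_ne hB hy1S
    obtain ⟨y2, hy2a, hy2b, hy12⟩ : ∃ u, rForm hR u x0 = 0 ∧ rForm hR u x = 1 ∧ rForm hR u y1 = 0 := by
      refine ⟨u2 - (rForm hR u2 y1 / rForm hR k y1) • k, ?_, ?_, ?_⟩ <;> rw [sub_left' hB, smul_left' hB]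
      · rw [hk x0 hx0S, mul_zero, sub_zero, hu2a]
      · rw [hk x hxS, mul_zero, sub_zero, hu2b]
      · rw [div_mul_cancel₀ _ hky, sub_self]
    have hlin : ∀ y, a y = (rForm hR y x0 : F) * a y1 + (rForm hR y x : F) * a y2 := by
      intro y
      have h1 := hK (y - rForm hR y x0 • y1 - rForm hR y x • y2) fun w hw => by
        rw [hS, Submodule.mem_span_pair] at hw
        obtain ⟨i, j, rfl⟩ := hw
        simp only [sub_left' hB, smul_left' hB, add_right' hB, smul_right' hB, hy1a, hy1b, hy2a, hy2b]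
        ring
      have hsub : ∀ p q, a (p - q) = a p - a q := fun p q => by rw [ha, ha, ha]; rw [← sub_right' hf]; congr 1; simp only [rv, ← mulVec_sub]; rfl
      rw [hsub, hsub, hsmul, hsmul] at h1
      linear_combination h1
    have hpair : ∀ p q : ι → F₀, rForm hR p q = 0 →
        rForm hR p x0 * rForm hR q x ≠ rForm hR q x0 * rForm hR p x → a p * a q ∈ F₀ := by
      intro p q hpq hne
      refine hcon p q hpq (fun hm => hne ?_) (fun h => hne ?_)
      · obtain ⟨j, rfl⟩ := Submodule.mem_span_singleton.mp hm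
        simp only [smul_left' hB]; ring
      · rw [h, zero_left' hB, zero_left' hB]; ring
    have h12 := hpair y1 y2 (by rw [hB.skew, hy12, neg_zero]) (by rw [hy1a, hy1b, hy2a, hy2b]; simp)
    have h22 := hpair (y1 + y2) y2 (by rw [add_left' hB, hB.skew y1, hy12, hB.alternating]; simp)
      (by simp only [add_left' hB, hy1a, hy1b, hy2a, hy2b]; simp)
    rw [hadd, add_mul] at h22
    have hββ : a y2 * a y2 ∈ F₀ := by simpa using sub_mem h22 h12
    have e0 : a x0 = (rForm hR x0 x : F) * a y2 := by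
      have := hlin x0
      rw [hB.alternating] at this
      simpa using this
    have e1 : a x = (rForm hR x x0 : F) * a y1 := by
      have := hlin x
      rw [hB.alternating] at this
      simpa using this
    have hβ : a y2 ≠ 0 := fun h => hx0 (by rw [e0, h, mul_zero])
    have hq : a y1 / a y2 ∈ F₀ := by
      have := div_mem h12 hββ
      rwa [mul_div_mul_right _ _ hβ] at this
    rw [e0, e1, mul_div_mul_comm]
    exact mul_mem (div_mem (rForm hR x x0).2 (rForm hR x0 x).2) hq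
  obtain ⟨φ, hφ⟩ : ∃ φ : ι → F₀, ∀ j, (φ j : F) = a (Pi.single j 1) / a x0 :=
    ⟨fun j => ⟨_, hratio (Pi.single j 1)⟩, fun _ => rfl⟩
  obtain ⟨r, hr⟩ := fvec_surjective hB φ
  have hval : ∀ j, f (rv P (Pi.single j 1 : ι → F₀)) (rv P r) = a (Pi.single j 1) / a x0 := fun j => by
    rw [← hφ, ← hr]; rfl
  refine hv (-a x0) r (sub_eq_zero.mp (eq_zero_of_rv (F₀ := F₀) (P := P) hf fun u => ?_))
  have hu : u = ∑ j, u j • (Pi.single j 1 : ι → F₀) := by
    funext i; simp [Finset.sum_apply, Pi.single_apply]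
  let T : (ι → F₀) →+ F :=
    { toFun := fun u => f (rv P u) (v - (-a x0) • rv P r)
      map_zero' := by rw [rv_zero, zero_left' hf]
      map_add' := fun x y => by rw [rv_add, add_left' hf] }
  change T u = 0
  rw [hu, map_sum]
  refine Finset.sum_eq_zero fun j _ => ?_
  change f (rv P (u j • (Pi.single j 1 : ι → F₀))) (v - (-a x0) • rv P r) = 0
  rw [rv_smul, smul_left' hf, sub_right' hf, smul_right' hf, hval, hf.skew _ v, ← ha]
  field_simp
  ring

variable {M : Subgroup (GL ι F)}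

/-- A subgroup containing the rational symplectic group and one non-rational transvection contains every
transvection. -/
theorem all_full [Finite F] (hdim : 6 ≤ Fintype.card ι) (hgen : ∀ R : Subfield F, F₀ < R → R = ⊤)
    (hM : ∀ h : GL ι F₀, Iso (rForm hR) h → subfieldHom F₀ P h ∈ M) {v : ι → F}
    (hv : ∀ (l : F) (r : ι → F₀), v ≠ l • rv P r) (hvM : sT f v 1 ∈ M) : ∀ x, Full f M x := by
  classical
  haveI := Fintype.ofFinite F
  have hB := isSymplectic_rForm hf hR
  have hall : ∀ w, Full (rForm hR) (M.comap (subfieldHom F₀ P)) w := fun w c => hM _ (iso_sT hB w c)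
  have hTrat : ∀ (w : ι → F₀) (c : F₀), sT f (rv P w) (c : F) ∈ M := by
    intro w c
    have e : subfieldHom F₀ P (sT (rForm hR) w c) = sT f (rv P w) (c : F) := gl_ext_rv (P := P) fun u => by
      rw [hom_rv, sT_mulVec hB, rv_add, rv_smul, sT_mulVec hf]; rfl
    rw [← e]; exact hall w c
  have hfz : ∀ {s u : ι → F₀}, rForm hR s u = 0 → f (rv P s) (rv P u) = 0 := fun h => congrArg Subtype.val h
  have hXrat : ∀ (s u : ι → F₀) (c : F₀), sX f (rv P s) (rv P u) (c : F) ∈ M := by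
    intro s u c
    rw [sX, ← rv_add]
    have h1 := hTrat s (-c)
    have h2 := hTrat u (-c)
    push_cast at h1 h2
    exact M.mul_mem (M.mul_mem (hTrat _ c) h1) h2
  -- scalars
  obtain ⟨LA, hLA⟩ : ∃ LA : Set F, ∀ l, l ∈ LA ↔ ∀ r : ι → F₀, sT f (rv P r) l ∈ M :=
    ⟨{l | ∀ r : ι → F₀, sT f (rv P r) l ∈ M}, fun _ => Iff.rfl⟩
  obtain ⟨LB, hLB⟩ : ∃ LB : Set F, ∀ l, l ∈ LB ↔ ∀ s u : ι → F₀,
      rForm hR s u = 0 → s ∉ Submodule.span F₀ {u} → u ≠ 0 → sX f (rv P s) (rv P u) l ∈ M :=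
    ⟨{l | ∀ s u : ι → F₀,
      rForm hR s u = 0 → s ∉ Submodule.span F₀ {u} → u ≠ 0 → sX f (rv P s) (rv P u) l ∈ M}, fun _ => Iff.rfl⟩
  have moveA : ∀ (r : ι → F₀) (l : F), r ≠ 0 → sT f (rv P r) l ∈ M → l ∈ LA := by
    intro r l hr hm
    rw [hLA]
    intro r'
    by_cases hr' : r' = 0
    · rw [hr', rv_zero]
      have : sT f (0 : ι → F) l = 1 := gl_ext fun x => by rw [sT_mulVec hf]; simp
      rw [this]; exact M.one_mem
    obtain ⟨h, hh, hi, he, -⟩ := exists_move_fix hB hall (⊥ : Submodule F₀ (ι → F₀)) (v := r) (b := r')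
      (by simpa using hr) (by simpa using hr')
      (fun e he => by rw [(Submodule.mem_bot F₀).mp he, zero_left' hB, zero_left' hB])
    have h1 := M.mul_mem (M.mul_mem (Subgroup.mem_comap.mp hh) hm) (M.inv_mem (Subgroup.mem_comap.mp hh))
    rwa [conj_sT_iso hf (iso_hom hf hR hi), hom_rv, he] at h1
  have moveB : ∀ (s u : ι → F₀) (l : F), rForm hR s u = 0 → s ∉ Submodule.span F₀ {u} → u ≠ 0 →
      sX f (rv P s) (rv P u) l ∈ M → l ∈ LB := by
    intro s u l hsu hs hu hm
    rw [hLB]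
    intro s' u' hsu' hs' hu'
    obtain ⟨h₁, hh₁, hi₁, he₁, -⟩ := exists_move_fix hB hall (⊥ : Submodule F₀ (ι → F₀)) (v := u) (b := u')
      (by simpa using hu) (by simpa using hu')
      (fun e he => by rw [(Submodule.mem_bot F₀).mp he, zero_left' hB, zero_left' hB])
    have hb₁ : (h₁ : Matrix ι ι F₀) *ᵥ s ∉ Submodule.span F₀ {u'} := fun hm => by
      obtain ⟨j, hj⟩ := Submodule.mem_span_singleton.mp hm
      refine hs (Submodule.mem_span_singleton.mpr ⟨j, mulVec_injective h₁ ?_⟩)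
      simp only [mulVec_smul, he₁, hj]
    obtain ⟨h₂, hh₂, hi₂, he₂, hfix₂⟩ := exists_move_fix hB hall (Submodule.span F₀ {u'})
      (v := (h₁ : Matrix ι ι F₀) *ᵥ s) (b := s') hb₁ hs' (fun e he => by
        obtain ⟨j, rfl⟩ := Submodule.mem_span_singleton.mp he
        rw [smul_left' hB, smul_left' hB, hB.skew u' s', hsu', neg_zero]
        conv_lhs => rw [← he₁, hi₁, hB.skew, hsu, neg_zero])
    have hmem : subfieldHom F₀ P (h₂ * h₁) ∈ M := Subgroup.mem_comap.mp (mul_mem hh₂ hh₁)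
    have h1 := M.mul_mem (M.mul_mem hmem hm) (M.inv_mem hmem)
    rwa [conj_sX hf (iso_hom hf hR (hi₂.mul hi₁)), hom_rv, hom_rv, mul_mulVec, mul_mulVec, he₁, he₂,
      hfix₂ u' (Submodule.mem_span_singleton_self u')] at h1
  have hA0 : ∀ c : F₀, (c : F) ∈ LA := fun c => (hLA _).mpr fun r => hTrat r c
  have hB0 : ∀ c : F₀, (c : F) ∈ LB := fun c => (hLB _).mpr fun s u _ _ _ => hXrat s u c
  have hA1 : (1 : F) ∈ LA := by simpa using hA0 1
  have hB1 : (1 : F) ∈ LB := by simpa using hB0 1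
  have hAadd : ∀ {a b}, a ∈ LA → b ∈ LA → a + b ∈ LA := fun ha hb => (hLA _).mpr fun r => by
    rw [← sT_mul hf]; exact M.mul_mem ((hLA _).mp ha r) ((hLA _).mp hb r)
  have hAneg : ∀ {a}, a ∈ LA → -a ∈ LA := fun ha => (hLA _).mpr fun r => by
    rw [← sT_inv hf]; exact M.inv_mem ((hLA _).mp ha r)
  have hBadd : ∀ {a b}, a ∈ LB → b ∈ LB → a + b ∈ LB := fun ha hb => (hLB _).mpr fun s u h1 h2 h3 => by
    rw [← sX_mul hf (hfz h1)]; exact M.mul_mem ((hLB _).mp ha s u h1 h2 h3) ((hLB _).mp hb s u h1 h2 h3)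
  have hBneg : ∀ {a}, a ∈ LB → -a ∈ LB := fun ha => (hLB _).mpr fun s u h1 h2 h3 => by
    rw [← sX_inv hf (hfz h1)]; exact M.inv_mem ((hLB _).mp ha s u h1 h2 h3)
  -- frames
  have hfr : ∀ {k : ℕ} {e g : Fin k → ι → F₀}, Frame (rForm hR) e g →
      Frame f (fun i => rv P (e i)) (fun i => rv P (g i)) := by
    intro k e g h
    refine ⟨fun i j => hfz (h.ee i j), fun i j => hfz (h.gg i j), fun i j => ?_⟩
    have := congrArg Subtype.val (h.eg i j)
    simp only [rForm] at this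
    rw [this]
    split_ifs <;> rfl
  have hgood : ∀ {k : ℕ} {e g : Fin k → ι → F₀}, Frame (rForm hR) e g → ∀ i j, i ≠ j →
      e i ∉ Submodule.span F₀ {e j} ∧ e j ≠ 0 := by
    intro k e g h i j hij
    refine ⟨fun hm => ?_, fun h0 => ?_⟩
    · obtain ⟨c, hc⟩ := Submodule.mem_span_singleton.mp hm
      have h1 := h.eg i i
      rw [if_pos rfl, ← hc, smul_left' hB, h.eg, if_neg hij.symm, mul_zero] at h1
      exact zero_ne_one h1
    · have h1 := h.eg j j
      rw [if_pos rfl, h0, zero_left' hB] at h1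
      exact zero_ne_one h1
  -- the basic rule
  have rule : ∀ {l c}, l ∈ LB → c ∈ LA → l * c ∈ LB ∧ l ^ 2 * c ∈ LA := by
    intro l c hl hc
    have hnd : ∀ w ∈ (⊤ : Submodule F₀ (ι → F₀)), w ≠ 0 → ∃ z ∈ (⊤ : Submodule F₀ (ι → F₀)), rForm hR z w ≠ 0 :=
      fun w _ hw => by obtain ⟨z, hz⟩ := (hB.nondegenerate w hw).1; exact ⟨z, trivial, hz⟩
    obtain ⟨e, g, h, -, -⟩ := exists_frame hB 3 hnd (by rw [finrank_top, Module.finrank_fintype_fun_eq_card]; omega)
    have h' := hfr h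
    obtain ⟨E0, hE0⟩ : ∃ E0, E0 = rv P (e 0) := ⟨_, rfl⟩
    obtain ⟨E1, hE1⟩ : ∃ E1, E1 = rv P (e 1) := ⟨_, rfl⟩
    obtain ⟨E2, hE2⟩ : ∃ E2, E2 = rv P (e 2) := ⟨_, rfl⟩
    obtain ⟨G1, hG1⟩ : ∃ G1, G1 = rv P (g 1) := ⟨_, rfl⟩
    have e01 : f E0 E1 = 0 := hE0 ▸ hE1 ▸ h'.ee 0 1
    have e02 : f E0 E2 = 0 := hE0 ▸ hE2 ▸ h'.ee 0 2
    have e12 : f E1 E2 = 0 := hE1 ▸ hE2 ▸ h'.ee 1 2
    have g01 : f E0 G1 = 0 := by rw [hE0, hG1, h'.eg]; simp
    have g11 : f E1 G1 = 1 := by rw [hE1, hG1, h'.eg]; simp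
    have g21 : f E2 G1 = 0 := by rw [hE2, hG1, h'.eg]; simp
    have G10 : f G1 E0 = 0 := by rw [hf.skew, g01, neg_zero]
    have G11 : f G1 E1 = -1 := by rw [hf.skew, g11]
    have G12 : f G1 E2 = 0 := by rw [hf.skew, g21, neg_zero]
    have hX : sX f E0 E1 l ∈ M :=
      hE0 ▸ hE1 ▸ (hLB _).mp hl _ _ (h.ee 0 1) (hgood h 0 1 (by decide)).1 (hgood h 0 1 (by decide)).2
    have hT : sT f G1 c ∈ M := hG1 ▸ (hLA _).mp hc _
    have h1 := M.mul_mem (M.mul_mem hX hT) (M.inv_mem hX)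
    rw [conj_sT_iso hf (iso_sX hf _ _ _), sX_mulVec hf e01, G10, G11, mul_zero, zero_smul, add_zero,
      sT_add_smul hf g01] at h1
    have hZ : sX f E0 G1 (l * -1 * c) * sT f E0 ((l * -1) ^ 2 * c) ∈ M := by
      have := M.mul_mem (M.inv_mem hT) h1
      rwa [mul_assoc (sT f G1 c), inv_mul_cancel_left] at this
    have hh : sX f E1 E2 (1 : F) ∈ M := by rw [hE1, hE2]; simpa using hXrat (e 1) (e 2) 1
    have h2 := sX_ratio hf g01 (e := (-1 : F) • E2) (by rw [smul_right' hf, e02, mul_zero])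
      (by rw [smul_left' hf, g21, mul_zero]) hZ hh (iso_sX hf _ _ _)
      (by rw [sX_mulVec hf e12, e01, e02]; simp)
      (by rw [sX_mulVec hf e12, G11, G12]; simp)
    rw [sX_smul_right hf e02, show (-1 : F) * (l * -1 * c) = l * c by ring, hE0, hE2] at h2
    have hlc : l * c ∈ LB := moveB _ _ _ (h.ee 0 2) (hgood h 0 2 (by decide)).1 (hgood h 0 2 (by decide)).2 h2
    refine ⟨hlc, moveA (e 0) _ (hgood h 1 0 (by decide)).2 ?_⟩
    have hgi : e 0 ∉ Submodule.span F₀ {g 1} ∧ g 1 ≠ 0 := by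
      refine ⟨fun hm => ?_, fun h0 => ?_⟩
      · obtain ⟨j, hj⟩ := Submodule.mem_span_singleton.mp hm
        have h4 := h.eg 0 0
        rw [if_pos rfl, ← hj, smul_left' hB, h.gg, mul_zero] at h4
        exact zero_ne_one h4
      · have h4 := h.eg 1 1
        rw [if_pos rfl, h0, zero_right' hB] at h4
        exact zero_ne_one h4
    have h3 : sX f E0 G1 (l * -1 * c) ∈ M := by
      rw [show l * -1 * c = -(l * c) by ring, hE0, hG1]
      exact (hLB _).mp (hBneg hlc) _ _ (by rw [h.eg, if_neg (by decide)]) hgi.1 hgi.2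
    have := M.mul_mem (M.inv_mem h3) hZ
    rwa [inv_mul_cancel_left, show (l * -1) ^ 2 * c = l ^ 2 * c by ring, hE0] at this
  -- a non-rational short scalar
  obtain ⟨μ₀, hμ₀, hμ₀'⟩ : ∃ μ, μ ∈ LB ∧ μ ∉ F₀ := by
    obtain ⟨x, y, hxy, hxys, hy0, hprod⟩ := exists_pair_not_mem hf hR (by omega) hv
    obtain ⟨e, g, h, he0, he1⟩ := exists_frame_extend hB (k := 1) (by omega) hxy hxys hy0
    have h' := hfr h
    have hE : ∀ i j, f (rv P (e i)) (rv P (e j)) = 0 := h'.ee
    have hEG : ∀ i j, f (rv P (e i)) (rv P (g j)) = if i = j then 1 else 0 := h'.eg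
    have hG : ∀ i j, f (rv P (g i)) (rv P (g j)) = 0 := h'.gg
    have hGE : ∀ i j, f (rv P (g i)) (rv P (e j)) = if j = i then -1 else 0 := fun i j => by
      rw [hf.skew, hEG]; split_ifs <;> simp
    have hone : ((1 : F₀) : F) = 1 := rfl
    have hX1 : ∀ s u : ι → F₀, sX f (rv P s) (rv P u) 1 ∈ M := fun s u => hone ▸ hXrat s u 1
    have hT1 : ∀ r : ι → F₀, sT f (rv P r) 1 ∈ M := fun r => hone ▸ hTrat r 1
    by_cases h2 : (2 : F) = 0
    · -- characteristic two
      obtain ⟨w, hw⟩ : ∃ w, w = f v (rv P (e 1)) • rv P (e 0) + f v (rv P (e 0)) • rv P (e 1) := ⟨_, rfl⟩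
      obtain ⟨w', hw'⟩ : ∃ w, w = f v (rv P (e 2)) • rv P (e 1) + f v (rv P (e 1)) • rv P (e 2) := ⟨_, rfl⟩
      have hvw : f v w = 0 := by
        rw [hw, add_right' hf, smul_right' hf, smul_right' hf]
        linear_combination (f v (rv P (e 0)) * f v (rv P (e 1))) * h2
      have hwv : f w v = 0 := by rw [hf.skew, hvw, neg_zero]
      have hvw' : f v w' = 0 := by
        rw [hw', add_right' hf, smul_right' hf, smul_right' hf]
        linear_combination (f v (rv P (e 1)) * f v (rv P (e 2))) * h2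
      have hw'v : f w' v = 0 := by rw [hf.skew, hvw', neg_zero]
      have hww' : f w w' = 0 := by simp [hw, hw', add_left' hf, add_right' hf, smul_left' hf, smul_right' hf, hE]
      -- first conjugate
      have c1 := M.mul_mem (M.mul_mem (hX1 (e 1) (e 0)) hvM) (M.inv_mem (hX1 (e 1) (e 0)))
      rw [conj_sT_iso hf (iso_sX hf _ _ _), sX_mulVec hf (hE _ _), one_mul, one_mul, add_assoc, ← hw,
        show v + w = v + (1 : F) • w by rw [one_smul], sT_add_smul hf hwv, one_mul, one_pow, one_mul] at c1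
      have hZ : sX f w v 1 * sT f w 1 ∈ M := by
        have := M.mul_mem (M.inv_mem hvM) c1
        rwa [mul_assoc (sT f v 1), inv_mul_cancel_left] at this
      have h2' := sX_ratio hf hwv (e := w') hww' hw'v hZ (hX1 (e 2) (e 1)) (iso_sX hf _ _ _)
        (by
          rw [sX_mulVec hf (hE _ _)]
          simp [hw, add_left' hf, smul_left' hf, hE])
        (by rw [sX_mulVec hf (hE _ _), one_mul, one_mul, add_assoc, ← hw'])
      obtain ⟨a₁, ha₁⟩ : ∃ a, a = f v (rv P (e 1)) • rv P (e 0) := ⟨_, rfl⟩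
      have hwa : f w a₁ = 0 := by simp [hw, ha₁, add_left' hf, smul_left' hf, smul_right' hf, hE]
      have hg20 : f (rv P (g 2)) (rv P (e 0)) = 0 := by rw [hGE, if_neg (by decide)]
      have h3' := sX_ratio hf (a := w) (b := w') (e := a₁) (ν := 0) hww' hwa
        (by simp [hw', ha₁, add_right' hf, smul_left' hf, smul_right' hf, hE])
        (by rwa [sT_zero hf, mul_one]) (hX1 (g 2) (e 0)) (iso_sX hf _ _ _)
        (by
          rw [sX_mulVec hf hg20]
          simp [hw, add_left' hf, smul_left' hf, hE, hEG])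
        (by
          rw [sX_mulVec hf hg20, hw', ha₁]
          simp [add_left' hf, smul_left' hf, hE, hEG])
      rw [sX_comm hf hwa] at h3'
      obtain ⟨a₀, ha₀⟩ : ∃ a, a = f v (rv P (e 0)) • rv P (e 2) := ⟨_, rfl⟩
      have ha₁a₀ : f a₁ a₀ = 0 := by simp [ha₁, ha₀, smul_left' hf, smul_right' hf, hE]
      have hg12 : f (rv P (g 1)) (rv P (e 2)) = 0 := by rw [hGE, if_neg (by decide)]
      have h4' := sX_ratio hf (a := a₁) (b := w) (e := a₀) (ν := 0) (by rw [hf.skew, hwa, neg_zero]) ha₁a₀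
        (by simp [hw, ha₀, add_right' hf, smul_left' hf, smul_right' hf, hE])
        (by rwa [sT_zero hf, mul_one]) (hX1 (g 1) (e 2)) (iso_sX hf _ _ _)
        (by
          rw [sX_mulVec hf hg12, ha₁]
          simp [smul_left' hf, hE, hEG])
        (by
          rw [sX_mulVec hf hg12, hw, ha₀]
          simp [add_left' hf, smul_left' hf, hE, hEG])
      rw [ha₁, ha₀, sX_smul_left hf (by rw [smul_right' hf, hE, mul_zero]), sX_smul_right hf (hE 0 2),
        mul_one] at h4'
      refine ⟨_, moveB _ _ _ (h.ee 0 2) (hgood h 0 2 (by decide)).1 (hgood h 0 2 (by decide)).2 h4', ?_⟩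
      rw [he0, he1]
      exact hprod
    · -- odd characteristic
      obtain ⟨E0, hE0⟩ : ∃ z, z = rv P (e 0) := ⟨_, rfl⟩
      obtain ⟨G0, hG0⟩ : ∃ z, z = rv P (g 0) := ⟨_, rfl⟩
      obtain ⟨E1, hE1⟩ : ∃ z, z = rv P (e 1) := ⟨_, rfl⟩
      obtain ⟨G1, hG1⟩ : ∃ z, z = rv P (g 1) := ⟨_, rfl⟩
      have e0g0 : f E0 G0 = 1 := by rw [hE0, hG0, hEG, if_pos rfl]
      have e1g1 : f E1 G1 = 1 := by rw [hE1, hG1, hEG, if_pos rfl]
      have hneg : ∀ {E G : ι → F}, f E G = 1 → sT f E 1 ∈ M → sT f G 1 ∈ M →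
          ∃ H ∈ M, Iso f H ∧ ∀ z, (H : Matrix ι ι F) *ᵥ z = z - (2 * f z G) • E + (2 * f z E) • G := by
        intro E G hEG hE1m hG1m
        have hwM := M.mul_mem (M.mul_mem hE1m hG1m) hE1m
        have hwI : Iso f (sT f E 1 * sT f G 1 * sT f E 1) := ((iso_sT hf _ _).mul (iso_sT hf _ _)).mul (iso_sT hf _ _)
        refine ⟨(sT f E 1 * sT f G 1 * sT f E 1) * (sT f E 1 * sT f G 1 * sT f E 1), M.mul_mem hwM hwM,
          hwI.mul hwI, fun z => ?_⟩
        have hGE : f G E = -1 := by rw [hf.skew, hEG]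
        simp only [mul_mulVec, sT_mulVec hf, add_left' hf, smul_left' hf, hf.alternating, hEG, hGE]
        module
      obtain ⟨H0, hH0M, hH0I, hH0⟩ := hneg e0g0 (hE0 ▸ hT1 _) (hG0 ▸ hT1 _)
      obtain ⟨H1, hH1M, hH1I, hH1⟩ := hneg e1g1 (hE1 ▸ hT1 _) (hG1 ▸ hT1 _)
      have g0e0 : f G0 E0 = -1 := by rw [hf.skew, e0g0]
      have g1e1 : f G1 E1 = -1 := by rw [hf.skew, e1g1]
      have z01 : f E0 E1 = 0 := by rw [hE0, hE1, hE]
      have z01' : f E0 G1 = 0 := by rw [hE0, hG1, hEG]; simp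
      have z10 : f E1 E0 = 0 := by rw [hE0, hE1, hE]
      have z10' : f E1 G0 = 0 := by rw [hE1, hG0, hEG]; simp
      have y01 : f G0 E1 = 0 := by rw [hf.skew, z10', neg_zero]
      have y01' : f G0 G1 = 0 := by rw [hG0, hG1, hG]
      have y10 : f G1 E0 = 0 := by rw [hf.skew, z01', neg_zero]
      have y10' : f G1 G0 = 0 := by rw [hG0, hG1, hG]
      obtain ⟨a, ha⟩ : ∃ a, a = f v G0 • E0 - f v E0 • G0 := ⟨_, rfl⟩
      obtain ⟨b, hb⟩ : ∃ b, b = v - a := ⟨_, rfl⟩
      have hab : f a b = 0 := by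
        simp only [hb, ha, sub_left' hf, sub_right' hf, smul_left' hf, smul_right' hf, hf.alternating, e0g0, g0e0,
          hf.skew E0 v, hf.skew G0 v]
        ring
      have hva : v = b + (1 : F) • a := by rw [hb, one_smul, sub_add_cancel]
      have c1 := M.mul_mem (M.mul_mem hH0M hvM) (M.inv_mem hH0M)
      rw [conj_sT_iso hf hH0I, hH0,
        show v - (2 * f v G0) • E0 + (2 * f v E0) • G0 = b + (-1 : F) • a by rw [hb, ha]; module,
        sT_add_smul hf hab] at c1
      have hvM' := hvM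
      rw [hva, sT_add_smul hf hab] at hvM'
      have h2' : sX f a b (-2) ∈ M := by
        have h1 := M.mul_mem c1 (M.inv_mem hvM')
        have hc : Commute (sX f a b (-2)) (sT f b 1) := by
          rw [sX_comm hf hab]
          exact commute_sX_sT hf (by rw [hf.skew, hab, neg_zero]) _ _
        have e2 : sT f b 1 * sX f a b (-1 * 1) * sT f a ((-1) ^ 2 * 1) *
            (sT f b 1 * sX f a b (1 * 1) * sT f a (1 ^ 2 * 1))⁻¹ = sX f a b (-2) := by
          rw [show ((-1 : F)) ^ 2 * 1 = 1 by ring, show (1 : F) ^ 2 * 1 = 1 by ring,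
            show (-1 : F) * 1 = -2 + 1 by ring, show (1 : F) * 1 = 1 by ring, ← sX_mul hf hab]
          calc sT f b 1 * (sX f a b (-2) * sX f a b 1) * sT f a 1 * (sT f b 1 * sX f a b 1 * sT f a 1)⁻¹
              = sT f b 1 * sX f a b (-2) * (sT f b 1)⁻¹ := by group
            _ = sX f a b (-2) := by rw [← hc.eq, mul_inv_cancel_right]
        rwa [e2] at h1
      obtain ⟨b₁, hb₁⟩ : ∃ b₁, b₁ = f b G1 • E1 - f b E1 • G1 := ⟨_, rfl⟩
      have hae1 : f a E1 = 0 ∧ f a G1 = 0 := by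
        simp [ha, sub_left' hf, smul_left' hf, z01, z01', y01, y01']
      have hab₁ : f a b₁ = 0 := by
        simp [hb₁, sub_right' hf, smul_right' hf, hae1.1, hae1.2]
      have hb₁b : f b₁ b = 0 := by
        simp only [hb₁, sub_left' hf, smul_left' hf, hf.skew E1 b, hf.skew G1 b]
        ring
      have h3' := sX_ratio hf hab (e := (-2 : F) • b₁) (ν := 0) (by rw [smul_right' hf, hab₁, mul_zero])
        (by rw [smul_left' hf, hb₁b, mul_zero]) (by rwa [sT_zero hf, mul_one]) hH1M hH1I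
        (by rw [hH1, hae1.1, hae1.2]; simp) (by rw [hH1, hb₁]; module)
      rw [sX_smul_right hf hab₁] at h3'
      -- isolate the first coordinate
      have hb₁e0 : f b₁ E0 = 0 := by simp [hb₁, sub_left' hf, smul_left' hf, z10, y10]
      have hb₁g0 : f b₁ G0 = 0 := by simp [hb₁, sub_left' hf, smul_left' hf, z10', y10']
      have hfa : f a E0 = f v E0 := by
        simp [ha, sub_left' hf, smul_left' hf, hf.alternating, g0e0]
      have hba : f b₁ a = 0 := by rw [hf.skew, hab₁, neg_zero]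
      rw [sX_comm hf hab₁] at h3'
      have hT0 : sT f E0 1 ∈ M := hE0 ▸ hT1 _
      have c3 := M.mul_mem (M.mul_mem hT0 h3') (M.inv_mem hT0)
      rw [conj_sX hf (iso_sT hf _ _), sT_fix hf hb₁e0, sT_mulVec hf, one_mul, hfa] at c3
      have hbe : f b₁ (f v E0 • E0) = 0 := by rw [smul_right' hf, hb₁e0, mul_zero]
      have hsplit := sX_mul_right hf hba hbe (-2 * -2)
      obtain ⟨ν, hν⟩ : ∃ ν, ν = (-2 * -2 : F) ^ 2 * f (f v E0 • E0) a := ⟨_, rfl⟩
      rw [← hν] at hsplit
      have hW1 : sX f b₁ (f v E0 • E0) (-2 * -2) * (sT f b₁ ν)⁻¹ ∈ M := by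
        have h1 := M.mul_mem (M.inv_mem h3') c3
        have e3 : sX f b₁ (a + f v E0 • E0) (-2 * -2) =
            sX f b₁ a (-2 * -2) * (sX f b₁ (f v E0 • E0) (-2 * -2) * (sT f b₁ ν)⁻¹) := by
          rw [← mul_assoc, hsplit, mul_inv_cancel_right]
        rw [e3, inv_mul_cancel_left] at h1
        exact h1
      rw [sX_smul_right hf hb₁e0, sT_inv hf] at hW1
      have c4 := M.mul_mem (M.mul_mem hH0M hW1) (M.inv_mem hH0M)
      have hH0E : (H0 : Matrix ι ι F) *ᵥ E0 = (-1 : F) • E0 := by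
        rw [hH0, e0g0, hf.alternating]; module
      have hH0b : (H0 : Matrix ι ι F) *ᵥ b₁ = b₁ := by rw [hH0, hb₁e0, hb₁g0]; simp
      rw [show ∀ p q : GL ι F, H0 * (p * q) * H0⁻¹ = (H0 * p * H0⁻¹) * (H0 * q * H0⁻¹) from fun p q => by group,
        conj_sX hf hH0I, conj_sT_iso hf hH0I, hH0E, hH0b, sX_smul_right hf hb₁e0] at c4
      have hP1 : sX f b₁ E0 (8 * f v E0) ∈ M := by
        have h1 := M.mul_mem hW1 (M.inv_mem c4)
        have e4 : sX f b₁ E0 (f v E0 * (-2 * -2)) * sT f b₁ (-ν) *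
            (sX f b₁ E0 (-1 * (f v E0 * (-2 * -2))) * sT f b₁ (-ν))⁻¹ = sX f b₁ E0 (8 * f v E0) := by
          rw [show ∀ p q r : GL ι F, p * q * (r * q)⁻¹ = p * r⁻¹ from fun p q r => by group, sX_inv hf hb₁e0,
            sX_mul hf hb₁e0]
          congr 1
          ring
        rwa [e4] at h1
      rw [sX_comm hf hb₁e0] at hP1
      -- isolate the second coordinate
      have he0b : f E0 b₁ = 0 := by rw [hf.skew, hb₁e0, neg_zero]
      have hb₁e1 : f b₁ E1 = f v E1 := by
        have : f b E1 = f v E1 := by rw [hb, sub_left' hf, hae1.1, sub_zero]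
        simp [hb₁, sub_left' hf, smul_left' hf, hf.alternating, g1e1, this]
      have hT1' : sT f E1 1 ∈ M := hE1 ▸ hT1 _
      have c5 := M.mul_mem (M.mul_mem hT1' hP1) (M.inv_mem hT1')
      rw [conj_sX hf (iso_sT hf _ _), sT_fix hf z01, sT_mulVec hf, one_mul, hb₁e1] at c5
      have hbe' : f E0 (f v E1 • E1) = 0 := by rw [smul_right' hf, z01, mul_zero]
      have hsplit' := sX_mul_right hf he0b hbe' (8 * f v E0)
      obtain ⟨ν', hν'⟩ : ∃ ν, ν = (8 * f v E0) ^ 2 * f (f v E1 • E1) b₁ := ⟨_, rfl⟩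
      rw [← hν'] at hsplit'
      have hW2 : sX f E0 E1 (f v E1 * (8 * f v E0)) * sT f E0 (-ν') ∈ M := by
        have h1 := M.mul_mem (M.inv_mem hP1) c5
        have e5 : sX f E0 (b₁ + f v E1 • E1) (8 * f v E0) =
            sX f E0 b₁ (8 * f v E0) * (sX f E0 (f v E1 • E1) (8 * f v E0) * (sT f E0 ν')⁻¹) := by
          rw [← mul_assoc, hsplit', mul_inv_cancel_right]
        rw [e5, inv_mul_cancel_left, sX_smul_right hf z01, sT_inv hf] at h1
        exact h1
      have h6 := sX_ratio hf (e := rv P (e 2)) z01 (by rw [hE0, hE]) (by rw [hE1, hE]) hW2 (hX1 (g 1) (e 2))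
        (iso_sX hf _ _ _)
        (by
          rw [sX_mulVec hf (by rw [hGE, if_neg (by decide)]), hE0, hE, hEG]
          simp)
        (by
          rw [sX_mulVec hf (by rw [hGE, if_neg (by decide)]), hE1, hE, hEG]
          simp)
      rw [hE0] at h6
      refine ⟨_, moveB _ _ _ (h.ee 0 2) (hgood h 0 2 (by decide)).1 (hgood h 0 2 (by decide)).2 h6, fun hmem => ?_⟩
      refine hprod ?_
      rw [← he0, ← he1]
      have h8' : (8 : F) ≠ 0 := by
        rw [show (8 : F) = 2 * 2 * 2 by norm_num]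
        exact mul_ne_zero (mul_ne_zero h2 h2) h2
      have := div_mem hmem (show (8 : F) ∈ F₀ from by exact_mod_cast natCast_mem F₀ 8)
      rw [hE1] at this
      convert this using 1
      field_simp
  -- a non-rational long scalar
  obtain ⟨μ, hμ, hμ'⟩ : ∃ μ, μ ∈ LA ∧ μ ∉ F₀ := by
    have hsq : μ₀ ^ 2 ∈ LA := by simpa using (rule hμ₀ hA1).2
    by_cases hs : μ₀ ^ 2 ∈ F₀
    swap
    · exact ⟨_, hsq, hs⟩
    have h2μ : 2 * μ₀ ∈ LA := by
      have := hAadd (hAadd (rule (hBadd hμ₀ hB1) hA1).2 (hAneg hA1)) (hAneg hsq)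
      rwa [show (μ₀ + 1) ^ 2 * 1 + -1 + -μ₀ ^ 2 = 2 * μ₀ by ring] at this
    refine ⟨_, h2μ, fun hmem => ?_⟩
    by_cases h2 : (2 : F) = 0
    · haveI : Fintype F₀ := Fintype.ofFinite F₀
      haveI : CharP F 2 := CharTwo.of_one_ne_zero_of_two_eq_zero one_ne_zero h2
      haveI : CharP F₀ 2 := CharTwo.of_one_ne_zero_of_two_eq_zero one_ne_zero (Subtype.ext h2)
      obtain ⟨r, hr⟩ := FiniteField.isSquare_of_char_two (ringChar.eq F₀ 2) (⟨μ₀ ^ 2, hs⟩ : F₀)
      have hr' : μ₀ * μ₀ = (r : F) * r := by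
        have := congrArg Subtype.val hr
        simpa [sq] using this
      rcases mul_self_eq_mul_self_iff.mp hr' with h' | h'
      · exact hμ₀' (h' ▸ r.2)
      · exact hμ₀' (h' ▸ neg_mem r.2)
    · have := div_mem hmem (show (2 : F) ∈ F₀ from by exact_mod_cast natCast_mem F₀ 2)
      rw [mul_div_cancel_left₀ μ₀ h2] at this
      exact hμ₀' this
  -- all scalars are short
  let R : Subfield F :=
    { carrier := {z | ∀ b ∈ LB, z * b ∈ LB}
      one_mem' := fun b hb => by rwa [one_mul]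
      mul_mem' := fun {a c} ha hc b hb => by rw [mul_assoc]; exact ha _ (hc b hb)
      zero_mem' := fun b _ => by rw [zero_mul]; exact hB0 0
      add_mem' := fun {a c} ha hc b hb => by rw [add_mul]; exact hBadd (ha b hb) (hc b hb)
      neg_mem' := fun {a} ha b hb => by rw [neg_mul]; exact hBneg (ha b hb)
      inv_mem' := by
        intro a ha b hb
        by_cases h0 : a = 0
        · rw [h0, _root_.inv_zero, zero_mul]; exact hB0 0
        have hinj : Function.Injective (fun z : LB => (⟨a * z, ha _ z.2⟩ : LB)) := fun z z' h =>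
          Subtype.ext (mul_left_cancel₀ h0 (congrArg Subtype.val h))
        obtain ⟨⟨z, hz⟩, hzb⟩ := Finite.injective_iff_surjective.mp hinj ⟨b, hb⟩
        rw [← show a * z = b from congrArg Subtype.val hzb, inv_mul_cancel_left₀ h0]
        exact hz }
  have hAR : ∀ {c}, c ∈ LA → c ∈ R := fun hc b hb => by rw [mul_comm]; exact (rule hb hc).1
  have htop : R = ⊤ := hgen R (lt_of_le_not_ge (fun c hc => hAR (hA0 ⟨c, hc⟩)) fun h => hμ' (h (hAR hμ)))
  have hallB : ∀ l, l ∈ LB := fun l => by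
    have h : l ∈ R := by rw [htop]; trivial
    simpa using h 1 hB1
  have hallA : ∀ l, l ∈ LA := by
    intro l
    by_cases h2 : (2 : F) = 0
    · haveI : CharP F 2 := CharTwo.of_one_ne_zero_of_two_eq_zero one_ne_zero h2
      obtain ⟨r, hr⟩ := FiniteField.isSquare_of_char_two (ringChar.eq F 2) l
      rw [hr, ← sq]
      simpa using (rule (hallB r) hA1).2
    · have h1 := (rule (hallB (l / 2)) hA1).2
      have h3 := hAadd (hAadd (rule (hallB (l / 2 + 1)) hA1).2 (hAneg hA1)) (hAneg h1)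
      rwa [show (l / 2 + 1) ^ 2 * 1 + -1 + -((l / 2) ^ 2 * 1) = l by field_simp; ring] at h3
  -- spreading
  have hstep : ∀ x (w : ι → F₀) (d : F), Full f M x → Full f M (x + d • rv P w) := by
    intro x w d hx
    have hw : Full f M (rv P w) := fun c => (hLA c).mp (hallA c) w
    by_cases h : f x (rv P w) = 0
    swap
    · exact full_add_smul hf hx hw h d
    by_cases hw0 : w = 0
    · rw [hw0, rv_zero, smul_zero, add_zero]; exact hx
    by_cases hex : ∃ w', rForm hR w w' = 0 ∧ f x (rv P w') ≠ 0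
    · obtain ⟨w', hww', hxw'⟩ := hex
      have hws : w ∉ Submodule.span F₀ {w'} := fun hm => by
        obtain ⟨j, hj⟩ := Submodule.mem_span_singleton.mp hm
        rw [← hj, rv_smul, smul_right' hf, mul_eq_zero, or_iff_left hxw'] at h
        exact hw0 (by rw [← hj, show j = 0 from Subtype.ext h, zero_smul])
      have hw'0 : w' ≠ 0 := fun h0 => hxw' (by rw [h0, rv_zero, zero_right' hf])
      have hmem := (hLB _).mp (hallB (d / f x (rv P w'))) w w' hww' hws hw'0
      have h1 := full_conj hf hmem (iso_sX hf _ _ _) hx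
      rwa [sX_mulVec hf (hfz hww'), h, mul_zero, zero_smul, add_zero, div_mul_cancel₀ d hxw'] at h1
    simp only [not_exists, not_and, not_not] at hex
    -- then x is a multiple of the rational vector
    obtain ⟨z, hz⟩ : ∃ z, rForm hR w z ≠ 0 := (hB.nondegenerate w hw0).2
    have hz' : f (rv P w) (rv P z) ≠ 0 := fun h0 => hz (Subtype.ext h0)
    obtain ⟨k, hk⟩ : ∃ k, k = f x (rv P z) / f (rv P w) (rv P z) := ⟨_, rfl⟩
    have hxk : x = k • rv P w := by
      refine sub_eq_zero.mp (eq_zero_of_rv (F₀ := F₀) (P := P) hf fun u => ?_)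
      have h2 := hex (u - (rForm hR w u / rForm hR w z) • z) (by
        rw [sub_right' hB, smul_right' hB, div_mul_cancel₀ _ hz, sub_self])
      have hrv : rv P (u - (rForm hR w u / rForm hR w z) • z) =
          rv P u - ((rForm hR w u / rForm hR w z : F₀) : F) • rv P z :=
        eq_sub_of_add_eq (by rw [← rv_smul, ← rv_add, sub_add_cancel])
      rw [hrv, sub_right' hf, smul_right' hf] at h2
      rw [hf.skew, sub_left' hf, smul_left' hf, hk]
      simp only [rForm, Subfield.coe_div] at h2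
      field_simp at h2 ⊢
      linear_combination -h2
    rw [hxk, ← add_smul]
    exact full_smul hf hw _
  intro x
  have hspan : ∀ (y : ι → F) (w : Finset ι), Full f M (∑ i ∈ w, y i • rv P (Pi.single i 1 : ι → F₀)) := by
    intro y w
    induction w using Finset.induction_on with
    | empty => rw [Finset.sum_empty]; exact full_zero hf
    | @insert i w hi ih => rw [Finset.sum_insert hi, add_comm]; exact hstep _ _ _ ih
  obtain ⟨y, rfl⟩ : ∃ y, (P : Matrix ι ι F) *ᵥ y = x := ⟨_, mulVec_inv_cancel P x⟩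
  have hy : (P : Matrix ι ι F) *ᵥ y = ∑ i, y i • rv P (Pi.single i 1 : ι → F₀) := by
    simp only [rv, coeVec_single, ← mulVec_smul, ← mulVec_sum]
    congr 1
    funext j
    simp [Finset.sum_apply, Pi.single_apply]
  rw [hy]
  exact hspan y _

end CfsgLib.Transvec.SpSubfield
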