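/-
Subgroups containing the Siegel elements of two symmetric forms, dimension at least nine.
-/
import Cfsg.Agent.Lib.Transvec.OrthOverSL

set_option autoImplicit false
set_option linter.all false

namespace CfsgLib.Transvec.OrthOverSL

open Matrix CfsgLib.Transvec
open scoped MatrixGroups

variable {ι : Type} [Fintype ι] [DecidableEq ι] {F : Type*} [Field F]
  {B : LinearMap.BilinForm F (ι → F)} (hB : IsSymForm B)
include hB
variable [Finite F] {R : (ι → F) → (ι → F) → Prop}

lemma rel_all_nine (hR : Rel B R) (hn : 9 ≤ Fintype.card ι) {v z : ι → F} (hvz : B v z = 0) (h : R v z)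
    (hv : v ∉ Submodule.span F {z}) {a'' : ι → F} (ha : B a'' a'' = 0) (haz : B a'' z = 0) : R a'' z := by
  by_cases ha0 : a'' ∈ Submodule.span F {z}
  · -- reach a multiple of the second vector through an independent vector
    obtain ⟨a, haP, haa, haE⟩ := exists_sing_avoid hB (Submodule.span F {x | x ∈ [bvec B z, bvec B v]})
      (Submodule.span F {x | x ∈ [z, v]}) (by
        have := finrank_span_list_le [bvec B z, bvec B v]
        have := finrank_span_list_le [z, v]
        simp at *
        omega)
    have h1 := haP (bvec B z) (Submodule.subset_span (by simp))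
    have h2 := haP (bvec B v) (Submodule.subset_span (by simp))
    rw [bvec_dot] at h1 h2
    have hRa : R a z := rel_step hB hR (by omega) hvz h haa h1 h2 (fun hm => by
      obtain ⟨i, j, hij⟩ := Submodule.mem_span_pair.mp hm
      by_cases hj : j = 0
      · exact hv (Submodule.mem_span_singleton.mpr ⟨i, by rw [← hij, hj, zero_smul, add_zero]⟩)
      · refine haE (show a ∈ Submodule.span F {x | x ∈ [z, v]} from ?_)
        have : a = j⁻¹ • v - (j⁻¹ * i) • z := by rw [← hij, smul_add, smul_smul, inv_smul_smul₀ hj]; abel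
        rw [this]
        exact Submodule.sub_mem _ (Submodule.smul_mem _ _ (Submodule.subset_span (by simp)))
          (Submodule.smul_mem _ _ (Submodule.subset_span (by simp))))
    obtain ⟨k, hk⟩ := Submodule.mem_span_singleton.mp ha0
    refine rel_step hB hR (by omega) h1 hRa ha haz
      (by rw [← hk, map_smul, LinearMap.smul_apply, hB.symm z a, h1, smul_zero]) fun hm => haE ?_
    obtain ⟨i, j, hij⟩ := Submodule.mem_span_pair.mp hm
    have : a = (i + j * k) • z := by rw [← hij, ← hk, add_smul, mul_smul]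
    rw [this]
    exact Submodule.smul_mem _ _ (Submodule.subset_span (by simp))
  obtain ⟨a, haP, haa, haE⟩ := exists_sing_avoid hB
    (Submodule.span F {x | x ∈ [bvec B z, bvec B v, bvec B a'']}) (Submodule.span F {x | x ∈ [z, v, a'']}) (by
      have := finrank_span_list_le [bvec B z, bvec B v, bvec B a'']
      have := finrank_span_list_le [z, v, a'']
      simp at *
      omega)
  have h1 := haP (bvec B z) (Submodule.subset_span (by simp))
  have h2 := haP (bvec B v) (Submodule.subset_span (by simp))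
  have h3 := haP (bvec B a'') (Submodule.subset_span (by simp))
  rw [bvec_dot] at h1 h2 h3
  have hRa : R a z := rel_step hB hR (by omega) hvz h haa h1 h2 (fun hm => by
    obtain ⟨i, j, hij⟩ := Submodule.mem_span_pair.mp hm
    by_cases hj : j = 0
    · exact hv (Submodule.mem_span_singleton.mpr ⟨i, by rw [← hij, hj, zero_smul, add_zero]⟩)
    · refine haE ?_
      have : a = j⁻¹ • v - (j⁻¹ * i) • z := by rw [← hij, smul_add, smul_smul, inv_smul_smul₀ hj]; abel
      rw [this]
      exact Submodule.sub_mem _ (Submodule.smul_mem _ _ (Submodule.subset_span (by simp)))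
        (Submodule.smul_mem _ _ (Submodule.subset_span (by simp))))
  refine rel_step hB hR (by omega) h1 hRa ha haz (by rw [hB.symm]; exact h3) fun hm => haE ?_
  obtain ⟨i, j, hij⟩ := Submodule.mem_span_pair.mp hm
  rw [← hij]
  exact Submodule.add_mem _ (Submodule.smul_mem _ _ (Submodule.subset_span (by simp)))
    (Submodule.smul_mem _ _ (Submodule.subset_span (by simp)))

variable {M : Subgroup (GL ι F)}
  (hX : ∀ a b, B a a = 0 → B b b = 0 → B a b = 0 → oX B a b ∈ M)
include hX

/-- One transvection with a singular axis generates all of them. -/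
theorem all_transv_nine (hn : 9 ≤ Fintype.card ι) {v0 z0 : ι → F} (hz0ne : z0 ≠ 0) (hvz : B v0 z0 = 0)
    (hv0 : v0 ∉ Submodule.span F {z0}) (h : transv v0 (bvec B z0) ∈ M) :
    ∀ v φ : ι → F, φ ⬝ᵥ v = 0 → transv v φ ∈ M := by
  have hc := rel_centre hB hX
  have ha := rel_axis hB hX
  -- singular centre and singular axis
  have hss : ∀ z x, B z z = 0 → B x x = 0 → B x z = 0 → transv x (bvec B z) ∈ M := by
    intro z x hz hx hxz
    obtain ⟨y, hyP, hyy, hyE⟩ := exists_sing_avoid hB (Submodule.span F {w | w ∈ [bvec B z0, bvec B z]})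
      (Submodule.span F {w | w ∈ [z0, z]}) (by
        have := finrank_span_list_le [bvec B z0, bvec B z]
        have := finrank_span_list_le [z0, z]
        simp at *
        omega)
    have h1 := hyP (bvec B z0) (Submodule.subset_span (by simp))
    have h2 := hyP (bvec B z) (Submodule.subset_span (by simp))
    rw [bvec_dot] at h1 h2
    have k1 : transv y (bvec B z0) ∈ M := rel_all_nine hB hc hn hvz h hv0 hyy h1
    by_cases hz00 : z0 ∈ Submodule.span F {y}
    · exfalso
      obtain ⟨k, hk⟩ := Submodule.mem_span_singleton.mp hz00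
      by_cases hk0 : k = 0
      · rw [hk0, zero_smul] at hk
        exact hz0ne hk.symm
      · exact hyE (by
          have : y = k⁻¹ • z0 := by rw [← hk, inv_smul_smul₀ hk0]
          rw [this]; exact Submodule.smul_mem _ _ (Submodule.subset_span (by simp)))
    have k2 : transv y (bvec B z) ∈ M := rel_all_nine hB ha hn (by rw [hB.symm, h1]) k1 hz00 hz (by rw [hB.symm, h2])
    exact rel_all_nine hB hc hn h2 k2 (fun hm => hyE (Submodule.span_mono (by simp) hm)) hx hxz
  -- arbitrary centre
  have hsc : ∀ z, B z z = 0 → ∀ x, B x z = 0 → ∀ c : F, transv (c • x) (bvec B z) ∈ M := by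
    intro z hz x hxz
    have hx : x ∈ perpD (Submodule.span F {w | w ∈ [bvec B z]}) :=
      perpD_span_le fun φ hφ => by simp at hφ; rw [hφ, bvec_dot, hxz]
    have hx2 := perpD_le_span hB _ (by have := finrank_span_list_le [bvec B z]; simp at *; omega) hx
    refine (Submodule.span_induction (p := fun y _ => B y z = 0 ∧ ∀ c : F, transv (c • y) (bvec B z) ∈ M)
      ?_ ?_ ?_ ?_ hx2).2
    · rintro y ⟨hy, hyy⟩
      have hyz : B y z = 0 := by rw [← bvec_dot]; exact hy _ (Submodule.subset_span (by simp))
      exact ⟨hyz, fun c => hss z _ hz (by simp [hyy]) (by simp [hyz])⟩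
    · exact ⟨by simp, fun c => by
        have := hss z 0 hz (by simp) (by simp)
        simpa using this⟩
    · intro y y' _ _ hy hy'
      refine ⟨by simp [hy.1, hy'.1], fun c => ?_⟩
      rw [smul_add, ← transv_add_left (by rw [bvec_dot]; simp [hy.1]) (by rw [bvec_dot]; simp [hy'.1])]
      exact M.mul_mem (hy.2 c) (hy'.2 c)
    · intro a y _ hy
      exact ⟨by simp [hy.1], fun c => by rw [smul_smul]; exact hy.2 _⟩
  intro v φ hφ
  have hφ' : φ ∈ perpD (Submodule.span F {w | w ∈ [v]}) := perpD_span_le fun w hw => by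
    simp at hw; rw [hw, dotProduct_comm, hφ]
  -- express the axis by singular vectors
  obtain ⟨z, rfl⟩ : ∃ z, bvec B z = φ :=
    (Finite.injective_iff_surjective.mp (bvec_injective hB)) φ
  have hz : z ∈ perpD (Submodule.span F {w | w ∈ [bvec B v]}) :=
    perpD_span_le fun w hw => by simp at hw; rw [hw, bvec_dot, hB.symm, ← bvec_dot, hφ]
  have hz2 := perpD_le_span hB _ (by have := finrank_span_list_le [bvec B v]; simp at *; omega) hz
  have key : B v z = 0 ∧ ∀ c : F, transv v (bvec B (c • z)) ∈ M := by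
    refine Submodule.span_induction (p := fun y _ => B v y = 0 ∧ ∀ c : F, transv v (bvec B (c • y)) ∈ M)
      ?_ ?_ ?_ ?_ hz2
    · rintro y ⟨hy, hyy⟩
      have hvy : B v y = 0 := by rw [hB.symm, ← bvec_dot]; exact hy _ (Submodule.subset_span (by simp))
      exact ⟨hvy, fun c => by
        have := hsc (c • y) (by simp [hyy]) v (by simp [hvy]) 1
        rwa [one_smul] at this⟩
    · exact ⟨by simp, fun c => by rw [smul_zero, map_zero, transv_zero]; exact M.one_mem⟩
    · intro y y' _ _ hy hy'
      refine ⟨by simp [hy.1, hy'.1], fun c => ?_⟩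
      rw [smul_add, map_add, ← transv_mul (by rw [bvec_dot]; simp [hy.1]) (by rw [bvec_dot]; simp [hy'.1])]
      exact M.mul_mem (hy.2 c) (hy'.2 c)
    · intro a y _ hy
      exact ⟨by simp [hy.1], fun c => by rw [smul_smul]; exact hy.2 _⟩
  have := key.2 1
  rwa [one_smul] at this

/-- The Siegel elements of two non-proportional forms give a transvection. -/
theorem exists_transv_nine (hn : 9 ≤ Fintype.card ι) {B' : LinearMap.BilinForm F (ι → F)} (hB' : IsSymForm B')
    (hX' : ∀ a b, B' a a = 0 → B' b b = 0 → B' a b = 0 → oX B' a b ∈ M)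
    (hne : ∀ l : F, ∃ x, bvec B' x ≠ l • bvec B x) :
    ∃ v z : ι → F, z ≠ 0 ∧ B v z = 0 ∧ v ∉ Submodule.span F {z} ∧ transv v (bvec B z) ∈ M := by
  classical
  -- a singular vector moved by the second form
  obtain ⟨w, hww, hw⟩ : ∃ w, B w w = 0 ∧ bvec B' w ∉ Submodule.span F {bvec B w} := by
    by_contra hcon
    simp only [not_exists, not_and, not_not] at hcon
    have hbot : 2 * Module.finrank F (⊥ : Submodule F (ι → F)) + 3 ≤ Fintype.card ι := by rw [finrank_bot]; omega
    have hlam : ∀ x, B x x = 0 → ∃ l : F, l • bvec B x = bvec B' x := fun x hx =>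
      Submodule.mem_span_singleton.mp (hcon x hx)
    choose lam hlam using hlam
    have heq : ∀ a ha b hb, B a b ≠ 0 → lam a ha = lam b hb := by
      intro a ha b hb hab
      have h1 : B' b a = lam a ha * B b a := by rw [← bvec_dot, ← hlam a ha, smul_dotProduct, bvec_dot, smul_eq_mul]
      have h2 : B' a b = lam b hb * B a b := by rw [← bvec_dot, ← hlam b hb, smul_dotProduct, bvec_dot, smul_eq_mul]
      rw [hB'.symm, hB.symm b a, h2] at h1
      exact (mul_right_cancel₀ hab h1).symm
    obtain ⟨a, -, haa, ha0⟩ := exists_sing_avoid hB ⊥ ⊥ (by rw [finrank_bot]; omega)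
    rw [Submodule.mem_bot] at ha0
    obtain ⟨c, -, hcc, hac⟩ := exists_sing hB ⊥ hbot (φ := bvec B a) (fun hm => ha0 (bvec_injective hB (by
      rw [(Submodule.mem_bot F).mp hm, map_zero])))
    rw [bvec_dot, hB.symm] at hac
    obtain ⟨x, hx⟩ := hne (lam a haa)
    refine hx ?_
    have hall : ∀ b, B b b = 0 → bvec B' b = lam a haa • bvec B b := by
      intro b hbb
      by_cases h0 : b = 0
      · simp [h0]
      by_cases hba : B b a = 0
      swap
      · rw [← hlam b hbb, heq b hbb a haa hba]
      by_cases hbc : B b c = 0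
      swap
      · rw [← hlam b hbb, heq b hbb c hcc hbc, heq a haa c hcc hac]
      have hs : B (a + b) (a + b) = 0 := by simp [haa, hbb, hba, hB.symm a b]
      have hsc : B (a + b) c ≠ 0 := by simp [hbc, hac]
      have h1 := hlam (a + b) hs
      rw [heq (a + b) hs c hcc hsc, ← heq a haa c hcc hac, map_add, map_add, smul_add, hlam a haa] at h1
      exact (add_left_cancel h1).symm
    have hspan := perpD_le_span hB ⊥ hbot (x := x) (fun φ hφ => by rw [(Submodule.mem_bot F).mp hφ, zero_dotProduct])
    refine Submodule.span_induction (p := fun y _ => bvec B' y = lam a haa • bvec B y) ?_ ?_ ?_ ?_ hspan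
    · exact fun y hy => hall y hy.2
    · simp
    · intro y y' _ _ hy hy'; rw [map_add, map_add, hy, hy', smul_add]
    · intro k y _ hy; rw [map_smul, map_smul, hy, smul_comm]
  obtain ⟨z, hz, hz1⟩ := exists_functional hw
  have hzw : B z w = 0 := by
    rw [← bvec_dot, dotProduct_comm]; exact hz _ (Submodule.mem_span_singleton_self _)
  obtain ⟨u, huP, huu, hu0⟩ := exists_sing_avoid hB
    (Submodule.span F {x | x ∈ [bvec B w, bvec B z, bvec B' z]}) ⊥ (by
      have := finrank_span_list_le [bvec B w, bvec B z, bvec B' z]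
      simp at *
      omega)
  rw [Submodule.mem_bot] at hu0
  have huw := huP (bvec B w) (Submodule.subset_span (by simp))
  have huz := huP (bvec B z) (Submodule.subset_span (by simp))
  have huz' := huP (bvec B' z) (Submodule.subset_span (by simp))
  rw [bvec_dot] at huw huz huz'
  obtain ⟨Φ, hΦ⟩ : ∃ Φ, Φ = Submodule.span F {x | x ∈ [bvec B u, bvec B w, bvec B' u]} := ⟨_, rfl⟩
  have hwΦ : bvec B' w ∉ Φ := by
    intro hm
    have : z ∈ perpD Φ := by
      rw [hΦ]
      refine perpD_span_le fun φ hφ => ?_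
      simp at hφ
      rcases hφ with rfl | rfl | rfl <;> rw [bvec_dot]
      · rw [hB.symm, huz]
      · exact hzw
      · rw [hB'.symm, huz']
    have h1 := this _ hm
    rw [dotProduct_comm, hz1] at h1
    exact one_ne_zero h1
  obtain ⟨w0, hw0P, hw0s, hw0⟩ := exists_sing hB' Φ (by
    have h1 : Module.finrank F Φ ≤ 3 := hΦ ▸ finrank_span_list_le _
    omega) hwΦ
  rw [bvec_dot, hB'.symm] at hw0
  obtain ⟨w', hw'⟩ : ∃ w', w' = (B' w w0)⁻¹ • w0 := ⟨_, rfl⟩
  obtain ⟨Φ1, hΦ1⟩ : ∃ Φ1, Φ1 = Φ ⊔ Submodule.span F {x | x ∈ [bvec B' w, bvec B' w0]} := ⟨_, rfl⟩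
  obtain ⟨v, hvP, hvv, hvE⟩ := exists_sing_avoid hB' Φ1 (Submodule.span F {u}) (by
    have h1 : Module.finrank F Φ ≤ 3 := hΦ ▸ finrank_span_list_le _
    have h2 := Submodule.finrank_add_le_finrank_add_finrank Φ (Submodule.span F {x | x ∈ [bvec B' w, bvec B' w0]})
    have h3 := finrank_span_list_le [bvec B' w, bvec B' w0]
    rw [← hΦ1] at h2
    rw [finrank_span_singleton hu0]
    simp at h3
    omega)
  have hin : ∀ φ ∈ [bvec B u, bvec B w, bvec B' u], φ ∈ Φ := fun φ hφ => hΦ ▸ Submodule.subset_span hφ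
  have hkill : ∀ x, (x = v ∨ x = w') → B x u = 0 ∧ B x w = 0 ∧ B' x u = 0 := by
    intro x hx
    have hxP : x ∈ perpD Φ := by
      rcases hx with rfl | rfl
      · exact fun φ hφ => hvP φ (hΦ1 ▸ Submodule.mem_sup_left hφ)
      · rw [hw']; exact (perpD Φ).smul_mem _ hw0P
    exact ⟨by rw [← bvec_dot]; exact hxP _ (hin _ (by simp)), by rw [← bvec_dot]; exact hxP _ (hin _ (by simp)),
      by rw [← bvec_dot]; exact hxP _ (hin _ (by simp))⟩
  obtain ⟨hvu, hvw, hvu'⟩ := hkill v (Or.inl rfl)
  obtain ⟨hw'u, hw'w, hw'u'⟩ := hkill w' (Or.inr rfl)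
  have hvw' : B' v w = 0 := by
    rw [← bvec_dot]; exact hvP _ (hΦ1 ▸ Submodule.mem_sup_right (Submodule.subset_span (by simp)))
  have hw'w' : B' w w' = 1 := by rw [hw', map_smul, smul_eq_mul, inv_mul_cancel₀ hw0]
  have hw's : B' w' w' = 0 := by simp [hw', hw0s]
  have hvv' : B' v w' = 0 := by
    rw [hw', map_smul, ← bvec_dot B' w0 v, hvP _ (hΦ1 ▸ Submodule.mem_sup_right (Submodule.subset_span (by simp))),
      smul_zero]
  refine ⟨v, -u, by simp [hu0], by simp [hvu], fun hm => hvE ?_, ?_⟩
  · obtain ⟨k, hk⟩ := Submodule.mem_span_singleton.mp hm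
    exact Submodule.mem_span_singleton.mpr ⟨-k, by rw [← hk, neg_smul, smul_neg]⟩
  have h1 := hX u w huu hww huw
  have h2 := hX' v w' hvv hw's hvv'
  have e : oX B' v w' * oX B u w = oX B u w * oX B' v w' * transv v (bvec B (-u)) := by
    refine gl_ext fun x => ?_
    simp only [mul_mulVec, oX_mulVec hB hww huw, oX_mulVec hB' hw's hvv',
      map_neg, transv_mulVec (v := v) (φ := -bvec B u) (by rw [neg_dotProduct, bvec_dot, hvu, neg_zero]), neg_dotProduct, bvec_dot,
      map_add, map_sub, map_smul, LinearMap.add_apply, LinearMap.sub_apply, LinearMap.smul_apply, smul_eq_mul,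
      hvu, hvw, hw'u, hw'w, hvv, hvv', hB'.symm u v, hvu', hB'.symm u w', hw'u', hB'.symm w v, hvw', hw'w']
    module
  have h3 := M.mul_mem (M.inv_mem (M.mul_mem h1 h2)) (M.mul_mem h2 h1)
  rwa [e, inv_mul_cancel_left] at h3

end CfsgLib.Transvec.OrthOverSL
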